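import Mathlib.GroupTheory.Sylow
import Mathlib.GroupTheory.Solvable
import Mathlib.GroupTheory.Nilpotent
import Mathlib.GroupTheory.Frattini

/-!
# Elementary facts on finite solvable and nilpotent groups

* `exists_center_ne_bot`: normal subgroups of nilpotent groups meet the centre;
* `isNilpotent_of_frattini`: nilpotency lifts over the Frattini subgroup;
* `exists_minimal_normal`, `isMulCommutative_of_minimal`, `exists_prime_of_minimal`;
* `index_mul_of_coprime`, `exists_mul_of_coprime_index`.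
-/

namespace Cfsg.Agent.Solvable

open Subgroup

theorem inf_center_ne_bot {G : Type*} [Group G] [Group.IsNilpotent G] {N : Subgroup G}
    [N.Normal] (hN : N ≠ ⊥) : N ⊓ center G ≠ ⊥ := by
  classical
  obtain ⟨c, hc⟩ := Group.IsNilpotent.nilpotent (G := G)
  have hex : ∃ k, N ⊓ Subgroup.upperCentralSeries G k ≠ ⊥ := ⟨c, by rw [hc, inf_top_eq]; exact hN⟩
  have h0 : Nat.find hex ≠ 0 := fun h0 => by
    have := Nat.find_spec hex
    rw [h0, Subgroup.upperCentralSeries_zero, inf_bot_eq] at this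
    exact this rfl
  obtain ⟨k, hk⟩ := Nat.exists_eq_succ_of_ne_zero h0
  have hk0 : N ⊓ Subgroup.upperCentralSeries G k = ⊥ := by
    have := Nat.find_min hex (show k < Nat.find hex by omega)
    simpa using this
  have hsp := Nat.find_spec hex
  rw [hk] at hsp
  intro hbot
  apply hsp
  rw [eq_bot_iff_forall]
  intro x hx
  rw [mem_inf] at hx
  have hxc : x ∈ center G := by
    rw [mem_center_iff]
    intro y
    have h1 := Subgroup.mem_upperCentralSeries_succ_iff.1 hx.2 y
    rw [commutatorElement_def] at h1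
    have h2 : x * y * x⁻¹ * y⁻¹ ∈ N := by
      have := mul_mem hx.1 (Normal.conj_mem inferInstance _ (inv_mem hx.1) y)
      simpa [mul_assoc] using this
    have h3 : x * y * x⁻¹ * y⁻¹ ∈ N ⊓ Subgroup.upperCentralSeries G k := ⟨h2, h1⟩
    rw [hk0, mem_bot, mul_inv_eq_one, mul_inv_eq_iff_eq_mul] at h3
    exact h3.symm
  exact (eq_bot_iff_forall _).1 hbot x ⟨hx.1, hxc⟩

/-- If `Φ(G) ≤ X ⊴ G` and `X/Φ(G)` is nilpotent, so is `X`. -/
theorem isNilpotent_of_frattini {G : Type*} [Group G] [Finite G] (X : Subgroup G) [X.Normal]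
    (hX : frattini G ≤ X) (h : Group.IsNilpotent (X.map (QuotientGroup.mk' (frattini G)))) :
    Group.IsNilpotent X := by
  rw [(Group.isNilpotent_of_finite_tfae (G := X)).out 0 3 rfl rfl]
  intro p hp P
  set f := QuotientGroup.mk' (frattini G)
  let P' : Sylow p (X.map f) := P.mapSurjective (f.subgroupMap_surjective X)
  have hP'n : (P' : Subgroup (X.map f)).Normal :=
    ((Group.isNilpotent_of_finite_tfae (G := X.map f)).out 0 3 rfl rfl).1 h p hp P'
  have := P'.characteristic_of_normal hP'n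
  have : (X.map f).Normal := Normal.map inferInstance f (QuotientGroup.mk'_surjective _)
  have h1 : (((P : Subgroup X).map X.subtype).map f).Normal := by
    have h2 : ((P' : Subgroup (X.map f)).map (X.map f).subtype).Normal := inferInstance
    have h3 : (P' : Subgroup (X.map f)).map (X.map f).subtype =
        ((P : Subgroup X).map X.subtype).map f := by
      rw [Sylow.coe_mapSurjective, map_map, map_map]
      rfl
    rwa [h3] at h2
  set W := (((P : Subgroup X).map X.subtype).map f).comap f with hW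
  have : W.Normal := h1.comap f
  have hWX : W ≤ X := by
    rw [hW, comap_map_eq, QuotientGroup.ker_mk']
    exact sup_le (map_subtype_le _) hX
  let P₀ : Subgroup G := (P : Subgroup X).map X.subtype
  have hP₀W : P₀ ≤ W := le_comap_map f _
  have hsub : P₀.subgroupOf X = P := comap_map_eq_self_of_injective X.subtype_injective _
  -- `P` is a Sylow subgroup of `W`
  let PW : Sylow p W := P.comapOfInjective (Subgroup.inclusion hWX) (inclusion_injective hWX)
    (fun x hx => ⟨⟨x, hP₀W (mem_map_of_mem _ hx)⟩, rfl⟩)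
  have hPW : (PW : Subgroup W).map W.subtype = P₀ := by
    show ((P : Subgroup X).comap (Subgroup.inclusion hWX)).map W.subtype = P₀
    ext x
    constructor
    · rintro ⟨y, hy, rfl⟩
      exact ⟨Subgroup.inclusion hWX y, hy, rfl⟩
    · rintro ⟨y, hy, rfl⟩
      exact ⟨⟨y, hP₀W (mem_map_of_mem _ hy)⟩, hy, rfl⟩
  have h2 := PW.normalizer_sup_eq_top
  rw [hPW] at h2
  have h3 : normalizer (P₀ : Set G) ⊔ frattini G = ⊤ := by
    refine top_le_iff.1 (h2.ge.trans (sup_le le_sup_left ?_))
    rw [hW, comap_map_eq, QuotientGroup.ker_mk']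
    exact sup_le (le_sup_of_le_left le_normalizer) le_sup_right
  have hn : P₀.Normal := normalizer_eq_top_iff.1 (frattini_nongenerating h3)
  exact hn.of_map_subtype

theorem exists_minimal_normal {G : Type*} [Group G] [Finite G] {K : Subgroup G} [hKn : K.Normal]
    (hK : K ≠ ⊥) : ∃ N : Subgroup G, N.Normal ∧ N ≤ K ∧ N ≠ ⊥ ∧
      ∀ M : Subgroup G, M.Normal → M ≤ N → M = ⊥ ∨ M = N := by
  obtain ⟨N, hN⟩ := Set.Finite.exists_minimal
    (s := {N : Subgroup G | N.Normal ∧ N ≤ K ∧ N ≠ ⊥}) (Set.toFinite _) ⟨K, hKn, le_rfl, hK⟩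
  refine ⟨N, hN.1.1, hN.1.2.1, hN.1.2.2, fun M hMn hMN => ?_⟩
  by_cases h : M = ⊥
  · exact Or.inl h
  · exact Or.inr (le_antisymm hMN (hN.2 ⟨hMn, hMN.trans hN.1.2.1, h⟩ hMN))

theorem isMulCommutative_of_minimal {G : Type*} [Group G] {N : Subgroup G} [hNn : N.Normal]
    (hs : Group.IsSolvable N) (hN : N ≠ ⊥)
    (hmin : ∀ M : Subgroup G, M.Normal → M ≤ N → M = ⊥ ∨ M = N) : IsMulCommutative N := by
  have hn : (⁅N, N⁆ : Subgroup G).Normal := inferInstance
  rcases hmin _ hn (commutator_le_left N N) with h | h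
  · exact commutator_self_eq_bot_iff.1 h
  · exfalso
    have : Nontrivial N := (nontrivial_iff_ne_bot N).2 hN
    have := Group.IsSolvable.commutator_lt_top_of_nontrivial (G := N)
    refine this.ne (map_injective N.subtype_injective ?_)
    rw [map_subtype_commutator, h, ← MonoidHom.range_eq_map, range_subtype]

theorem exists_prime_of_minimal {G : Type*} [Group G] [Finite G] {N : Subgroup G} [hNn : N.Normal]
    [IsMulCommutative N] (hN : N ≠ ⊥)
    (hmin : ∀ M : Subgroup G, M.Normal → M ≤ N → M = ⊥ ∨ M = N) :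
    ∃ p : ℕ, p.Prime ∧ (∀ x ∈ N, x ^ p = 1) ∧ IsPGroup p N := by
  obtain ⟨p, hp, hpd⟩ :=
    Nat.exists_prime_and_dvd (fun h => hN (Subgroup.card_eq_one.1 h) : Nat.card N ≠ 1)
  have := Fact.mk hp
  have hcomm : ∀ x y : G, x ∈ N → y ∈ N → Commute x y := fun x y hx hy => by
    have := mul_comm' (⟨x, hx⟩ : N) ⟨y, hy⟩
    exact congrArg Subtype.val this
  let M : Subgroup G :=
    { carrier := {x | x ∈ N ∧ x ^ p = 1}
      one_mem' := ⟨one_mem _, one_pow _⟩
      mul_mem' := fun {x y} hx hy =>
        ⟨mul_mem hx.1 hy.1, by rw [(hcomm x y hx.1 hy.1).mul_pow, hx.2, hy.2, mul_one]⟩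
      inv_mem' := fun {x} hx => ⟨inv_mem hx.1, by rw [inv_pow, hx.2, inv_one]⟩ }
  have hMn : M.Normal :=
    ⟨fun x hx g => ⟨hNn.conj_mem x hx.1 g, by rw [conj_pow, hx.2, mul_one, mul_inv_cancel]⟩⟩
  rcases hmin M hMn (fun x hx => hx.1) with h | h
  · obtain ⟨x, hx⟩ := exists_prime_orderOf_dvd_card' p hpd
    have hm : (x : G) ∈ M := ⟨x.2, by rw [← hx, ← Subgroup.orderOf_coe, pow_orderOf_eq_one]⟩
    rw [h, mem_bot, OneMemClass.coe_eq_one] at hm
    rw [hm, orderOf_one] at hx
    exact absurd hx.symm hp.ne_one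
  · have hall : ∀ x ∈ N, x ^ p = 1 := fun x hx => by
      rw [← h] at hx
      exact hx.2
    refine ⟨p, hp, hall, fun x => ⟨1, ?_⟩⟩
    rw [pow_one]
    exact Subtype.ext (hall x x.2)

/-- A nontrivial finite group with solvable normal subgroup contains an abelian minimal normal
subgroup inside it. -/
theorem exists_abelian_minimal_normal {G : Type*} [Group G] [Finite G] {K : Subgroup G} [K.Normal]
    (hs : Group.IsSolvable K) (hK : K ≠ ⊥) : ∃ (N : Subgroup G) (p : ℕ), N.Normal ∧ N ≤ K ∧
      N ≠ ⊥ ∧ (∀ M : Subgroup G, M.Normal → M ≤ N → M = ⊥ ∨ M = N) ∧ IsMulCommutative N ∧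
      p.Prime ∧ IsPGroup p N := by
  obtain ⟨N, hNn, hNK, hN, hmin⟩ := exists_minimal_normal hK
  have hsN : Group.IsSolvable N := Group.isSolvable_of_isSolvable_injective
    (f := Subgroup.inclusion hNK) (inclusion_injective hNK)
  have hc := isMulCommutative_of_minimal hsN hN hmin
  obtain ⟨p, hp, -, hpN⟩ := exists_prime_of_minimal hN hmin
  exact ⟨N, p, hNn, hNK, hN, hmin, hc, hp, hpN⟩

theorem index_mul_of_coprime {G : Type*} [Group G] [Finite G] {H K : Subgroup G}
    (h : H.index.Coprime K.index) : (H ⊓ K).index = H.index * K.index :=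
  le_antisymm index_inf_le (Nat.le_of_dvd (Nat.pos_of_ne_zero FiniteIndex.index_ne_zero)
    (h.mul_dvd_of_dvd_of_dvd (index_dvd_of_le inf_le_left) (index_dvd_of_le inf_le_right)))

theorem exists_mul_of_coprime_index {G : Type*} [Group G] [Finite G] {H K : Subgroup G}
    (h : H.index.Coprime K.index) (g : G) : ∃ x ∈ H, ∃ y ∈ K, g = x * y := by
  have h1 : K.relIndex H = K.index := by
    have h2 := relIndex_mul_index (inf_le_left : H ⊓ K ≤ H)
    rw [index_mul_of_coprime h, inf_relIndex_left, mul_comm H.index] at h2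
    exact Nat.eq_of_mul_eq_mul_right (Nat.pos_of_ne_zero FiniteIndex.index_ne_zero) h2
  let φ : H ⧸ K.subgroupOf H → G ⧸ K :=
    Quotient.map' (fun x => (x : G)) (fun a b hab => by
      rw [QuotientGroup.leftRel_apply] at hab ⊢
      exact hab)
  have hinj : Function.Injective φ := fun a b => by
    induction a using QuotientGroup.induction_on with | _ a => ?_
    induction b using QuotientGroup.induction_on with | _ b => ?_
    intro hab
    exact QuotientGroup.eq.2 (QuotientGroup.eq (s := K).1 hab)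
  have hb := (Nat.bijective_iff_injective_and_card φ).2 ⟨hinj, h1⟩
  obtain ⟨a, ha⟩ := hb.2 (g : G ⧸ K)
  induction a using QuotientGroup.induction_on with | _ a => ?_
  exact ⟨a, a.2, (a : G)⁻¹ * g, QuotientGroup.eq.1 ha, by group⟩

end Cfsg.Agent.Solvable
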