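import Cfsg.Agent.Lib.Coprime.Basic

/-!
# Hall subgroups of finite solvable groups

* `exists_hall`: existence of a subgroup of order `m` when `|G| = m * n` with `m, n` coprime;
* `exists_le_conj_hall`: a subgroup of order prime to `n` lies in a conjugate of such a subgroup;
* `exists_conj_eq_hall`, `exists_hall_ge`: conjugacy and dominance;
* `exists_pComplement`: Hall `p`-complements.
-/

namespace Cfsg.Agent.Solvable

open scoped Pointwise
open Subgroup

theorem card_quotient_mul_card {G : Type*} [Group G] (M : Subgroup G) :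
    Nat.card (G ⧸ M) * Nat.card M = Nat.card G :=
  (card_eq_card_quotient_mul_card_subgroup M).symm

theorem card_comap_quotient {G : Type*} [Group G] (M : Subgroup G) [M.Normal]
    (L : Subgroup (G ⧸ M)) :
    Nat.card (L.comap (QuotientGroup.mk' M)) = Nat.card M * Nat.card L := by
  have h1 : M ≤ L.comap (QuotientGroup.mk' M) := QuotientGroup.le_comap_mk' M L
  rw [← card_mul_index (M.subgroupOf (L.comap (QuotientGroup.mk' M))),
    Coprime.card_subgroupOf h1]
  congr 1
  have h2 := relIndex_ker (K := L.comap (QuotientGroup.mk' M)) (QuotientGroup.mk' M)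
  rw [QuotientGroup.ker_mk', map_comap_eq_self_of_surjective
    (QuotientGroup.mk'_surjective M)] at h2
  exact h2

theorem card_sup_normal {G : Type*} [Group G] (M H : Subgroup G) [M.Normal] :
    Nat.card (H ⊔ M : Subgroup G) = Nat.card M * Nat.card (H.map (QuotientGroup.mk' M)) := by
  rw [← card_comap_quotient, comap_map_eq, QuotientGroup.ker_mk']

private theorem exists_hall_aux.{u} : ∀ (k : ℕ) (G : Type u) [Group G] [Finite G]
    [Group.IsSolvable G], Nat.card G = k → ∀ m n : ℕ, Nat.card G = m * n → m.Coprime n →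
    ∃ H : Subgroup G, Nat.card H = m := by
  intro k
  induction k using Nat.strong_induction_on with
  | _ k ih =>
    intro G _ _ _ hk m n hG hmn
    rcases subsingleton_or_nontrivial G with _ | _
    · refine ⟨⊥, ?_⟩
      rw [Subgroup.card_bot]
      exact (Nat.eq_one_of_mul_eq_one_right (hG.symm.trans Nat.card_unique)).symm
    obtain ⟨p, M, hp, hMn, hM, hMp⟩ := Coprime.exists_normal_isPGroup (G := G)
    have := Fact.mk hp
    obtain ⟨e, he⟩ := hMp.exists_card_eq
    have hlt : Nat.card (G ⧸ M) < k := by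
      rw [← hk, ← card_quotient_mul_card M]
      exact lt_mul_of_one_lt_right Nat.card_pos ((Subgroup.one_lt_card_iff_ne_bot M).2 hM)
    have hG' : Nat.card (G ⧸ M) * p ^ e = m * n := by rw [← he, card_quotient_mul_card, hG]
    by_cases hpm : p ∣ m
    · have hpn : (p ^ e).Coprime n :=
        Nat.Coprime.pow_left e (Nat.Coprime.coprime_dvd_left hpm hmn)
      obtain ⟨m', hm'⟩ := hpn.dvd_of_dvd_mul_right (hG' ▸ dvd_mul_left _ _)
      have hq : Nat.card (G ⧸ M) = m' * n := by
        refine Nat.eq_of_mul_eq_mul_right (pow_pos hp.pos e) ?_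
        rw [hG', hm']
        ring
      obtain ⟨L, hL⟩ := ih _ hlt (G ⧸ M) rfl m' n hq
        (Nat.Coprime.coprime_dvd_left ⟨p ^ e, by rw [hm']; ring⟩ hmn)
      exact ⟨L.comap (QuotientGroup.mk' M), by rw [card_comap_quotient, hL, he, hm']⟩
    · have hpm' : (p ^ e).Coprime m := Nat.Coprime.pow_left e (hp.coprime_iff_not_dvd.2 hpm)
      obtain ⟨n', hn'⟩ := hpm'.dvd_of_dvd_mul_left (hG' ▸ dvd_mul_left _ _)
      have hq : Nat.card (G ⧸ M) = m * n' := by
        refine Nat.eq_of_mul_eq_mul_right (pow_pos hp.pos e) ?_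
        rw [hG', hn']
        ring
      obtain ⟨L, hL⟩ := ih _ hlt (G ⧸ M) rfl m n' hq
        (Nat.Coprime.coprime_dvd_right ⟨p ^ e, by rw [hn']; ring⟩ hmn)
      set W := L.comap (QuotientGroup.mk' M) with hW
      have hMW : M ≤ W := QuotientGroup.le_comap_mk' M L
      have hWc : Nat.card W = p ^ e * m := by rw [hW, card_comap_quotient, hL, he]
      have hMc : Nat.card (M.subgroupOf W) = p ^ e := by rw [Coprime.card_subgroupOf hMW, he]
      have hidx : (M.subgroupOf W).index = m := by
        have h := card_mul_index (M.subgroupOf W)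
        rw [hMc, hWc] at h
        exact Nat.eq_of_mul_eq_mul_left (pow_pos hp.pos e) h
      obtain ⟨B, hB⟩ := exists_right_complement'_of_coprime (N := M.subgroupOf W)
        (by rw [hMc, hidx]; exact hpm')
      exact ⟨B.map W.subtype,
        by rw [card_map_of_injective W.subtype_injective, ← hB.symm.index_eq_card, hidx]⟩

/-- **Hall's theorem**, existence. -/
theorem exists_hall {G : Type*} [Group G] [Finite G] [Group.IsSolvable G] {m n : ℕ}
    (hG : Nat.card G = m * n) (hmn : m.Coprime n) : ∃ H : Subgroup G, Nat.card H = m :=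
  exists_hall_aux _ G rfl m n hG hmn

private theorem exists_le_conj_hall_aux.{u} : ∀ (k : ℕ) (G : Type u) [Group G] [Finite G]
    [Group.IsSolvable G], Nat.card G = k → ∀ (m n : ℕ), Nat.card G = m * n → m.Coprime n →
    ∀ H K : Subgroup G, Nat.card H = m → (Nat.card K).Coprime n →
    ∃ g : G, K ≤ MulAut.conj g • H := by
  intro k
  induction k using Nat.strong_induction_on with
  | _ k ih =>
    intro G _ _ _ hk m n hG hmn H K hH hK
    rcases subsingleton_or_nontrivial G with _ | _
    · exact ⟨1, fun x _ => by rw [Subsingleton.elim x 1]; exact one_mem _⟩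
    obtain ⟨p, M, hp, hMn, hM, hMp⟩ := Coprime.exists_normal_isPGroup (G := G)
    have := Fact.mk hp
    obtain ⟨e, he⟩ := hMp.exists_card_eq
    set f := QuotientGroup.mk' M
    have hlt : Nat.card (G ⧸ M) < k := by
      rw [← hk, ← card_quotient_mul_card M]
      exact lt_mul_of_one_lt_right Nat.card_pos ((Subgroup.one_lt_card_iff_ne_bot M).2 hM)
    have hG' : Nat.card (G ⧸ M) * p ^ e = m * n := by rw [← he, card_quotient_mul_card, hG]
    have hKn : ∀ {n' : ℕ}, n' ∣ n → (Nat.card (K.map f)).Coprime n' := fun h =>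
      (hK.coprime_dvd_left (card_map_dvd _ f)).coprime_dvd_right h
    have lift : ∀ g : G, K.map f ≤ MulAut.conj (f g) • H.map f →
        K ≤ (MulAut.conj g • H) ⊔ M := by
      intro g hg
      have h2 := le_comap_map f K
      refine h2.trans ((comap_mono hg).trans ?_)
      rw [← Coprime.map_conj_smul, comap_map_eq, QuotientGroup.ker_mk']
    have hHM : Nat.card (H ⊔ M : Subgroup G) = p ^ e * Nat.card (H.map f) := by
      rw [card_sup_normal, he]
    by_cases hpm : p ∣ m
    · have hpn : (p ^ e).Coprime n :=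
        Nat.Coprime.pow_left e (Nat.Coprime.coprime_dvd_left hpm hmn)
      have hcop : (Nat.card (H ⊔ M : Subgroup G)).Coprime n := by
        rw [hHM]
        exact hpn.mul_left ((hH ▸ hmn).coprime_dvd_left (card_map_dvd _ f))
      have hdm : Nat.card (H ⊔ M : Subgroup G) ∣ m :=
        hcop.dvd_of_dvd_mul_right (hG ▸ card_subgroup_dvd_card _)
      have hpos : 0 < m := hH ▸ Nat.card_pos
      have hMH : H = H ⊔ M :=
        eq_of_le_of_card_ge le_sup_left (by rw [hH]; exact Nat.le_of_dvd hpos hdm)
      have hm' : m = p ^ e * Nat.card (H.map f) := by rw [← hHM, ← hMH, hH]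
      have hq : Nat.card (G ⧸ M) = Nat.card (H.map f) * n := by
        refine Nat.eq_of_mul_eq_mul_right (pow_pos hp.pos e) ?_
        rw [hG']
        conv_lhs => rw [hm']
        ring
      obtain ⟨gq, hg⟩ := ih _ hlt (G ⧸ M) rfl (Nat.card (H.map f)) n hq
        ((hH ▸ hmn).coprime_dvd_left (card_map_dvd _ f)) (H.map f) (K.map f) rfl (hKn dvd_rfl)
      obtain ⟨g, rfl⟩ := QuotientGroup.mk'_surjective M gq
      refine ⟨g, (lift g hg).trans (sup_le le_rfl ?_)⟩
      intro x hx
      rw [Coprime.mem_conj_smul_iff, hMH]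
      exact mem_sup_right (by simpa using hMn.conj_mem x hx g⁻¹)
    · have hpm' : (p ^ e).Coprime m := Nat.Coprime.pow_left e (hp.coprime_iff_not_dvd.2 hpm)
      obtain ⟨n', hn'⟩ := hpm'.dvd_of_dvd_mul_left (hG' ▸ dvd_mul_left _ _)
      have hHd : H ⊓ M = ⊥ :=
        Coprime.disjoint_of_coprime_card (by rw [hH, he]; exact hpm'.symm)
      have hHf : Nat.card (H.map f) = m := by
        refine Nat.eq_of_mul_eq_mul_left (pow_pos hp.pos e) ?_
        rw [← hHM, Coprime.card_sup_of_le_normalizer (by rw [normalizer_eq_top]; exact le_top) hHd,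
          hH, he, mul_comm]
      have hq : Nat.card (G ⧸ M) = m * n' := by
        refine Nat.eq_of_mul_eq_mul_right (pow_pos hp.pos e) ?_
        rw [hG', hn']
        ring
      obtain ⟨gq, hg⟩ := ih _ hlt (G ⧸ M) rfl m n' hq
        (Nat.Coprime.coprime_dvd_right ⟨p ^ e, by rw [hn']; ring⟩ hmn) (H.map f) (K.map f) hHf
        (hKn ⟨p ^ e, by rw [hn']; ring⟩)
      obtain ⟨g, rfl⟩ := QuotientGroup.mk'_surjective M gq
      obtain ⟨x, -, hxK⟩ := Coprime.exists_le_conj_of_le_sup
        (A := MulAut.conj g • H) (N := M) (B := K) (by rw [normalizer_eq_top]; exact le_top)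
        (lift g hg) (by rw [Coprime.card_conj_smul, hH, he]; exact hpm'.symm)
        (by rw [he]; exact hK.coprime_dvd_right ⟨n', hn'⟩) (Or.inr inferInstance)
      exact ⟨x * g, by rwa [Coprime.conj_smul_smul] at hxK⟩

/-- A subgroup of order prime to `n` lies in a conjugate of a given subgroup of order `m`. -/
theorem exists_le_conj_hall {G : Type*} [Group G] [Finite G] [Group.IsSolvable G] {m n : ℕ}
    (hG : Nat.card G = m * n) (hmn : m.Coprime n) {H K : Subgroup G} (hH : Nat.card H = m)
    (hK : (Nat.card K).Coprime n) : ∃ g : G, K ≤ MulAut.conj g • H :=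
  exists_le_conj_hall_aux _ G rfl m n hG hmn H K hH hK

/-- **Hall's theorem**, conjugacy. -/
theorem exists_conj_eq_hall {G : Type*} [Group G] [Finite G] [Group.IsSolvable G] {m n : ℕ}
    (hG : Nat.card G = m * n) (hmn : m.Coprime n) {H K : Subgroup G} (hH : Nat.card H = m)
    (hK : Nat.card K = m) : ∃ g : G, MulAut.conj g • H = K := by
  obtain ⟨g, hg⟩ := exists_le_conj_hall hG hmn hH (K := K) (hK ▸ hmn)
  exact ⟨g, (eq_of_le_of_card_ge hg (by rw [Coprime.card_conj_smul, hH, hK])).symm⟩

/-- **Hall's theorem**, dominance. -/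
theorem exists_hall_ge {G : Type*} [Group G] [Finite G] [Group.IsSolvable G] {m n : ℕ}
    (hG : Nat.card G = m * n) (hmn : m.Coprime n) {K : Subgroup G}
    (hK : (Nat.card K).Coprime n) : ∃ H : Subgroup G, Nat.card H = m ∧ K ≤ H := by
  obtain ⟨H, hH⟩ := exists_hall hG hmn
  obtain ⟨g, hg⟩ := exists_le_conj_hall hG hmn hH hK
  exact ⟨_, by rw [Coprime.card_conj_smul, hH], hg⟩

/-- Existence of Hall `p`-complements. -/
theorem exists_pComplement {G : Type*} [Group G] [Finite G] [Group.IsSolvable G] {p : ℕ}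
    (hp : p.Prime) : ∃ H : Subgroup G, H.index = p ^ (Nat.card G).factorization p ∧
      ¬ p ∣ Nat.card H := by
  have h0 : Nat.card G ≠ 0 := Nat.card_pos.ne'
  obtain ⟨H, hH⟩ := exists_hall (G := G)
    (m := Nat.card G / p ^ (Nat.card G).factorization p)
    (n := p ^ (Nat.card G).factorization p)
    (by rw [mul_comm, Nat.ordProj_mul_ordCompl_eq_self])
    ((Nat.coprime_ordCompl hp h0).symm.pow_right _)
  refine ⟨H, ?_, hH ▸ Nat.not_dvd_ordCompl hp h0⟩
  refine Nat.eq_of_mul_eq_mul_left (Nat.card_pos (α := H)) ?_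
  rw [card_mul_index, hH, mul_comm, Nat.ordProj_mul_ordCompl_eq_self]

end Cfsg.Agent.Solvable
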