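import Cfsg.Prelude.Def_SolvableStructure
import Cfsg.Agent.Lib.Transfer.MinimalNonPNilpotent

/-!
Schmidt's structure theorem for minimal non-nilpotent groups and small facts about finite
nilpotent groups.
-/

set_option autoImplicit false

namespace Cfsg.Agent.Solvable

open Subgroup
open scoped commutatorElement

variable {G : Type*} [Group G] [Finite G]

theorem isMulCommutative_of_nilpotent_of_sylow [hG : Group.IsNilpotent G]
    (h : ∀ (p : ℕ) [Fact p.Prime] (P : Sylow p G), IsMulCommutative (P : Subgroup G)) :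
    IsMulCommutative G := by
  obtain ⟨e⟩ := ((Group.isNilpotent_of_finite_tfae (G := G)).out 0 4).mp hG
  refine ⟨⟨fun a b => e.symm.injective ?_⟩⟩
  rw [map_mul, map_mul]
  funext p P
  have := Fact.mk (Nat.prime_of_mem_primeFactors p.2)
  exact (h p P).is_comm.comm _ _

theorem sylow_normal_of_nilpotent [hG : Group.IsNilpotent G] {p : ℕ} [hp : Fact p.Prime]
    (P : Sylow p G) : (P : Subgroup G).Normal :=
  (((Group.isNilpotent_of_finite_tfae (G := G)).out 0 3 :
    Group.IsNilpotent G ↔ ∀ (r : ℕ) (_ : Fact r.Prime) (R : Sylow r G), (R : Subgroup G).Normal).mp hG) p hp P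

/-- In a nilpotent group a subgroup of `q`-power order commutes with elements of `p`-power order. -/
theorem commute_of_nilpotent [Group.IsNilpotent G] {p q : ℕ} [Fact p.Prime] [Fact q.Prime]
    (hpq : p ≠ q) {x y : G} {i j : ℕ} (hx : orderOf x = p ^ i) (hy : orderOf y = q ^ j) :
    Commute x y := by
  obtain ⟨P, hP⟩ := (IsPGroup.of_card (n := i) (by rw [Nat.card_zpowers, hx]) :
    IsPGroup p (zpowers x)).exists_le_sylow
  obtain ⟨Q, hQ⟩ := (IsPGroup.of_card (n := j) (by rw [Nat.card_zpowers, hy]) :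
    IsPGroup q (zpowers y)).exists_le_sylow
  exact commute_of_normal_of_disjoint _ _ (sylow_normal_of_nilpotent P) (sylow_normal_of_nilpotent Q)
    (IsPGroup.disjoint_of_ne p q hpq _ _ P.2 Q.2) x y (hP (mem_zpowers x)) (hQ (mem_zpowers y))

theorem hasNormalPComplement_of_isNilpotent [Group.IsNilpotent G] (p : ℕ) [hp : Fact p.Prime] :
    Cfsg.HasNormalPComplement p G := by
  obtain ⟨P⟩ := (inferInstance : Nonempty (Sylow p G))
  refine Transfer.hasNormalPComplement_of_centralizer P fun Q hQ g hg hco => ?_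
  obtain ⟨a, b, hab, hb, ha⟩ := Transfer.exists_mul_coprime_dvd_pow p (orderOf g) (orderOf_pos g)
  rw [mem_centralizer_iff]
  intro x hx
  suffices h : ∀ y : G, Nat.Coprime (orderOf y) p → Commute x y from h g hco
  intro y hy
  obtain ⟨i, hi⟩ := IsPGroup.iff_orderOf.mp (P.2.to_le hQ) ⟨x, hx⟩
  rw [← Subgroup.orderOf_coe] at hi
  induction hn : orderOf y using Nat.strong_induction_on generalizing y with
  | _ n ih =>
    subst hn
    by_cases h1 : orderOf y = 1
    · rw [orderOf_eq_one_iff.mp h1]; exact Commute.one_right x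
    obtain ⟨q, hq, hqd⟩ := Nat.exists_prime_and_dvd h1
    have := Fact.mk hq
    obtain ⟨e, m, hm, hem⟩ := Nat.exists_eq_pow_mul_and_not_dvd (orderOf_pos y).ne' q hq.ne_one
    have he : e ≠ 0 := by rintro rfl; rw [pow_zero, one_mul] at hem; exact hm (hem ▸ hqd)
    have hqp : q ≠ p := fun e => hq.ne_one (Nat.eq_one_of_dvd_coprimes hy hqd (e ▸ dvd_rfl))
    have hm0 : m ≠ 0 := fun h => hm (h ▸ dvd_zero q)
    have hym : orderOf (y ^ m) = q ^ e := by
      rw [orderOf_pow_of_dvd hm0 ⟨q ^ e, by rw [hem, mul_comm]⟩, hem,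
        Nat.mul_div_cancel _ (Nat.pos_of_ne_zero hm0)]
    have hye : orderOf (y ^ (q ^ e)) = m := by
      rw [orderOf_pow_of_dvd (pow_ne_zero _ hq.ne_zero) ⟨m, hem⟩, hem,
        Nat.mul_div_cancel_left _ (pow_pos hq.pos _)]
    have c1 : Commute x (y ^ m) := commute_of_nilpotent hqp.symm hi hym
    have c2 : Commute x (y ^ (q ^ e)) := ih m (by
      rw [hem]; exact lt_mul_of_one_lt_left (Nat.pos_of_ne_zero hm0) (Nat.one_lt_pow he hq.one_lt))
      (y ^ (q ^ e)) (by rw [hye]; exact hy.coprime_dvd_left ⟨q ^ e, by rw [hem, mul_comm]⟩) hye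
    obtain ⟨u, v, huv⟩ : ∃ u v : ℤ, (m : ℤ) * u + ((q ^ e : ℕ) : ℤ) * v = 1 := by
      refine ⟨Nat.gcdA m (q ^ e), Nat.gcdB m (q ^ e), ?_⟩
      rw [← Nat.gcd_eq_gcd_ab, (((hq.coprime_iff_not_dvd).mpr hm).symm.pow_right e).gcd_eq_one]
      rfl
    rw [show y = (y ^ m) ^ u * (y ^ (q ^ e)) ^ v by
      rw [← zpow_natCast y m, ← zpow_mul, ← zpow_natCast y (q ^ e), ← zpow_mul, ← zpow_add, huv,
        zpow_one]]
    exact (c1.zpow_right u).mul_right (c2.zpow_right v)

/-- **Schmidt's theorem**. A minimal non-nilpotent group is a normal Sylow `q`-subgroup `Q` extended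
by a cyclic Sylow `p`-subgroup not centralising `Q`. -/
theorem schmidt (hG : Cfsg.IsMinimalNonNilpotent G) :
    ∃ p q : ℕ, p.Prime ∧ q.Prime ∧ p ≠ q ∧ ∃ (P : Sylow p G) (Q : Sylow q G) (g : G),
      (P : Subgroup G) = zpowers g ∧ (Q : Subgroup G).Normal ∧ (P : Subgroup G) ⊔ Q = ⊤ ∧
      g ∉ centralizer ((Q : Subgroup G) : Set G) ∧ ∀ H : Subgroup G, (Q : Subgroup G) ≤ H → g ∈ H → H = ⊤ := by
  have hex : ∃ q : ℕ, q.Prime ∧ ¬ Cfsg.HasNormalPComplement q G := by
    by_contra hne
    push Not at hne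
    apply hG.1
    refine ((Group.isNilpotent_of_finite_tfae (G := G)).out 0 3 :
      Group.IsNilpotent G ↔ ∀ (r : ℕ) (_ : Fact r.Prime) (R : Sylow r G), (R : Subgroup G).Normal).mpr ?_
    intro r hr R
    have := hr
    -- the Sylow subgroup is the intersection of the other normal complements
    let N : Nat.Primes → Subgroup G := fun s => if (s : ℕ) = r then ⊤ else Cfsg.pResidual (s : ℕ) G
    have hNn : (⨅ s, N s).Normal := normal_iInf_normal fun s => by
      simp only [N]; split_ifs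
      · infer_instance
      · exact Transfer.pResidual_normal _
    have hRle : (R : Subgroup G) ≤ ⨅ s, N s := le_iInf fun s => by
      simp only [N]; split_ifs with h
      · exact le_top
      · intro x hx
        obtain ⟨i, hi⟩ := IsPGroup.iff_orderOf.mp R.2 ⟨x, hx⟩
        rw [← Subgroup.orderOf_coe] at hi
        exact Transfer.mem_residual_of_coprime
          (hi ▸ ((Nat.coprime_primes hr.out s.2).mpr fun e => h e.symm).pow_left i)
    have hp : IsPGroup r ↥(⨅ s, N s) := by
      obtain ⟨i, hi⟩ : ∃ i, Nat.card ↥(⨅ s, N s) = r ^ i := by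
        refine ⟨_, Nat.eq_prime_pow_of_unique_prime_dvd Nat.card_pos.ne' fun {s} hs hsd => ?_⟩
        by_contra hsr
        have := Fact.mk hs
        refine Transfer.hasNormalPComplement_iff.mp (hne s hs) (hsd.trans ?_)
        have := iInf_le N ⟨s, hs⟩
        simp only [N, if_neg hsr] at this
        exact card_dvd_of_le this
      exact IsPGroup.of_card hi
    rw [← R.3 hp hRle]
    exact hNn
  obtain ⟨q, hq, hnc⟩ := hex
  have := Fact.mk hq
  obtain ⟨-, -, hQn⟩ := Transfer.structure_of_minimal hnc fun H hH =>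
    @hasNormalPComplement_of_isNilpotent H _ _ (hG.2 H hH) q _
  obtain ⟨Q⟩ := (inferInstance : Nonempty (Sylow q G))
  have := hQn Q
  have hex2 : ∃ g : G, g ∉ centralizer ((Q : Subgroup G) : Set G) ∧ ∃ p k : ℕ, p.Prime ∧ p ≠ q ∧
      orderOf g = p ^ k := by
    obtain ⟨Q₁, g, p, k, hQ₁, hp, hpq, hord, -, hgC⟩ :=
      Transfer.exists_prime_pow_not_centralize Q hnc
    exact ⟨g, fun h => hgC (centralizer_le hQ₁ h), p, k, hp, hpq, hord⟩
  obtain ⟨g, hgC, p, k, hp, hpq, hord⟩ := hex2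
  have := Fact.mk hp
  have hsub : ∀ H : Subgroup G, (Q : Subgroup G) ≤ H → g ∈ H → H = ⊤ := by
    intro H hle hg
    by_contra hne
    have := hG.2 H hne
    refine hgC (mem_centralizer_iff.mpr fun x hx => ?_)
    obtain ⟨i, hi⟩ := IsPGroup.iff_orderOf.mp Q.2 ⟨x, hx⟩
    rw [← Subgroup.orderOf_coe] at hi
    exact congrArg Subtype.val (commute_of_nilpotent (Ne.symm hpq) (x := (⟨x, hle hx⟩ : H))
      (y := ⟨g, hg⟩) (by rw [← Subgroup.orderOf_coe]; exact hi) (by rw [← Subgroup.orderOf_coe]; exact hord)).eq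
  have htop : (Q : Subgroup G) ⊔ zpowers g = ⊤ :=
    hsub _ le_sup_left (mem_sup_right (mem_zpowers g))
  have hgp : IsPGroup p (zpowers g) := IsPGroup.of_card (n := k) (by rw [Nat.card_zpowers, hord])
  obtain ⟨P, hP⟩ := hgp.exists_le_sylow
  refine ⟨p, q, hp, hq, hpq, P, Q, g, ?_, hQn Q, ?_, hgC, hsub⟩
  · refine le_antisymm (fun x hx => ?_) hP
    have hx' : x ∈ (((Q : Subgroup G) ⊔ zpowers g : Subgroup G) : Set G) := by rw [htop]; trivial
    rw [normal_mul] at hx'
    obtain ⟨a, ha, b, hb, rfl⟩ := hx'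
    have haP : a ∈ (P : Subgroup G) := by
      simpa using (P : Subgroup G).mul_mem hx ((P : Subgroup G).inv_mem (hP hb))
    have h1 : a = 1 := disjoint_def.mp (IsPGroup.disjoint_of_ne q p hpq.symm _ _ Q.2 P.2) ha haP
    simpa [h1] using hb
  · exact hsub _ le_sup_right (mem_sup_left (hP (mem_zpowers g)))

end Cfsg.Agent.Solvable
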