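import Cfsg.Agent.Lib.Solvable.WielandtEndgame
import Cfsg.Agent.S0560

/-!
The theorem of Kegel and Wielandt: a product of two nilpotent subgroups is solvable.
-/

set_option autoImplicit false

namespace Cfsg.Agent.NilProd

open Subgroup
open scoped Pointwise

universe u

variable {G : Type u} [Group G]

theorem relIndex_eq_of_product [Finite G] {P Q R : Subgroup G} (hP : P ≤ R) (hQ : Q ≤ R)
    (h : ∀ r ∈ R, ∃ x ∈ P, ∃ y ∈ Q, r = x * y) : Q.relIndex R = Q.relIndex P := by
  have _ := hQ
  refine (Nat.card_congr (Equiv.ofBijective (Quotient.map' (Subgroup.inclusion hP) (fun a b hab => by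
    rw [QuotientGroup.leftRel_apply] at hab ⊢
    exact hab) : P ⧸ Q.subgroupOf P → R ⧸ Q.subgroupOf R) ⟨?_, ?_⟩)).symm
  · intro a b
    refine Quotient.inductionOn₂' a b fun x y hxy => ?_
    rw [Quotient.map'_mk'', Quotient.map'_mk'', Quotient.eq'', QuotientGroup.leftRel_apply] at hxy
    exact Quotient.eq''.mpr (QuotientGroup.leftRel_apply.mpr hxy)
  · intro r
    refine Quotient.inductionOn' r fun s => ?_
    obtain ⟨x, hx, y, hy, e⟩ := h s s.2
    refine ⟨Quotient.mk'' ⟨x, hx⟩, ?_⟩
    rw [Quotient.map'_mk'']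
    refine Quotient.eq''.mpr (QuotientGroup.leftRel_apply.mpr ?_)
    rw [mem_subgroupOf]
    simpa [e] using hy

theorem exists_mul_of_mem_sup {H L : Subgroup G} (h : Perm H L) {x : G} (hx : x ∈ H ⊔ L) :
    ∃ a ∈ H, ∃ k ∈ L, x = a * k := by
  rw [← closure_eq H, ← closure_eq L, ← Subgroup.closure_union] at hx
  induction hx using closure_induction'' with
  | mem x hx =>
    rcases hx with hx | hx
    · exact ⟨x, hx, 1, one_mem _, (mul_one x).symm⟩
    · exact ⟨1, one_mem _, x, hx, (one_mul x).symm⟩
  | inv_mem x hx =>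
    rcases hx with hx | hx
    · exact ⟨x⁻¹, inv_mem hx, 1, one_mem _, (mul_one _).symm⟩
    · exact ⟨1, one_mem _, x⁻¹, inv_mem hx, (one_mul _).symm⟩
  | one => exact ⟨1, one_mem _, 1, one_mem _, (one_mul 1).symm⟩
  | mul x y _ _ ihx ihy =>
    obtain ⟨a, ha, k, hk, rfl⟩ := ihx
    obtain ⟨b, hb, l, hl, rfl⟩ := ihy
    obtain ⟨b', hb', k', hk', e⟩ := h k hk b hb
    exact ⟨a * b', mul_mem ha hb', k' * l, mul_mem hk' hl, by
      rw [mul_assoc a k, ← mul_assoc k b, e]; group⟩

theorem isPGroup_sup_of_perm [Finite G] {p : ℕ} [hp : Fact p.Prime] {H L : Subgroup G}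
    (hH : IsPGroup p H) (hL : IsPGroup p L) (h : Perm H L) : IsPGroup p ↥(H ⊔ L) := by
  obtain ⟨i, hi⟩ := IsPGroup.iff_card.mp hH
  obtain ⟨j, hj⟩ := IsPGroup.iff_card.mp hL
  have h1 := card_mul_index (L.subgroupOf (H ⊔ L))
  rw [Coprime.card_subgroupOf le_sup_right] at h1
  change Nat.card L * L.relIndex (H ⊔ L) = _ at h1
  rw [relIndex_eq_of_product le_sup_left le_sup_right (fun r hr => exists_mul_of_mem_sup h hr)] at h1
  obtain ⟨k, -, hk⟩ := (Nat.dvd_prime_pow hp.out).mp (hi ▸ relIndex_dvd_card L H)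
  exact IsPGroup.of_card (n := j + k) (by rw [← h1, hj, hk, pow_add])

/-- If the `p`-subgroup `H` permutes with every conjugate of the `p`-subgroup `K`, its normal
closure normalises a `p`-subgroup containing `K`. -/
theorem exists_pGroup_normalized [Finite G] {p : ℕ} [Fact p.Prime] {H K : Subgroup G}
    (hH : IsPGroup p H) (hK : IsPGroup p K) (hperm : ∀ g : G, Perm H (MulAut.conj g • K)) :
    ∃ L : Subgroup G, IsPGroup p L ∧ K ≤ L ∧ normalClosure (H : Set G) ≤ normalizer (L : Set G) := by
  obtain ⟨L, hKL, hL⟩ : ∃ L, K ≤ L ∧ Maximal (fun L : Subgroup G =>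
      IsPGroup p L ∧ ∀ g : G, Perm H (MulAut.conj g • L)) L :=
    (Set.toFinite _).exists_le_maximal (s := {L : Subgroup G | IsPGroup p L ∧ ∀ g : G,
      Perm H (MulAut.conj g • L)}) ⟨hK, hperm⟩
  obtain ⟨hLp, hLperm⟩ := hL.1
  refine ⟨L, hLp, hKL, ?_⟩
  suffices hall : ∀ g : G, H ≤ normalizer ((MulAut.conj g • L : Subgroup G) : Set G) by
    refine (closure_le _).mpr fun c hc => ?_
    obtain ⟨h, hh, hc⟩ := Group.mem_conjugatesOfSet_iff.mp hc
    obtain ⟨g, rfl⟩ := isConj_iff.mp hc
    rw [SetLike.mem_coe, mem_normalizer_iff]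
    intro x
    have h1 := mem_normalizer_iff.mp (hall g⁻¹ hh) (g⁻¹ * x * g)
    simp only [Coprime.mem_conj_smul_iff, inv_inv] at h1
    simpa [mul_assoc] using h1
  intro g h hh
  refine Solvable.mem_normalizer_iff_conj_eq.mpr ?_
  set L₁ := MulAut.conj g • L with hL₁
  have hL₁p : IsPGroup p L₁ := hLp.map (MulAut.conj g).toMonoidHom
  have hsub : L₁ ⊔ MulAut.conj h • L₁ ≤ H ⊔ L₁ := sup_le le_sup_right fun x hx => by
    rw [Coprime.mem_conj_smul_iff] at hx
    have := mul_mem (mul_mem (mem_sup_left hh : h ∈ H ⊔ L₁) (mem_sup_right hx))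
      (inv_mem (mem_sup_left hh : h ∈ H ⊔ L₁))
    simpa [mul_assoc] using this
  have hp₂ : IsPGroup p ↥(L₁ ⊔ MulAut.conj h • L₁) :=
    (isPGroup_sup_of_perm hH hL₁p (hLperm g)).to_le hsub
  have hle : MulAut.conj g⁻¹ • (L₁ ⊔ MulAut.conj h • L₁) ≤ L := by
    refine hL.2 ⟨hp₂.map (MulAut.conj g⁻¹).toMonoidHom, fun x => ?_⟩ ?_
    · rw [hL₁, Coprime.conj_smul_smul, Coprime.conj_smul_smul, Subgroup.smul_sup,
        Coprime.conj_smul_smul, Coprime.conj_smul_smul]
      exact perm_sup (hLperm _) (hLperm _)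
    · intro y hy
      rw [hL₁, Coprime.mem_conj_smul_iff, inv_inv]
      refine mem_sup_left ?_
      rw [Coprime.mem_conj_smul_iff]
      simpa [mul_assoc] using hy
  have h2 := (pointwise_smul_le_pointwise_smul_iff (a := MulAut.conj g)).2 hle
  rw [Coprime.conj_smul_smul, mul_inv_cancel, map_one, one_smul] at h2
  exact eq_of_le_of_card_ge ((le_sup_right).trans h2) (Coprime.card_conj_smul _ _).ge

theorem relIndex_eq_index [Finite G] {A B : Subgroup G}
    (hAB : ∀ g : G, ∃ a ∈ A, ∃ b ∈ B, g = a * b) : B.relIndex A = B.index := by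
  rw [← relIndex_top_right]
  exact (relIndex_eq_of_product le_top le_top (fun r _ => hAB r)).symm

/-- The parts of `A` and `B` permute. -/
theorem perm_parts [Finite G] {A B : Subgroup G} (hA : Group.IsNilpotent A) (hB : Group.IsNilpotent B)
    (hAB : ∀ g : G, ∃ a ∈ A, ∃ b ∈ B, g = a * b) (p : ℕ) [hp : Fact p.Prime] :
    Perm (part A p) (part B p) := by
  obtain ⟨S, hS⟩ := (isPGroup_part A p).exists_le_sylow
  obtain ⟨S', hS'⟩ := (isPGroup_part B p).exists_le_sylow
  obtain ⟨g, hg⟩ := MulAction.exists_smul_eq G S S'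
  obtain ⟨a, ha, b, hb, e⟩ := hAB g⁻¹
  obtain rfl : g = b⁻¹ * a⁻¹ := by rw [← mul_inv_rev, ← e, inv_inv]
  set S₀ := a⁻¹ • S with hS₀
  have hAS : part A p ≤ (S₀ : Subgroup G) := by
    rw [hS₀, Sylow.smul_def, Sylow.pointwise_smul_def,
      ← Coprime.conj_smul_eq_self_of_mem (le_normalizer_part hA p (inv_mem ha))]
    exact pointwise_smul_le_pointwise_smul_iff.2 hS
  have hBS : part B p ≤ (S₀ : Subgroup G) := by
    rw [← hg, mul_smul, Sylow.smul_def, Sylow.pointwise_smul_def,
      ← Coprime.conj_smul_eq_self_of_mem (le_normalizer_part hB p (inv_mem hb))] at hS'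
    exact pointwise_smul_le_pointwise_smul_iff.1 hS'
  have hI : Nat.card (part A p ⊓ part B p : Subgroup G) =
      p ^ (Nat.card (A ⊓ B : Subgroup G)).factorization p := by
    refine le_antisymm ?_ ?_
    · obtain ⟨i, hi⟩ := IsPGroup.iff_card.mp
        ((isPGroup_part A p).to_le (inf_le_left : part A p ⊓ part B p ≤ part A p))
      rw [hi]
      exact Nat.pow_le_pow_right hp.out.pos ((hp.out.pow_dvd_iff_le_factorization Nat.card_pos.ne').mp
        (hi ▸ card_dvd_of_le (inf_le_inf (part_le A p) (part_le B p))))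
    · rw [← card_part (A ⊓ B) p]
      refine Nat.le_of_dvd Nat.card_pos (card_dvd_of_le fun x hx => ?_)
      obtain ⟨k, hk⟩ := exists_orderOf_eq_pow hx
      exact ⟨mem_part hA (part_le _ _ hx).1 hk, mem_part hB (part_le _ _ hx).2 hk⟩
  have hrel : (part B p).relIndex (S₀ : Subgroup G) ≤ (part B p).relIndex (part A p) := by
    have e1 : Nat.card (part B p) * (part B p).relIndex (S₀ : Subgroup G) =
        Nat.card (S₀ : Subgroup G) := by
      rw [← Coprime.card_subgroupOf hBS]; exact card_mul_index _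
    have e2 : Nat.card (part A p ⊓ part B p : Subgroup G) * (part B p).relIndex (part A p) =
        Nat.card (part A p) := by
      rw [← inf_relIndex_left, ← Coprime.card_subgroupOf
        (inf_le_left : part A p ⊓ part B p ≤ part A p)]
      exact card_mul_index _
    have e3 : Nat.card (A ⊓ B : Subgroup G) * B.index = Nat.card A := by
      rw [← relIndex_eq_index hAB, ← inf_relIndex_left,
        ← Coprime.card_subgroupOf (inf_le_left : A ⊓ B ≤ A)]
      exact card_mul_index _
    have f3 := congrArg (fun n => n.factorization p) e3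
    have f4 := congrArg (fun n => n.factorization p) B.card_mul_index
    simp only [Nat.factorization_mul Nat.card_pos.ne' index_ne_zero_of_finite,
      Finsupp.add_apply] at f3 f4
    rw [card_part, S₀.card_eq_multiplicity, ← f4, pow_add] at e1
    rw [hI, card_part, ← f3, pow_add] at e2
    exact le_of_eq ((Nat.eq_of_mul_eq_mul_left (pow_pos hp.out.pos _) e1).trans
      (Nat.eq_of_mul_eq_mul_left (pow_pos hp.out.pos _) e2).symm)
  intro x hx h hh
  obtain ⟨u, hu, v, hv, e'⟩ := S0560.exists_mul_of_relIndex_le hAS hrel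
    ((S₀ : Subgroup G).mul_mem (hBS hx) (hAS hh))
  exact ⟨u, hu, v, hv, e'⟩

/-- **Kegel–Wielandt**: a product of two nilpotent subgroups is solvable. -/
theorem isSolvable_of_nilpotent_product : ∀ {G : Type u} [Group G] [Finite G] {A B : Subgroup G},
    Group.IsNilpotent A → Group.IsNilpotent B → (∀ g : G, ∃ a ∈ A, ∃ b ∈ B, g = a * b) →
    Group.IsSolvable G := by
  intro G _ _ A B hA hB hAB
  induction hn : Nat.card G using Nat.strong_induction_on generalizing G with
  | _ n ih =>
    subst hn
    by_contra hns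
    have hquot : ∀ N : Subgroup G, [N.Normal] → N ≠ ⊥ → Group.IsSolvable (G ⧸ N) := by
      intro N _ hN0
      have hlt : Nat.card (G ⧸ N) < Nat.card G := by
        rw [← Solvable.card_quotient_mul_card N]
        exact lt_mul_of_one_lt_right Nat.card_pos ((Subgroup.one_lt_card_iff_ne_bot N).2 hN0)
      set f := QuotientGroup.mk' N
      refine ih _ hlt (A := A.map f) (B := B.map f)
        (Group.nilpotent_of_surjective _ (f.subgroupMap_surjective A))
        (Group.nilpotent_of_surjective _ (f.subgroupMap_surjective B)) (fun y => ?_) rfl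
      obtain ⟨g, rfl⟩ := QuotientGroup.mk'_surjective N y
      obtain ⟨a, ha, b, hb, rfl⟩ := hAB g
      exact ⟨f a, mem_map_of_mem f ha, f b, mem_map_of_mem f hb, map_mul f a b⟩
    have hns' : ∀ N : Subgroup G, N.Normal → Group.IsSolvable N → N = ⊥ := by
      intro N hN hNs
      by_contra hN0
      have := hquot N hN0
      exact hns (Group.isSolvable_of_ker_le_range N.subtype (QuotientGroup.mk' N) (by simp))
    have hcop : (Nat.card A).Coprime (Nat.card B) := by
      refine Nat.coprime_of_dvd fun p hp hpA hpB => ?_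
      have := Fact.mk hp
      have hperm : ∀ g : G, Perm (part A p) (MulAut.conj g • part B p) := by
        intro g x hx y hy
        obtain ⟨a, ha, b, hb, rfl⟩ := hAB g
        have hnA := le_normalizer_part hA p ha
        rw [← Coprime.conj_smul_smul, Coprime.conj_smul_eq_self_of_mem (le_normalizer_part hB p hb),
          Coprime.mem_conj_smul_iff] at hx
        obtain ⟨y', hy', x', hx', e⟩ := perm_parts hA hB hAB p _ hx (a⁻¹ * y * a)
          ((mem_normalizer_iff''.mp hnA y).mp hy)
        refine ⟨a * y' * a⁻¹, (mem_normalizer_iff.mp hnA y').mp hy', a * x' * a⁻¹, ?_, ?_⟩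
        · rw [← Coprime.conj_smul_smul, Coprime.conj_smul_eq_self_of_mem (le_normalizer_part hB p hb),
            Coprime.mem_conj_smul_iff]
          simpa [mul_assoc] using hx'
        · calc x * y = a * (a⁻¹ * x * a * (a⁻¹ * y * a)) * a⁻¹ := by group
            _ = a * (y' * x') * a⁻¹ := by rw [e]
            _ = _ := by group
      obtain ⟨L, hLp, hKL, hML⟩ :=
        exists_pGroup_normalized (isPGroup_part A p) (isPGroup_part B p) hperm
      set M := normalClosure (part A p : Set G) with hM
      have hMn : M.Normal := normalClosure_normal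
      -- `M ∩ L` is a normal `p`-subgroup of `M`, hence trivial
      have hML0 : M ⊓ L = ⊥ := by
        have hn1 : ((M ⊓ L).subgroupOf M).Normal := by
          refine (normal_subgroupOf_iff_le_normalizer inf_le_left).mpr fun m hm => ?_
          exact mem_normalizer_inf (le_normalizer hm) (hML hm)
        have hp1 : IsPGroup p ((M ⊓ L).subgroupOf M) :=
          (hLp.to_le inf_le_right).comap_of_injective M.subtype M.subtype_injective
        have hchar : ((Cfsg.pCore p M).map M.subtype).Normal := by
          refine ⟨fun x hx g => ?_⟩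
          obtain ⟨y, hy, rfl⟩ := hx
          have hgy : g * (y : G) * g⁻¹ ∈ M := hMn.conj_mem y y.2 g
          refine ⟨⟨g * (y : G) * g⁻¹, hgy⟩, ?_, rfl⟩
          set φ : M ≃* M := MulAut.conjNormal g
          have h1 : (Cfsg.pCore p M).map φ.toMonoidHom ≤ Cfsg.pCore p M := by
            refine le_sSup ⟨(Components.pCore_normal' p).map _ φ.surjective, ?_⟩
            exact (Components.isPGroup_pCore' p).map _
          exact h1 ⟨y, hy, Subtype.ext (MulAut.conjNormal_apply g y)⟩
        have := (Components.isPGroup_pCore' (G := M) p).map M.subtype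
        have hs := this.isNilpotent
        have h0 := hns' _ hchar inferInstance
        rw [map_eq_bot_iff_of_injective _ M.subtype_injective] at h0
        have h2 : (M ⊓ L).subgroupOf M ≤ Cfsg.pCore p M := le_sSup ⟨hn1, hp1⟩
        rw [h0, le_bot_iff, subgroupOf_eq_bot, disjoint_iff, inf_assoc, inf_comm L M,
          ← inf_assoc, inf_idem] at h2
        exact h2
      have hKC : part B p ≤ centralizer (M : Set G) := fun k hk => mem_centralizer_iff.mpr fun m hm => by
        have h1 : m * k * m⁻¹ * k⁻¹ ∈ M ⊓ L := ⟨by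
            have := M.mul_mem hm (hMn.conj_mem _ (M.inv_mem hm) k)
            simpa [mul_assoc] using this,
          L.mul_mem ((mem_normalizer_iff.mp (hML hm) k).mp (hKL hk)) (L.inv_mem (hKL hk))⟩
        rw [hML0, mem_bot, mul_inv_eq_one, mul_inv_eq_iff_eq_mul] at h1
        exact h1
      set M' := normalClosure (part B p : Set G) with hM'
      have hM'n : M'.Normal := normalClosure_normal
      have hM'C : M' ≤ centralizer (M : Set G) :=
        normalClosure_le_normal (N := centralizer (M : Set G)) hKC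
      have hinf : M ⊓ M' = ⊥ := by
        refine hns' _ inferInstance (Group.isSolvable_of_comm fun x y => Subtype.ext ?_)
        exact mem_centralizer_iff.mp (hM'C y.2.2) x x.2.1
      have hM0 : M ≠ ⊥ := fun h => part_ne_bot hpA (le_bot_iff.mp
        (h ▸ (subset_normalClosure : (part A p : Set G) ⊆ M)))
      have hM'0 : M' ≠ ⊥ := fun h => part_ne_bot hpB (le_bot_iff.mp
        (h ▸ (subset_normalClosure : (part B p : Set G) ⊆ M')))
      have := hquot M hM0
      have := hquot M' hM'0
      refine hns (Group.isSolvable_of_isSolvable_injective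
        (f := (QuotientGroup.mk' M).prod (QuotientGroup.mk' M')) ?_)
      rw [← MonoidHom.ker_eq_bot_iff, MonoidHom.ker_prod, QuotientGroup.ker_mk',
        QuotientGroup.ker_mk', hinf]
    exact hns (isSolvable ⟨hA, hB, hcop, hAB⟩)

end Cfsg.Agent.NilProd
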