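import Cfsg.Agent.Lib.Solvable.Hall
import Cfsg.Agent.Lib.Solvable.Basic
import Mathlib.GroupTheory.Nilpotent

/-!
# Carter subgroups of finite solvable groups

Existence and conjugacy of nilpotent self-normalising subgroups.
-/

namespace Cfsg.Agent.Solvable

open scoped Pointwise
open Subgroup

/-- Nilpotent and self-normalising. -/
def IsCarter {G : Type*} [Group G] (C : Subgroup G) : Prop :=
  Group.IsNilpotent C ∧ normalizer (C : Set G) = C

theorem mem_normalizer_iff_conj_eq {G : Type*} [Group G] {H : Subgroup G} {g : G} :
    g ∈ normalizer (H : Set G) ↔ MulAut.conj g • H = H := by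
  refine ⟨Coprime.conj_smul_eq_self_of_mem, fun h => ?_⟩
  rw [Subgroup.mem_normalizer_iff]
  intro x
  conv_rhs => rw [← h, Coprime.mem_conj_smul_iff]
  exact iff_of_eq (congrArg (· ∈ H) (by group))

theorem isNilpotent_of_le {G : Type*} [Group G] {H K : Subgroup G} (h : H ≤ K)
    [Group.IsNilpotent K] : Group.IsNilpotent H :=
  Group.nilpotent_of_mulEquiv (subgroupOfEquivOfLe h)

theorem eq_top_of_nilpotent {G : Type*} [Group G] [Finite G] [Group.IsNilpotent G] {C : Subgroup G}
    (h : normalizer (C : Set G) = C) : C = ⊤ := by
  by_contra hC
  have := Group.isNilpotent_of_finite_tfae.out 0 1 rfl rfl |>.1 ‹Group.IsNilpotent G› C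
    (lt_top_iff_ne_top.2 hC)
  exact this.ne h.symm

theorem isCarter_conj {G : Type*} [Group G] {C : Subgroup G} (hC : IsCarter C) (g : G) :
    IsCarter (MulAut.conj g • C) := by
  have := hC.1
  refine ⟨Group.nilpotent_of_mulEquiv (Subgroup.equivSMul (MulAut.conj g) C),
    le_antisymm (fun x hx => ?_) le_normalizer⟩
  rw [mem_normalizer_iff_conj_eq, Coprime.conj_smul_smul] at hx
  have h1 : g⁻¹ * x * g ∈ normalizer (C : Set G) := by
    rw [mem_normalizer_iff_conj_eq, mul_assoc, ← Coprime.conj_smul_smul, hx, Coprime.conj_smul_smul,
      inv_mul_cancel, map_one, one_smul]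
  rw [hC.2] at h1
  exact Coprime.mem_conj_smul_iff.2 h1

theorem isCarter_subgroupOf {G : Type*} [Group G] {C K : Subgroup G} (h : C ≤ K) (hC : IsCarter C) :
    IsCarter (C.subgroupOf K) := by
  have := hC.1
  refine ⟨Group.nilpotent_of_mulEquiv (subgroupOfEquivOfLe h).symm,
    le_antisymm (fun x hx => ?_) le_normalizer⟩
  rw [mem_subgroupOf]
  rw [← hC.2, mem_normalizer_iff]
  intro y
  constructor
  · intro hy
    exact (mem_normalizer_iff.1 hx ⟨y, h hy⟩).1 hy
  · intro hy
    have hyK : y ∈ K := by
      have := mul_mem (mul_mem (inv_mem x.2) (h hy)) x.2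
      simpa [mul_assoc] using this
    exact (mem_normalizer_iff.1 hx ⟨y, hyK⟩).2 hy

theorem normal_of_coprime_of_nilpotent {G : Type*} [Group G] [Finite G] [Group.IsNilpotent G]
    {H : Subgroup G} (h : (Nat.card H).Coprime H.index) : H.Normal := by
  rw [← normalizer_eq_top_iff]
  refine eq_top_of_nilpotent (le_antisymm (fun g hg => ?_) le_normalizer)
  set N := normalizer (H : Set G)
  have hH : H ≤ N := le_normalizer
  have hgH : MulAut.conj g • H ≤ N := by
    refine le_trans (pointwise_smul_le_pointwise_smul_iff.2 hH) ?_
    rw [Coprime.conj_smul_eq_self_of_mem hg]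
  obtain ⟨k, hk⟩ := exists_conj_eq_hall (G := N) (m := Nat.card H) (n := H.relIndex N)
    (by rw [← Coprime.card_subgroupOf hH]; exact (card_mul_index _).symm)
    (h.coprime_dvd_right (relIndex_dvd_index_of_le hH))
    (H := H.subgroupOf N) (K := (MulAut.conj g • H).subgroupOf N) (Coprime.card_subgroupOf hH)
    (by rw [Coprime.card_subgroupOf hgH, Coprime.card_conj_smul])
  have h1 := Coprime.conj_smul_of_subgroupOf hH hgH k hk
  rw [Coprime.conj_smul_eq_self_of_mem k.2] at h1
  exact mem_normalizer_iff_conj_eq.2 h1.symm

/-- If the Carter subgroup `C` lies in `K`, inside which Carter subgroups are conjugate, then `K`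
is self-normalising. -/
theorem normalizer_eq_of_ge {G : Type*} [Group G] {C K : Subgroup G} (hC : IsCarter C) (h : C ≤ K)
    (hconj : ∀ C' D' : Subgroup K, IsCarter C' → IsCarter D' → ∃ k : K, MulAut.conj k • C' = D') :
    normalizer (K : Set G) = K := by
  refine le_antisymm (fun g hg => ?_) le_normalizer
  have hg' : MulAut.conj g • C ≤ K :=
    (pointwise_smul_le_pointwise_smul_iff.2 h).trans (Coprime.conj_smul_eq_self_of_mem hg).le
  obtain ⟨k, hk⟩ := hconj _ _ (isCarter_subgroupOf h hC)
    (isCarter_subgroupOf hg' (isCarter_conj hC g))
  have h1 := Coprime.conj_smul_of_subgroupOf h hg' k hk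
  have h2 : (k : G)⁻¹ * g ∈ normalizer (C : Set G) := by
    rw [mem_normalizer_iff_conj_eq, ← Coprime.conj_smul_smul, ← h1, Coprime.conj_smul_smul,
      inv_mul_cancel, map_one, one_smul]
  rw [hC.2] at h2
  simpa using mul_mem k.2 (h h2)

/-- The statement proved by induction. -/
private def CarterStatement (G : Type*) [Group G] : Prop :=
  (∃ C : Subgroup G, IsCarter C) ∧
    ∀ C D : Subgroup G, IsCarter C → IsCarter D → ∃ g : G, MulAut.conj g • C = D

private theorem carter_aux.{u} : ∀ (n : ℕ) (G : Type u) [Group G] [Finite G] [Group.IsSolvable G],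
    Nat.card G = n → CarterStatement G := by
  intro n
  induction n using Nat.strong_induction_on with
  | _ n ih =>
    intro G _ _ _ hn
    rcases subsingleton_or_nontrivial G with _ | _
    · refine ⟨⟨⊥, inferInstance, Subsingleton.elim _ _⟩, fun C D _ _ => ⟨1, Subsingleton.elim _ _⟩⟩
    have hsub : ∀ K : Subgroup G, K ≠ ⊤ → CarterStatement K := fun K hK =>
      ih _ (hn ▸ lt_of_le_of_ne (card_le_card_group K) fun e => hK (eq_top_of_card_eq K e)) K rfl
    obtain ⟨N, p, hNn, -, hN, hmin, hNc, hp, hpN⟩ :=
      exists_abelian_minimal_normal (G := G) (K := ⊤) inferInstance top_ne_bot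
    have := Fact.mk hp
    set f := QuotientGroup.mk' N with hf
    have hfs : Function.Surjective f := QuotientGroup.mk'_surjective N
    have hlt : Nat.card (G ⧸ N) < n := by
      rw [← hn, ← card_quotient_mul_card N]
      exact lt_mul_of_one_lt_right Nat.card_pos ((Subgroup.one_lt_card_iff_ne_bot N).2 hN)
    have hq := ih _ hlt (G ⧸ N) rfl
    -- images of Carter subgroups
    have himg : ∀ C : Subgroup G, IsCarter C → IsCarter (C.map f) := by
      intro C hC
      have := hC.1
      refine ⟨Group.nilpotent_of_surjective (f.subgroupMap C) (f.subgroupMap_surjective C),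
        comap_injective hfs ?_⟩
      rw [comap_normalizer_eq_of_surjective _ hfs, comap_map_eq, hf, QuotientGroup.ker_mk']
      by_cases htop : C ⊔ N = ⊤
      · rw [htop]; exact normalizer_eq_top (⊤ : Subgroup G)
      · exact normalizer_eq_of_ge hC le_sup_left (hsub _ htop).2
    refine ⟨?_, fun C D hC hD => ?_⟩
    · obtain ⟨Kq, hKq⟩ := hq.1
      set K := Kq.comap f with hK
      have hNK : N ≤ K := QuotientGroup.le_comap_mk' N Kq
      have hKn : normalizer (K : Set G) = K := by
        rw [hK, ← comap_normalizer_eq_of_surjective _ hfs, hKq.2]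
      by_cases htop : K = ⊤
      · -- `G/N` is nilpotent
        have hKq' : Kq = ⊤ := by
          rw [← map_comap_eq_self_of_surjective hfs Kq, ← hK, htop, map_top_of_surjective _ hfs]
        have : Group.IsNilpotent (G ⧸ N) := by
          have h1 := hKq.1
          rw [hKq'] at h1
          exact Group.nilpotent_of_mulEquiv Subgroup.topEquiv
        obtain ⟨Q, hQi, hQp⟩ := exists_pComplement (G := G) hp
        obtain ⟨e, he⟩ := hpN.exists_card_eq
        have hQc : (Nat.card Q).Coprime Q.index := by
          rw [hQi]; exact (Nat.Coprime.pow_right _ (hp.coprime_iff_not_dvd.2 hQp).symm)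
        -- `Q N` is normal
        have hQN : (Q ⊔ N).Normal := by
          have h1 : (Q.map f).Normal :=
            normal_of_coprime_of_nilpotent ((hQc.coprime_dvd_left (card_map_dvd _ _)).coprime_dvd_right
              (index_map_dvd _ hfs))
          have h2 := h1.comap f
          rwa [comap_map_eq, hf, QuotientGroup.ker_mk'] at h2
        set C := normalizer (Q : Set G) with hC
        have hQC : Q ≤ C := le_normalizer
        have hQn : (Q.subgroupOf C).Normal := Coprime.normal_subgroupOf_of_le_normalizer le_rfl
        refine ⟨C, ?_, ?_⟩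
        · -- `C` is nilpotent
          obtain ⟨P⟩ : Nonempty (Sylow p G) := inferInstance
          have hPn : (P : Subgroup G).Normal := by
            have hNP : N ≤ P := by
              obtain ⟨R, hR⟩ := hpN.exists_le_sylow
              obtain ⟨g, hg⟩ := MulAction.exists_smul_eq G R P
              intro x hx
              rw [← hg, Sylow.smul_def, Sylow.pointwise_smul_def, Coprime.mem_conj_smul_iff]
              exact hR (by simpa using hNn.conj_mem x hx g⁻¹)
            have h1 : ((P.mapSurjective hfs : Sylow p (G ⧸ N)) : Subgroup (G ⧸ N)).Normal :=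
              inferInstance
            have h2 := h1.comap f
            rwa [Sylow.coe_mapSurjective, comap_map_eq, hf, QuotientGroup.ker_mk',
              sup_eq_left.2 hNP] at h2
          -- each Sylow subgroup of `C` is normal
          rw [(Group.isNilpotent_of_finite_tfae (G := C)).out 0 3 rfl rfl]
          intro r hr R
          by_cases hrp : r = p
          · subst hrp
            have h1 : (R : Subgroup C) = (P : Subgroup G).subgroupOf C := by
              have hp' : IsPGroup r ((P : Subgroup G).subgroupOf C) :=
                P.2.comap_of_injective C.subtype C.subtype_injective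
              obtain ⟨R', hR'⟩ := hp'.exists_le_sylow
              have hn' : ((P : Subgroup G).subgroupOf C).Normal := inferInstance
              have hle : ∀ T : Sylow r C, (P : Subgroup G).subgroupOf C ≤ T := by
                intro T
                obtain ⟨g, hg⟩ := MulAction.exists_smul_eq C R' T
                intro x hx
                rw [← hg, Sylow.smul_def, Sylow.pointwise_smul_def, Coprime.mem_conj_smul_iff]
                exact hR' (by simpa using hn'.conj_mem x hx g⁻¹)
              refine le_antisymm (fun x hx => ?_) (hle R)
              obtain ⟨T, hT⟩ := ((R.2.map C.subtype)).exists_le_sylow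
              obtain ⟨g, hg⟩ := MulAction.exists_smul_eq G P T
              have hx' : (x : G) ∈ (T : Subgroup G) := hT (mem_map_of_mem C.subtype hx)
              rw [← hg, Sylow.smul_def, Sylow.pointwise_smul_def,
                Coprime.conj_smul_eq_self_of_mem (by rw [normalizer_eq_top]; exact mem_top g)] at hx'
              exact hx'
            rw [h1]; infer_instance
          · -- the other ones lie in `Q`, which is nilpotent
            have := Fact.mk hr
            have hQnil : Group.IsNilpotent Q := by
              have hinj : Function.Injective (f.comp Q.subtype) := by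
                rw [← MonoidHom.ker_eq_bot_iff, Subgroup.eq_bot_iff_forall]
                intro x hx
                rw [MonoidHom.mem_ker, MonoidHom.comp_apply, hf, QuotientGroup.mk'_apply,
                  QuotientGroup.eq_one_iff] at hx
                have hd := Coprime.disjoint_of_coprime_card (H := Q) (K := N) (by
                  rw [he]; exact Nat.Coprime.pow_right _ (hp.coprime_iff_not_dvd.2 hQp).symm)
                exact Subtype.ext ((Subgroup.eq_bot_iff_forall _).1 hd _ ⟨x.2, hx⟩)
              exact Group.nilpotent_of_mulEquiv (MonoidHom.ofInjective hinj).symm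
            have hRQ : (R : Subgroup C) ≤ Q.subgroupOf C := by
              intro x hx
              rw [← QuotientGroup.eq_one_iff, ← orderOf_eq_one_iff]
              have h1 : orderOf (x : C ⧸ Q.subgroupOf C) ∣ orderOf x :=
                orderOf_map_dvd (QuotientGroup.mk' (Q.subgroupOf C)) x
              have h2 : orderOf (x : C ⧸ Q.subgroupOf C) ∣ p ^ (Nat.card G).factorization p := by
                refine (_root_.orderOf_dvd_natCard (G := C ⧸ Q.subgroupOf C) _).trans ?_
                rw [← hQi]
                exact relIndex_dvd_index_of_le hQC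
              obtain ⟨k, hk⟩ := R.2 ⟨x, hx⟩
              have h3 : orderOf x ∣ r ^ k := orderOf_dvd_of_pow_eq_one (congrArg Subtype.val hk)
              exact Nat.eq_one_of_dvd_coprimes
                (Nat.Coprime.pow _ _ ((Nat.coprime_primes hr.out hp).2 hrp)) (h1.trans h3) h2
            have : Group.IsNilpotent (Q.subgroupOf C) :=
              Group.nilpotent_of_mulEquiv (subgroupOfEquivOfLe hQC).symm
            have h4 : ((R.subtype hRQ : Sylow r (Q.subgroupOf C)) : Subgroup (Q.subgroupOf C)).Normal :=
              inferInstance
            have := (R.subtype hRQ).characteristic_of_normal h4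
            have h5 : (((R.subtype hRQ : Sylow r (Q.subgroupOf C)) :
                Subgroup (Q.subgroupOf C)).map (Q.subgroupOf C).subtype).Normal := inferInstance
            rwa [Sylow.coe_subtype, subgroupOf_map_subtype, inf_eq_left.2 hRQ] at h5
        · -- `C` is self-normalising
          refine le_antisymm (fun g hg => ?_) le_normalizer
          have hgQ : MulAut.conj g • Q ≤ C :=
            (pointwise_smul_le_pointwise_smul_iff.2 hQC).trans
              (Coprime.conj_smul_eq_self_of_mem hg).le
          obtain ⟨k, hk⟩ := exists_conj_eq_hall (G := C) (m := Nat.card Q) (n := Q.relIndex C)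
            (by rw [← Coprime.card_subgroupOf hQC]; exact (card_mul_index _).symm)
            (hQc.coprime_dvd_right (relIndex_dvd_index_of_le hQC))
            (H := Q.subgroupOf C) (K := (MulAut.conj g • Q).subgroupOf C)
            (Coprime.card_subgroupOf hQC)
            (by rw [Coprime.card_subgroupOf hgQ, Coprime.card_conj_smul])
          have h1 := Coprime.conj_smul_of_subgroupOf hQC hgQ k hk
          rw [Coprime.conj_smul_eq_self_of_mem k.2] at h1
          exact mem_normalizer_iff_conj_eq.2 h1.symm
      · obtain ⟨C₀, hC₀⟩ := (hsub K htop).1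
        set C := C₀.map K.subtype with hCdef
        have hCK : C ≤ K := map_subtype_le _
        have hCC : C.subgroupOf K = C₀ := comap_map_eq_self_of_injective K.subtype_injective _
        have := hC₀.1
        refine ⟨C, Group.nilpotent_of_mulEquiv (C₀.equivMapOfInjective _ K.subtype_injective),
          le_antisymm (fun g hg => ?_) le_normalizer⟩
        -- `C N = K`
        have : Group.IsNilpotent Kq := hKq.1
        let ψ : K →* Kq := f.subgroupComap Kq
        have hψ : Function.Surjective ψ := f.subgroupComap_surjective_of_surjective Kq hfs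
        have hψtop : C₀.map ψ = ⊤ := by
          refine eq_top_of_nilpotent ?_
          apply comap_injective hψ
          rw [comap_normalizer_eq_of_surjective _ hψ]
          have hle : C₀ ≤ (C₀.map ψ).comap ψ := le_comap_map _ _
          by_cases htop' : (C₀.map ψ).comap ψ = ⊤
          · rw [htop']; exact normalizer_eq_top (⊤ : Subgroup K)
          · refine normalizer_eq_of_ge hC₀ hle ?_
            refine (ih _ ?_ ((C₀.map ψ).comap ψ) rfl).2
            calc Nat.card ((C₀.map ψ).comap ψ) < Nat.card K :=
                  lt_of_le_of_ne (card_le_card_group _) fun e => htop' (eq_top_of_card_eq _ e)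
              _ ≤ n := hn ▸ card_le_card_group K
        have hgK : g ∈ K := by
          rw [← hKn, mem_normalizer_iff_conj_eq]
          have hKeq : K = C ⊔ N := by
            refine le_antisymm (fun x hx => ?_) (sup_le hCK hNK)
            obtain ⟨c, hc, hcx⟩ := (hψtop.ge (mem_top (ψ ⟨x, hx⟩)) : ψ ⟨x, hx⟩ ∈ C₀.map ψ)
            have h1 : f (c : G) = f x := congrArg Subtype.val hcx
            rw [hf, QuotientGroup.mk'_apply, QuotientGroup.mk'_apply, QuotientGroup.eq] at h1
            simpa using mul_mem (mem_sup_left (mem_map_of_mem K.subtype hc) : (c : G) ∈ C ⊔ N)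
              (mem_sup_right h1 : (c : G)⁻¹ * x ∈ C ⊔ N)
          have hgn : g ∈ normalizer (N : Set G) := by rw [normalizer_eq_top]; exact mem_top g
          rw [hKeq, Subgroup.smul_sup, Coprime.conj_smul_eq_self_of_mem hg,
            Coprime.conj_smul_eq_self_of_mem hgn]
        have h1 : (⟨g, hgK⟩ : K) ∈ normalizer (C₀ : Set K) := by
          rw [← hCC, mem_normalizer_iff]
          exact fun y => mem_normalizer_iff.1 hg y
        rw [hC₀.2] at h1
        exact ⟨_, h1, rfl⟩
    · -- conjugacy
      obtain ⟨gq, hgq⟩ := hq.2 _ _ (himg C hC) (himg D hD)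
      obtain ⟨g, rfl⟩ := hfs gq
      rw [← Coprime.map_conj_smul] at hgq
      have hsup := Coprime.map_sup_eq_of_map_quotient_eq hgq
      suffices h : ∀ C' : Subgroup G, IsCarter C' → C' ⊔ N = D ⊔ N →
          ∃ x : G, MulAut.conj x • C' = D by
        obtain ⟨x, hx⟩ := h _ (isCarter_conj hC g) hsup
        exact ⟨x * g, by rwa [← Coprime.conj_smul_smul]⟩
      clear hgq hsup g hC C
      intro C hC hsup
      by_cases htop : D ⊔ N = ⊤
      swap
      · have hle : C ≤ D ⊔ N := hsup ▸ le_sup_left
        obtain ⟨k, hk⟩ := (hsub _ htop).2 _ _ (isCarter_subgroupOf hle hC)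
          (isCarter_subgroupOf le_sup_left hD)
        exact ⟨k, Coprime.conj_smul_of_subgroupOf hle le_sup_left k hk⟩
      by_cases hnil : Group.IsNilpotent G
      · exact ⟨1, by rw [map_one, one_smul, eq_top_of_nilpotent hC.2, eq_top_of_nilpotent hD.2]⟩
      -- both are complements of `N` and maximal
      have hcompl : ∀ X : Subgroup G, IsCarter X → X ⊔ N = ⊤ →
          ∀ Y : Subgroup G, X ≤ Y → Y = X ∨ Y = ⊤ := by
        intro X hX hXN Y hXY
        have hYn : (Y ⊓ N).Normal := by
          rw [← normalizer_eq_top_iff, eq_top_iff, ← hXN, sup_le_iff]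
          constructor
          · intro x hx
            rw [mem_normalizer_iff_conj_eq, Subgroup.smul_inf,
              Coprime.conj_smul_eq_self_of_mem (le_normalizer (hXY hx)),
              Coprime.conj_smul_eq_self_of_mem (by rw [normalizer_eq_top]; exact mem_top x)]
          · intro x hx
            rw [mem_normalizer_iff]
            intro y
            have hcc : ∀ z ∈ N, x * z * x⁻¹ = z := fun z hz => by
              have := congrArg Subtype.val (mul_comm' (⟨x, hx⟩ : N) ⟨z, hz⟩)
              simp only [Subgroup.coe_mul] at this
              rw [this, mul_inv_cancel_right]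
            constructor
            · intro hy; rw [hcc y hy.2]; exact hy
            · intro hy
              have hyN : y ∈ N := by simpa [mul_assoc] using hNn.conj_mem _ hy.2 x⁻¹
              rwa [hcc y hyN] at hy
        rcases hmin _ hYn inf_le_right with h | h
        · refine Or.inl (le_antisymm (fun y hy => ?_) hXY)
          have hy' : y ∈ X ⊔ N := hXN ▸ mem_top y
          obtain ⟨a, ha, b, hb, rfl⟩ := (Coprime.mem_sup_iff_of_le_normalizer
            (by rw [normalizer_eq_top]; exact le_top)).1 hy'
          have : b ∈ Y ⊓ N := ⟨by simpa using mul_mem (inv_mem (hXY ha)) hy, hb⟩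
          rw [h, mem_bot] at this
          rwa [this, mul_one]
        · exact Or.inr (top_le_iff.1 (hXN.ge.trans (sup_le hXY (h ▸ inf_le_left))))
      -- `G/N` is nilpotent
      have hQuot : Group.IsNilpotent (G ⧸ N) := by
        have hD' := hD.1
        have h1 : Function.Surjective (f.comp D.subtype) := fun y => by
          obtain ⟨x, rfl⟩ := hfs y
          obtain ⟨a, ha, b, hb, rfl⟩ := (Coprime.mem_sup_iff_of_le_normalizer
            (by rw [normalizer_eq_top]; exact le_top)).1 (htop.ge (mem_top x))
          exact ⟨⟨a, ha⟩, by
            show f a = f (a * b)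
            rw [map_mul, hf, QuotientGroup.mk'_apply N b, (QuotientGroup.eq_one_iff b).2 hb, mul_one]⟩
        exact Group.nilpotent_of_surjective _ h1
      have key : ∀ X : Subgroup G, IsCarter X → X ⊔ N = ⊤ →
          ∃ Q : Subgroup G, Q.index = p ^ (Nat.card G).factorization p ∧ ¬ p ∣ Nat.card Q ∧
            X = normalizer (Q : Set G) := by
        intro X hX hXN
        have := hX.1
        obtain ⟨Q₀, hQ₀i, hQ₀p⟩ := exists_pComplement (G := X) hp
        set Q := Q₀.map X.subtype with hQ
        have hQc : Nat.card Q = Nat.card Q₀ := card_map_of_injective X.subtype_injective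
        obtain ⟨e, he⟩ := hpN.exists_card_eq
        have hcc : ∀ x ∈ N, ∀ z ∈ N, x * z * x⁻¹ = z := fun x hx z hz => by
          have := congrArg Subtype.val (mul_comm' (⟨x, hx⟩ : N) ⟨z, hz⟩)
          simp only [Subgroup.coe_mul] at this
          rw [this, mul_inv_cancel_right]
        have hXNn : (X ⊓ N).Normal := by
          rw [← normalizer_eq_top_iff, eq_top_iff, ← hXN, sup_le_iff]
          constructor
          · intro x hx
            rw [mem_normalizer_iff_conj_eq, Subgroup.smul_inf,
              Coprime.conj_smul_eq_self_of_mem (le_normalizer hx),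
              Coprime.conj_smul_eq_self_of_mem (by rw [normalizer_eq_top]; exact mem_top x)]
          · intro x hx
            rw [mem_normalizer_iff]
            intro y
            constructor
            · intro hy; rw [hcc x hx y hy.2]; exact hy
            · intro hy
              have hyN : y ∈ N := by simpa [mul_assoc] using hNn.conj_mem _ hy.2 x⁻¹
              rwa [hcc x hx y hyN] at hy
        have hXNd : X ⊓ N = ⊥ := by
          refine (hmin (X ⊓ N) hXNn inf_le_right).resolve_right fun h => ?_
          have : X = ⊤ := top_le_iff.1 (hXN.ge.trans (sup_le le_rfl (h ▸ inf_le_left)))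
          subst this
          exact hnil (Group.nilpotent_of_mulEquiv Subgroup.topEquiv)
        have hXc : Nat.card X * p ^ e = Nat.card G := by
          rw [← he, ← Coprime.card_sup_of_le_normalizer (by rw [normalizer_eq_top]; exact le_top) hXNd,
            hXN, card_top]
        have hfac : (Nat.card G).factorization p = (Nat.card X).factorization p + e := by
          rw [← hXc, Nat.factorization_mul Nat.card_pos.ne' (pow_ne_zero _ hp.ne_zero),
            Nat.factorization_pow, Finsupp.add_apply, Finsupp.smul_apply,
            Nat.Prime.factorization_self hp, smul_eq_mul, mul_one]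
        have hQi : Q.index = p ^ (Nat.card G).factorization p := by
          refine Nat.eq_of_mul_eq_mul_left (Nat.card_pos (α := Q)) ?_
          rw [card_mul_index, hQc, hfac, pow_add, ← mul_assoc, ← hQ₀i, card_mul_index, hXc]
        refine ⟨Q, hQi, hQc ▸ hQ₀p, ?_⟩
        have hQ₀n : Q₀.Normal := normal_of_coprime_of_nilpotent (by
          rw [hQ₀i]; exact Nat.Coprime.pow_right _ (hp.coprime_iff_not_dvd.2 hQ₀p).symm)
        have hle : X ≤ normalizer (Q : Set G) := by
          intro x hx
          rw [mem_normalizer_iff]
          intro y
          constructor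
          · rintro ⟨z, hz, rfl⟩
            exact ⟨⟨x, hx⟩ * z * ⟨x, hx⟩⁻¹, hQ₀n.conj_mem z hz _, rfl⟩
          · rintro ⟨z, hz, hz'⟩
            refine ⟨⟨x, hx⟩⁻¹ * z * ⟨x, hx⟩, by simpa using hQ₀n.conj_mem z hz (⟨x, hx⟩⁻¹), ?_⟩
            have hz'' : (z : G) = x * y * x⁻¹ := hz'
            show x⁻¹ * (z : G) * x = y
            rw [hz'']
            group
        rcases hcompl X hX hXN _ hle with h | h
        · exact h.symm
        exfalso
        -- otherwise `N` is central
        have hQn : Q.Normal := normalizer_eq_top_iff.1 h
        obtain ⟨P⟩ : Nonempty (Sylow p G) := inferInstance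
        have hNP : N ≤ P := by
          obtain ⟨R, hR⟩ := hpN.exists_le_sylow
          obtain ⟨g, hg⟩ := MulAction.exists_smul_eq G R P
          intro x hx
          rw [← hg, Sylow.smul_def, Sylow.pointwise_smul_def, Coprime.mem_conj_smul_iff]
          exact hR (by simpa using hNn.conj_mem x hx g⁻¹)
        have hPn : (P : Subgroup G).Normal := by
          have h1 : ((P.mapSurjective hfs : Sylow p (G ⧸ N)) : Subgroup (G ⧸ N)).Normal :=
            inferInstance
          have h2 := h1.comap f
          rwa [Sylow.coe_mapSurjective, comap_map_eq, hf, QuotientGroup.ker_mk',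
            sup_eq_left.2 hNP] at h2
        have : Group.IsNilpotent P := P.2.isNilpotent
        have hNP' : N.subgroupOf (P : Subgroup G) ≠ ⊥ := fun h' => hN (by
          rw [subgroupOf_eq_bot, disjoint_iff, inf_eq_left.2 hNP] at h'
          exact h')
        obtain ⟨⟨z, hz⟩, hz1⟩ := ne_bot_iff_exists_ne_one.1 (inf_center_ne_bot hNP')
        have hZn : ((center (P : Subgroup G)).map (P : Subgroup G).subtype ⊓ N).Normal :=
          inferInstance
        have hNZ : N ≤ (center (P : Subgroup G)).map (P : Subgroup G).subtype := by
          rcases hmin _ hZn inf_le_right with h' | h'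
          · exfalso
            have h2 : (z : G) ∈ (center (P : Subgroup G)).map (P : Subgroup G).subtype ⊓ N :=
              ⟨mem_map_of_mem _ hz.2, hz.1⟩
            rw [h', mem_bot] at h2
            exact hz1 (Subtype.ext (Subtype.ext h2))
          · exact h' ▸ inf_le_left
        have hd : N ⊓ Q = ⊥ := Coprime.disjoint_of_coprime_card (by
          rw [he, hQc]
          exact Nat.Coprime.pow_left _ (hp.coprime_iff_not_dvd.2 hQ₀p))
        have hPQ : (P : Subgroup G) ⊔ Q = ⊤ := by
          refine eq_top_of_card_eq _ ?_
          rw [sup_comm, Coprime.card_sup_of_le_normalizer (by rw [normalizer_eq_top]; exact le_top)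
            (Coprime.disjoint_of_coprime_card (by
              rw [hQc, P.card_eq_multiplicity]
              exact Nat.Coprime.pow_right _ (hp.coprime_iff_not_dvd.2 hQ₀p).symm)),
            P.card_eq_multiplicity, ← hQi, card_mul_index]
        have hNX : N ≤ normalizer (X : Set G) := by
          intro x hx
          have hxc : x ∈ center G := by
            rw [← centralizer_univ]
            have h2 : (⊤ : Subgroup G) ≤ centralizer {x} := by
              rw [← hPQ, sup_le_iff]
              constructor
              · intro y hy
                obtain ⟨c, hc, rfl⟩ := hNZ hx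
                exact mem_centralizer_singleton_iff.2
                  (congrArg Subtype.val (mem_center_iff.1 hc ⟨y, hy⟩))
              · intro y hy
                exact mem_centralizer_singleton_iff.2
                  (commute_of_normal_of_disjoint N Q hNn hQn (disjoint_iff.2 hd) x y hx hy).eq.symm
            exact mem_centralizer_iff.2 fun y _ =>
              mem_centralizer_singleton_iff.1 (h2 (mem_top y))
          rw [mem_normalizer_iff]
          intro y
          rw [← mem_center_iff.1 hxc y, mul_inv_cancel_right]
        rw [hX.2] at hNX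
        have : X = ⊤ := top_le_iff.1 (hXN.ge.trans (sup_le le_rfl hNX))
        subst this
        exact hnil (Group.nilpotent_of_mulEquiv Subgroup.topEquiv)
      obtain ⟨Qc, hQc, hQcp, rfl⟩ := key C hC (hsup.trans htop)
      obtain ⟨Qd, hQd, -, rfl⟩ := key D hD htop
      have hc1 : Nat.card Qc * Qc.index = Nat.card G := card_mul_index Qc
      have hc2 : Nat.card Qd = Nat.card Qc := by
        refine Nat.eq_of_mul_eq_mul_right (pow_pos hp.pos ((Nat.card G).factorization p)) ?_
        conv_lhs => rw [← hQd, card_mul_index]
        rw [← hQc, card_mul_index]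
      obtain ⟨x, hx⟩ := exists_conj_eq_hall hc1.symm
        (by rw [hQc]; exact Nat.Coprime.pow_right _ (hp.coprime_iff_not_dvd.2 hQcp).symm) rfl hc2
      refine ⟨x, ?_⟩
      ext y
      rw [Coprime.mem_conj_smul_iff, mem_normalizer_iff_conj_eq, mem_normalizer_iff_conj_eq, ← hx,
        ← Coprime.conj_smul_smul, ← Coprime.conj_smul_smul, map_inv, inv_smul_eq_iff]

/-- **Carter's theorem**. -/
theorem exists_isCarter_and_conj {G : Type*} [Group G] [Finite G] [Group.IsSolvable G] :
    (∃ C : Subgroup G, IsCarter C) ∧
      ∀ C D : Subgroup G, IsCarter C → IsCarter D → ∃ g : G, MulAut.conj g • C = D :=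
  carter_aux _ G rfl

end Cfsg.Agent.Solvable
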