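import Cfsg.Agent.Lib.CharInt.Burnside
import Cfsg.Agent.Lib.Solvable.Hall
import Cfsg.Agent.Lib.Solvable.Basic
import Cfsg.Agent.S0019

/-!
# Sylow systems and the converse of Hall's theorem

* `exists_sylow_system`: a solvable group has pairwise permuting Sylow subgroups;
* `isSolvable_of_pComplements`: Hall `p`-complements for all `p` force solvability;
* `exists_pComplement_of_sylow_system`.
-/

namespace Cfsg.Agent.Solvable

open scoped Pointwise
open Subgroup

theorem coe_sup_of_mul_comm {G : Type*} [Group G] {H K : Subgroup G}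
    (h : (H : Set G) * K = (K : Set G) * H) :
    ((H ⊔ K : Subgroup G) : Set G) = (H : Set G) * K := by
  let L : Subgroup G :=
    { carrier := (H : Set G) * K
      one_mem' := Set.mem_mul.2 ⟨1, one_mem H, 1, one_mem K, one_mul 1⟩
      mul_mem' := fun {x y} hx hy => by
        have : x * y ∈ ((H : Set G) * K) * ((H : Set G) * K) := Set.mul_mem_mul hx hy
        rwa [mul_assoc, ← mul_assoc (K : Set G), ← h, ← mul_assoc, ← mul_assoc,
          coe_mul_coe H, mul_assoc, coe_mul_coe K] at this
      inv_mem' := fun {x} hx => by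
        obtain ⟨a, ha, b, hb, rfl⟩ := Set.mem_mul.1 hx
        rw [h, mul_inv_rev]
        exact Set.mul_mem_mul (inv_mem hb) (inv_mem ha) }
  refine Set.Subset.antisymm ?_ ?_
  · show (H ⊔ K : Subgroup G) ≤ L
    exact sup_le (fun x hx => Set.mem_mul.2 ⟨x, hx, 1, one_mem K, mul_one x⟩)
      (fun x hx => Set.mem_mul.2 ⟨1, one_mem H, x, hx, one_mul x⟩)
  · intro x hx
    obtain ⟨a, ha, b, hb, rfl⟩ := Set.mem_mul.1 hx
    exact mul_mem_sup ha hb

theorem card_mul_of_disjoint {G : Type*} [Group G] {H K : Subgroup G} (hd : H ⊓ K = ⊥) :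
    Nat.card ↥((H : Set G) * (K : Set G)) = Nat.card H * Nat.card K := by
  rw [← Nat.card_prod]
  refine (Nat.card_congr (Equiv.ofBijective
    (fun x : H × K => (⟨(x.1 : G) * x.2, Set.mul_mem_mul x.1.2 x.2.2⟩ :
      ↥((H : Set G) * (K : Set G)))) ⟨?_, ?_⟩)).symm
  · intro x y hxy
    simp only [Subtype.mk.injEq] at hxy
    exact Subgroup.mul_injective_of_disjoint (disjoint_iff.2 hd) hxy
  · rintro ⟨x, hx⟩
    obtain ⟨a, ha, b, hb, rfl⟩ := Set.mem_mul.1 hx
    exact ⟨⟨⟨a, ha⟩, ⟨b, hb⟩⟩, rfl⟩

theorem mul_eq_of_card_eq {G : Type*} [Group G] [Finite G] {P Q T : Subgroup G} (hP : P ≤ T)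
    (hQ : Q ≤ T) (hd : P ⊓ Q = ⊥) (h : Nat.card T ≤ Nat.card P * Nat.card Q) :
    (P : Set G) * Q = T := by
  refine Set.eq_of_subset_of_ncard_le ?_ ?_ (Set.toFinite _)
  · intro x hx
    obtain ⟨a, ha, b, hb, rfl⟩ := Set.mem_mul.1 hx
    exact mul_mem (hP ha) (hQ hb)
  · rw [← Nat.card_coe_set_eq, ← Nat.card_coe_set_eq, card_mul_of_disjoint hd]
    exact h

/-- `Π_{q ∈ s} q ^ v_q(n)`. -/
noncomputable def partProd (n : ℕ) (s : Finset ℕ) : ℕ := ∏ q ∈ s, q ^ n.factorization q

theorem coprime_pow_partProd {n : ℕ} {p : ℕ} {s : Finset ℕ} (hp : p.Prime)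
    (hs : ∀ q ∈ s, q.Prime) (hps : p ∉ s) : (p ^ n.factorization p).Coprime (partProd n s) :=
  Nat.Coprime.prod_right fun q hq =>
    Nat.Coprime.pow _ _ ((Nat.coprime_primes hp (hs q hq)).2 fun h => hps (h ▸ hq))

theorem index_inf_pComplements {G : Type*} [Group G] [Finite G] {H : ℕ → Subgroup G}
    (hH : ∀ q : ℕ, q.Prime → (H q).index = q ^ (Nat.card G).factorization q) (s : Finset ℕ)
    (hs : ∀ q ∈ s, q.Prime) : (s.inf H).index = partProd (Nat.card G) s := by
  classical
  induction s using Finset.induction_on with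
  | empty => simp [partProd]
  | @insert p s hps ih =>
    have hp : p.Prime := hs p (Finset.mem_insert_self p s)
    have hs' : ∀ q ∈ s, q.Prime := fun q hq => hs q (Finset.mem_insert_of_mem hq)
    rw [Finset.inf_insert, index_mul_of_coprime
      (by rw [hH p hp, ih hs']; exact coprime_pow_partProd hp hs' hps), hH p hp, ih hs',
      partProd, partProd, Finset.prod_insert hps]

theorem partProd_erase_mul {n p : ℕ} (hn : n ≠ 0) :
    partProd n (n.primeFactors.erase p) * p ^ n.factorization p = n := by
  classical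
  have h := Nat.prod_factorization_pow_eq_self hn
  rw [Finsupp.prod, Nat.support_factorization] at h
  by_cases hp : p ∈ n.primeFactors
  · rw [partProd, Finset.prod_erase_mul _ _ hp]
    exact h
  · rw [Finset.erase_eq_of_notMem hp, Finsupp.notMem_support_iff.1
      (by rwa [Nat.support_factorization]), pow_zero, mul_one]
    exact h

/-- A finite solvable group has a Sylow system. -/
theorem exists_sylow_system {G : Type*} [Group G] [Finite G] [Group.IsSolvable G] :
    ∃ S : (p : Nat.Primes) → Sylow (p : ℕ) G,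
      ∀ p q : Nat.Primes, (S p : Set G) * (S q : Set G) = (S q : Set G) * (S p : Set G) := by
  classical
  let H : ℕ → Subgroup G := fun q =>
    if hq : q.Prime then Classical.choose (exists_pComplement (G := G) hq) else ⊤
  have hH : ∀ q : ℕ, q.Prime → (H q).index = q ^ (Nat.card G).factorization q := by
    intro q hq
    simp only [H, dif_pos hq]
    exact (Classical.choose_spec (exists_pComplement (G := G) hq)).1
  set s := (Nat.card G).primeFactors
  have hs : ∀ q ∈ s, q.Prime := fun q hq => Nat.prime_of_mem_primeFactors hq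
  have h0 : Nat.card G ≠ 0 := Nat.card_pos.ne'
  have hcard : ∀ p : Nat.Primes,
      Nat.card ((s.erase (p : ℕ)).inf H : Subgroup G) = (p : ℕ) ^ (Nat.card G).factorization p := by
    intro p
    have hpos : 0 < partProd (Nat.card G) (s.erase (p : ℕ)) :=
      Finset.prod_pos fun q hq => pow_pos (hs q (Finset.mem_of_mem_erase hq)).pos _
    refine Nat.eq_of_mul_eq_mul_right hpos ?_
    conv_lhs => rw [← index_inf_pComplements hH _ (fun q hq => hs q (Finset.mem_of_mem_erase hq)),
      card_mul_index]
    rw [mul_comm, partProd_erase_mul h0]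
  have hfact : ∀ p : Nat.Primes, Fact (p : ℕ).Prime := fun p => ⟨p.2⟩
  refine ⟨fun p => haveI := hfact p; Sylow.ofCard _ (hcard p), fun p q => ?_⟩
  show ((((s.erase (p : ℕ)).inf H : Subgroup G)) : Set G) * ((s.erase (q : ℕ)).inf H : Subgroup G)
    = _
  rcases eq_or_ne p q with rfl | hne
  · rfl
  have hne' : (p : ℕ) ≠ q := fun h => hne (Subtype.ext h)
  set T : Subgroup G := ((s.erase (p : ℕ)).erase (q : ℕ)).inf H with hT
  have hTp : (s.erase (p : ℕ)).inf H ≤ T := Finset.inf_mono (Finset.erase_subset _ _)
  have hTq : (s.erase (q : ℕ)).inf H ≤ T := Finset.inf_mono (by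
    rw [Finset.erase_right_comm]; exact Finset.erase_subset _ _)
  have hd : (s.erase (p : ℕ)).inf H ⊓ (s.erase (q : ℕ)).inf H = ⊥ :=
    Coprime.disjoint_of_coprime_card (by
      rw [hcard, hcard]; exact Nat.Coprime.pow _ _ ((Nat.coprime_primes p.2 q.2).2 hne'))
  have hTc : Nat.card T ≤
      (p : ℕ) ^ (Nat.card G).factorization p * (q : ℕ) ^ (Nat.card G).factorization q := by
    have hpos : 0 < partProd (Nat.card G) ((s.erase (p : ℕ)).erase (q : ℕ)) :=
      Finset.prod_pos fun r hr => pow_pos
        (hs r (Finset.mem_of_mem_erase (Finset.mem_of_mem_erase hr))).pos _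
    refine le_of_eq (Nat.eq_of_mul_eq_mul_right hpos ?_)
    conv_lhs => rw [← index_inf_pComplements hH _
      (fun r hr => hs r (Finset.mem_of_mem_erase (Finset.mem_of_mem_erase hr))), ← hT, card_mul_index]
    by_cases hq : (q : ℕ) ∈ s.erase (p : ℕ)
    · have := Finset.prod_erase_mul (s.erase (p : ℕ))
        (fun r => r ^ (Nat.card G).factorization r) hq
      rw [mul_assoc, mul_comm ((q : ℕ) ^ _), partProd, this, mul_comm,
        show (∏ r ∈ s.erase (p : ℕ), r ^ (Nat.card G).factorization r) =
          partProd (Nat.card G) (s.erase (p : ℕ)) from rfl, partProd_erase_mul h0]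
    · have hqs : (q : ℕ) ∉ s := fun h => hq (Finset.mem_erase.2 ⟨hne'.symm, h⟩)
      rw [Finset.erase_eq_of_notMem hq, Finsupp.notMem_support_iff.1
        (by rwa [Nat.support_factorization] : (q : ℕ) ∉ (Nat.card G).factorization.support),
        pow_zero, mul_one, mul_comm, partProd_erase_mul h0]
  show _ = (((s.erase (q : ℕ)).inf H : Subgroup G) : Set G) * ((s.erase (p : ℕ)).inf H : Subgroup G)
  rw [mul_eq_of_card_eq hTp hTq hd (by rw [hcard, hcard]; exact hTc),
    mul_eq_of_card_eq hTq hTp (by rw [inf_comm]; exact hd)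
      (by rw [hcard, hcard, mul_comm]; exact hTc)]

/-- A Hall `p`-complement exists when a Sylow system does. -/
theorem exists_pComplement_of_sylow_system {G : Type*} [Group G] [Finite G]
    (S : (p : Nat.Primes) → Sylow (p : ℕ) G)
    (hS : ∀ p q : Nat.Primes, (S p : Set G) * (S q : Set G) = (S q : Set G) * (S p : Set G))
    (p : ℕ) (hp : p.Prime) : ∃ H : Subgroup G, H.index = p ^ (Nat.card G).factorization p := by
  classical
  have h0 : Nat.card G ≠ 0 := Nat.card_pos.ne'
  have key : ∀ t : Finset ℕ, (∀ q ∈ t, q.Prime) → ∃ L : Subgroup G,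
      Nat.card L = partProd (Nat.card G) t ∧
      ∀ q : Nat.Primes, (L : Set G) * (S q : Set G) = (S q : Set G) * L := by
    intro t ht
    induction t using Finset.induction_on with
    | empty =>
      exact ⟨⊥, by simp [partProd], fun q => by simp⟩
    | @insert r t hrt ih =>
      have hr : r.Prime := ht r (Finset.mem_insert_self r t)
      have ht' : ∀ q ∈ t, q.Prime := fun q hq => ht q (Finset.mem_insert_of_mem hq)
      obtain ⟨L, hL, hperm⟩ := ih ht'
      let R : Nat.Primes := ⟨r, hr⟩
      have : Fact (R : ℕ).Prime := ⟨hr⟩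
      have hRc : Nat.card (S R : Subgroup G) = r ^ (Nat.card G).factorization r :=
        (S R).card_eq_multiplicity
      have hco := coe_sup_of_mul_comm (hperm R)
      have hd : L ⊓ (S R : Subgroup G) = ⊥ :=
        Coprime.disjoint_of_coprime_card (by
          rw [hL, hRc]; exact (coprime_pow_partProd hr ht' hrt).symm)
      refine ⟨L ⊔ (S R : Subgroup G), ?_, fun q => ?_⟩
      · rw [partProd, Finset.prod_insert hrt, ← hRc]
        show Nat.card ↥((L ⊔ (S R : Subgroup G) : Subgroup G) : Set G) = _
        rw [hco, card_mul_of_disjoint hd, hL, mul_comm]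
        rfl
      · rw [hco, mul_assoc]
        show (L : Set G) * ((S R : Set G) * (S q : Set G)) = _
        rw [hS R q, ← mul_assoc, hperm q, mul_assoc]
        rfl
  obtain ⟨L, hL, -⟩ := key ((Nat.card G).primeFactors.erase p)
    (fun q hq => Nat.prime_of_mem_primeFactors (Finset.mem_of_mem_erase hq))
  refine ⟨L, Nat.eq_of_mul_eq_mul_left (Nat.card_pos (α := L)) ?_⟩
  rw [card_mul_index, hL, partProd_erase_mul h0]

private theorem isSolvable_pc_aux.{u} : ∀ (n : ℕ) (G : Type u) [Group G] [Finite G],
    Nat.card G = n → (∀ p : ℕ, p.Prime → ∃ H : Subgroup G, H.index =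
      p ^ (Nat.card G).factorization p) → Group.IsSolvable G := by
  intro n
  induction n using Nat.strong_induction_on with
  | _ n ih =>
    intro G _ _ hn h
    classical
    have h0 : Nat.card G ≠ 0 := Nat.card_pos.ne'
    set s := (Nat.card G).primeFactors with hs
    -- complements are solvable
    have hsol : ∀ p ∈ s, ∀ H : Subgroup G, H.index = p ^ (Nat.card G).factorization p →
        Group.IsSolvable H := by
      intro p hps H hH
      have hp := Nat.prime_of_mem_primeFactors hps
      have hHc : Nat.card H * p ^ (Nat.card G).factorization p = Nat.card G := by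
        rw [← hH, card_mul_index]
      have hlt : Nat.card H < n := by
        rw [← hn, ← hHc]
        exact lt_mul_of_one_lt_right Nat.card_pos (Nat.one_lt_pow
          (hp.factorization_pos_of_dvd h0 (Nat.dvd_of_mem_primeFactors hps)).ne' hp.one_lt)
      refine ih _ hlt H rfl fun q hq => ?_
      rcases eq_or_ne q p with rfl | hne
      · refine ⟨⊤, ?_⟩
        have hf := congrArg (fun m => m.factorization q) hHc
        simp only [Nat.factorization_mul Nat.card_pos.ne' (pow_ne_zero _ hq.ne_zero),
          Nat.factorization_pow, Finsupp.add_apply, Finsupp.smul_apply,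
          Nat.Prime.factorization_self hq, smul_eq_mul, mul_one] at hf
        have : (Nat.card H).factorization q = 0 := by omega
        rw [index_top, this, pow_zero]
      · obtain ⟨K, hK⟩ := h q hq
        refine ⟨K.subgroupOf H, ?_⟩
        have hc : H.index.Coprime K.index := by
          rw [hH, hK]; exact Nat.Coprime.pow _ _ ((Nat.coprime_primes hp hq).2 hne.symm)
        have h1 := index_mul_of_coprime hc
        rw [← relIndex_mul_index (inf_le_left : H ⊓ K ≤ H), inf_relIndex_left, mul_comm H.index] at h1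
        have h2 := Nat.eq_of_mul_eq_mul_right (Nat.pos_of_ne_zero FiniteIndex.index_ne_zero) h1
        have hf := congrArg (fun m => m.factorization q) hHc
        simp only [Nat.factorization_mul Nat.card_pos.ne' (pow_ne_zero _ hp.ne_zero),
          Nat.factorization_pow, Finsupp.add_apply, Finsupp.smul_apply, smul_eq_mul,
          Nat.Prime.factorization hp, Finsupp.single_apply, if_neg hne.symm, mul_zero,
          add_zero] at hf
        show K.relIndex H = _
        rw [h2, hK, hf]
    by_cases hlt : 3 ≤ s.card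
    · obtain ⟨p, hp, q, hq, r, hr, hpq, hpr, hqr⟩ :
          ∃ p ∈ s, ∃ q ∈ s, ∃ r ∈ s, p ≠ q ∧ p ≠ r ∧ q ≠ r := by
        obtain ⟨p, q, r, hp, hq, hr, hpq, hpr, hqr⟩ := Finset.two_lt_card_iff.1 hlt
        exact ⟨p, hp, q, hq, r, hr, hpq, hpr, hqr⟩
      have hp' := Nat.prime_of_mem_primeFactors hp
      have hq' := Nat.prime_of_mem_primeFactors hq
      have hr' := Nat.prime_of_mem_primeFactors hr
      obtain ⟨A, hA⟩ := h p hp'
      obtain ⟨B, hB⟩ := h q hq'
      obtain ⟨C, hC⟩ := h r hr'
      have hco : ∀ {a b : ℕ} {i j : ℕ}, a.Prime → b.Prime → a ≠ b → (a ^ i).Coprime (b ^ j) :=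
        fun ha hb hab => Nat.Coprime.pow _ _ ((Nat.coprime_primes ha hb).2 hab)
      exact S0019.result A B C (hsol p hp A hA) (hsol q hq B hB) (hsol r hr C hC)
        (exists_mul_of_coprime_index (by rw [hA, hB]; exact hco hp' hq' hpq))
        (exists_mul_of_coprime_index (by rw [hA, hC]; exact hco hp' hr' hpr))
        (by rw [hB, hC]; exact hco hq' hr' hqr)
    · have hprod := Nat.prod_factorization_pow_eq_self h0
      rw [Finsupp.prod, Nat.support_factorization, ← hs] at hprod
      obtain h2 | h2 | h2 : s.card = 0 ∨ s.card = 1 ∨ s.card = 2 := by omega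
      · rw [Finset.card_eq_zero.1 h2, Finset.prod_empty] at hprod
        exact CharInt.isSolvable_of_card_eq (a := 0) (b := 0) Nat.prime_two Nat.prime_two
          (by simpa using hprod.symm)
      · obtain ⟨p, hp⟩ := Finset.card_eq_one.1 h2
        rw [hp, Finset.prod_singleton] at hprod
        have hp' : p.Prime := Nat.prime_of_mem_primeFactors
          (n := Nat.card G) (by rw [← hs, hp]; exact Finset.mem_singleton_self p)
        exact CharInt.isSolvable_of_card_eq (b := 0) hp' hp' (by simpa using hprod.symm)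
      · obtain ⟨p, q, hpq, hpq'⟩ := Finset.card_eq_two.1 h2
        rw [hpq', Finset.prod_pair hpq] at hprod
        exact CharInt.isSolvable_of_card_eq
          (Nat.prime_of_mem_primeFactors (n := Nat.card G) (by rw [← hs, hpq']; simp))
          (Nat.prime_of_mem_primeFactors (n := Nat.card G) (by rw [← hs, hpq']; simp)) hprod.symm

/-- **Converse of Hall's theorem**. -/
theorem isSolvable_of_pComplements {G : Type*} [Group G] [Finite G]
    (h : ∀ p : ℕ, p.Prime → ∃ H : Subgroup G, H.index = p ^ (Nat.card G).factorization p) :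
    Group.IsSolvable G :=
  isSolvable_pc_aux _ G rfl h

end Cfsg.Agent.Solvable
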