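import Cfsg.Prelude.Def_SolvableStructure
import Cfsg.Agent.Lib.Solvable.HallConverse
import Cfsg.Agent.Lib.PGroup.Basic

/-!
Hall complement systems of finite solvable groups and their system normalizers.
-/

set_option autoImplicit false

namespace Cfsg.Agent.Solvable

open Subgroup
open scoped Pointwise commutatorElement

variable {G : Type*} [Group G]

theorem relIndex_dvd_index_of_normal_right [Finite G] (T N : Subgroup G) [N.Normal] :
    T.relIndex N ∣ T.index := by
  have h1 := relIndex_mul_relIndex (T ⊓ N) T (T ⊔ N) inf_le_left le_sup_left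
  have h2 := relIndex_mul_relIndex (T ⊓ N) N (T ⊔ N) inf_le_right le_sup_right
  have h3 : N.relIndex (T ⊔ N) = N.relIndex T := relIndex_sup_right T N
  rw [inf_relIndex_left] at h1
  rw [inf_relIndex_right, h3, mul_comm, ← h1] at h2
  have h4 : T.relIndex N = T.relIndex (T ⊔ N) := mul_left_cancel₀ index_ne_zero_of_finite h2
  rw [h4, ← relIndex_mul_index (le_sup_left : T ≤ T ⊔ N)]
  exact Dvd.intro _ rfl

theorem isComplementSystem_conj {K : Nat.Primes → Subgroup G} (hK : Cfsg.IsComplementSystem K)
    (g : G) : Cfsg.IsComplementSystem fun p => MulAut.conj g • K p := by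
  intro p
  rw [← hK p]
  exact index_map_equiv (K p) (MulAut.conj g)

/-- The family of complements, indexed by all natural numbers. -/
noncomputable def natSystem (K : Nat.Primes → Subgroup G) (q : ℕ) : Subgroup G :=
  if h : q.Prime then K ⟨q, h⟩ else ⊤

theorem natSystem_prime (K : Nat.Primes → Subgroup G) (p : Nat.Primes) :
    natSystem K (p : ℕ) = K p := by
  rw [natSystem, dif_pos p.2]; rfl

theorem index_natSystem [Finite G] {K : Nat.Primes → Subgroup G} (hK : Cfsg.IsComplementSystem K)
    (q : ℕ) (hq : q.Prime) : (natSystem K q).index = q ^ (Nat.card G).factorization q := by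
  rw [natSystem, dif_pos hq]; exact hK ⟨q, hq⟩

theorem eq_top_of_notMem_primeFactors [Finite G] {K : Nat.Primes → Subgroup G}
    (hK : Cfsg.IsComplementSystem K) {p : Nat.Primes} (hp : (p : ℕ) ∉ (Nat.card G).primeFactors) :
    K p = ⊤ := by
  rw [← index_eq_one, hK p, Finsupp.notMem_support_iff.1 (by rwa [Nat.support_factorization]),
    pow_zero]

/-- If two systems are componentwise conjugate under a normal subgroup `N`, they are simultaneously
conjugate under `N`. -/
theorem exists_conj_system [Finite G] (N : Subgroup G) [N.Normal] {K L : Nat.Primes → Subgroup G}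
    (hK : Cfsg.IsComplementSystem K) (hL : Cfsg.IsComplementSystem L)
    (h : ∀ p, ∃ n ∈ N, MulAut.conj n • K p = L p) :
    ∃ n ∈ N, ∀ p, MulAut.conj n • K p = L p := by
  classical
  suffices hs : ∀ s : Finset ℕ, (∀ q ∈ s, q.Prime) →
      ∃ n ∈ N, ∀ p : Nat.Primes, (p : ℕ) ∈ s → MulAut.conj n • K p = L p by
    obtain ⟨n, hn, hn'⟩ := hs (Nat.card G).primeFactors fun q hq => Nat.prime_of_mem_primeFactors hq
    refine ⟨n, hn, fun p => ?_⟩
    by_cases hp : (p : ℕ) ∈ (Nat.card G).primeFactors
    · exact hn' p hp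
    · rw [eq_top_of_notMem_primeFactors hK hp, eq_top_of_notMem_primeFactors hL hp]
      exact top_le_iff.mp fun g _ => (Coprime.mem_conj_smul_iff).mpr (mem_top _)
  intro s
  induction s using Finset.induction_on with
  | empty => exact fun _ => ⟨1, one_mem N, fun p hp => absurd hp (Finset.notMem_empty _)⟩
  | @insert q s hqs ih =>
    intro hs
    have hq : q.Prime := hs q (Finset.mem_insert_self q s)
    have hs' : ∀ r ∈ s, r.Prime := fun r hr => hs r (Finset.mem_insert_of_mem hr)
    obtain ⟨n, hn, hn'⟩ := ih hs'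
    obtain ⟨m, hm, hm'⟩ := h ⟨q, hq⟩
    set D := s.inf (natSystem L)
    set K' := MulAut.conj n • K ⟨q, hq⟩
    have hD : D.index = partProd (Nat.card G) s :=
      index_inf_pComplements (index_natSystem hL) s hs'
    have hK' : K'.index = q ^ (Nat.card G).factorization q := isComplementSystem_conj hK n ⟨q, hq⟩
    have hcop : (D.subgroupOf N).index.Coprime (K'.subgroupOf N).index := by
      refine Nat.Coprime.coprime_dvd_left (relIndex_dvd_index_of_normal_right D N)
        (Nat.Coprime.coprime_dvd_right (relIndex_dvd_index_of_normal_right K' N) ?_)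
      rw [hD, hK']
      exact (coprime_pow_partProd hq hs' hqs).symm
    obtain ⟨d, hd, k, hk, hdk⟩ := exists_mul_of_coprime_index hcop
      ⟨m * n⁻¹, N.mul_mem hm (N.inv_mem hn)⟩
    have hx : m * n⁻¹ = (d : G) * k := congrArg Subtype.val hdk
    refine ⟨(d : G) * n, N.mul_mem d.2 hn, fun p hp => ?_⟩
    rcases Finset.mem_insert.mp hp with hpq | hps
    · obtain rfl : p = ⟨q, hq⟩ := Subtype.ext hpq
      have hkK : MulAut.conj (k : G) • K' = K' :=
        conj_smul_eq_self_of_mem (mem_subgroupOf.mp hk)
      rw [map_mul, mul_smul]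
      show MulAut.conj (d : G) • K' = _
      rw [← hkK, ← mul_smul, ← map_mul, ← hx, ← hm']
      simp only [K', ← mul_smul, ← map_mul, inv_mul_cancel_right]
    · rw [map_mul, mul_smul, hn' p hps]
      refine conj_smul_eq_self_of_mem ?_
      rw [← natSystem_prime L p]
      exact Finset.inf_le (f := natSystem L) hps (mem_subgroupOf.mp hd)

/-- Any two complement systems of a finite solvable group are conjugate. -/
theorem exists_conj_eq_system [Finite G] [Group.IsSolvable G] {K L : Nat.Primes → Subgroup G}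
    (hK : Cfsg.IsComplementSystem K) (hL : Cfsg.IsComplementSystem L) :
    ∃ g : G, ∀ p, MulAut.conj g • K p = L p := by
  obtain ⟨g, -, hg⟩ := exists_conj_system ⊤ hK hL fun p => by
    have hKp := hK p
    have hLp := hL p
    have hco : (Nat.card (K p)).Coprime (K p).index := by
      have h1 := (K p).card_mul_index
      rw [hKp] at h1 ⊢
      refine Nat.Coprime.pow_right _ ((p.2.coprime_iff_not_dvd).mpr fun hd => ?_).symm
      have h2 := mul_dvd_mul_right hd ((p : ℕ) ^ (Nat.card G).factorization (p : ℕ))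
      rw [h1, ← pow_succ'] at h2
      exact Nat.pow_succ_factorization_not_dvd Nat.card_pos.ne' p.2 h2
    obtain ⟨g, hg⟩ := exists_conj_eq_hall ((K p).card_mul_index).symm hco rfl (H := K p) (K := L p) (by
      have h1 := (L p).card_mul_index
      rw [hLp, ← hKp, ← (K p).card_mul_index] at h1
      exact Nat.eq_of_mul_eq_mul_right (Nat.pos_of_ne_zero index_ne_zero_of_finite) h1)
    exact ⟨g, mem_top g, hg⟩
  exact ⟨g, hg⟩

theorem not_dvd_card_complement [Finite G] {K : Nat.Primes → Subgroup G}
    (hK : Cfsg.IsComplementSystem K) (p : Nat.Primes) : ¬ (p : ℕ) ∣ Nat.card (K p) := by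
  intro hd
  have h1 := (K p).card_mul_index
  rw [hK p] at h1
  have h2 := mul_dvd_mul_right hd ((p : ℕ) ^ (Nat.card G).factorization (p : ℕ))
  rw [h1, ← pow_succ'] at h2
  exact Nat.pow_succ_factorization_not_dvd Nat.card_pos.ne' p.2 h2

/-- Images of a complement system form a complement system. -/
theorem isComplementSystem_map [Finite G] {K : Nat.Primes → Subgroup G}
    (hK : Cfsg.IsComplementSystem K) (N : Subgroup G) [N.Normal] :
    Cfsg.IsComplementSystem fun p => (K p).map (QuotientGroup.mk' N) := by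
  intro p
  set X := (K p).map (QuotientGroup.mk' N)
  have hdvd : X.index ∣ (p : ℕ) ^ (Nat.card G).factorization (p : ℕ) := by
    rw [← hK p]; exact index_map_dvd (K p) (QuotientGroup.mk'_surjective N)
  obtain ⟨j, -, hj⟩ := (Nat.dvd_prime_pow p.2).mp hdvd
  have hnd : ¬ (p : ℕ) ∣ Nat.card X := fun hd =>
    not_dvd_card_complement hK p (hd.trans (card_map_dvd (K p) _))
  have := congrArg (fun n => n.factorization (p : ℕ)) X.card_mul_index
  rw [hj] at this
  simp only [Nat.factorization_mul Nat.card_pos.ne' (pow_ne_zero _ p.2.ne_zero),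
    Finsupp.add_apply, Nat.factorization_eq_zero_of_not_dvd hnd, zero_add, p.2.factorization_pow,
    Finsupp.single_eq_same] at this
  rw [hj, this]

theorem mem_normalizer_of_system {K : Nat.Primes → Subgroup G} {g : G}
    (h : g ∈ Cfsg.systemNormalizer K) (p : Nat.Primes) : g ∈ normalizer (K p : Set G) :=
  mem_iInf.mp h p

/-- The system normalizer maps onto the system normalizer of the image system. -/
theorem systemNormalizer_map [Finite G] [Group.IsSolvable G] {K : Nat.Primes → Subgroup G}
    (hK : Cfsg.IsComplementSystem K) (N : Subgroup G) [N.Normal] :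
    Cfsg.systemNormalizer (fun p => (K p).map (QuotientGroup.mk' N)) =
      (Cfsg.systemNormalizer K).map (QuotientGroup.mk' N) := by
  refine le_antisymm (fun y hy => ?_) ?_
  · obtain ⟨g, rfl⟩ := QuotientGroup.mk'_surjective N y
    have hconj : ∀ p, ∃ n ∈ N, MulAut.conj n • K p = MulAut.conj g • K p := by
      intro p
      have hle : MulAut.conj g • K p ≤ K p ⊔ N := by
        intro x hx
        rw [Coprime.mem_conj_smul_iff] at hx
        have h1 := (mem_normalizer_iff.mp (mem_normalizer_of_system hy p) _).mp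
          (mem_map_of_mem (QuotientGroup.mk' N) hx)
        rw [← map_inv, ← map_mul, ← map_mul, ← mem_comap, comap_map_eq, QuotientGroup.ker_mk'] at h1
        simpa [mul_assoc] using h1
      set T := K p ⊔ N
      have hKT : K p ≤ T := le_sup_left
      have hc1 : Nat.card ((K p).subgroupOf T) = Nat.card (K p) := Coprime.card_subgroupOf hKT
      have hc2 : Nat.card ((MulAut.conj g • K p).subgroupOf T) = Nat.card (K p) := by
        rw [Coprime.card_subgroupOf hle, Coprime.card_conj_smul]
      have hco : (Nat.card (K p)).Coprime ((K p).subgroupOf T).index := by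
        refine Nat.Coprime.coprime_dvd_right (dvd_of_mul_right_eq _ (relIndex_mul_index hKT)) ?_
        rw [hK p]
        exact Nat.Coprime.pow_right _ ((p.2.coprime_iff_not_dvd).mpr (not_dvd_card_complement hK p)).symm
      obtain ⟨t, ht⟩ := exists_conj_eq_hall (G := T) (by rw [← hc1, card_mul_index]) hco hc1 hc2
      have ht' : MulAut.conj (t : G) • K p = MulAut.conj g • K p :=
        Coprime.conj_smul_of_subgroupOf hKT hle t ht
      have hmem : (t : G) ∈ ((N ⊔ K p : Subgroup G) : Set G) := by rw [sup_comm]; exact t.2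
      rw [normal_mul] at hmem
      obtain ⟨n, hn, k, hk, e⟩ := hmem
      refine ⟨n, hn, ?_⟩
      rw [← ht', ← show n * k = (t : G) from e, map_mul, mul_smul, conj_smul_eq_self_of_mem hk]
    obtain ⟨n, hn, hn'⟩ := exists_conj_system N hK (isComplementSystem_conj hK g) hconj
    refine ⟨n⁻¹ * g, mem_iInf.mpr fun p => ?_, ?_⟩
    · rw [mem_normalizer_iff'']
      intro x
      have h1 : MulAut.conj (n⁻¹ * g) • K p = K p := by
        rw [map_mul, mul_smul, ← hn' p, ← mul_smul, ← map_mul, inv_mul_cancel, map_one, one_smul]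
      conv_lhs => rw [← h1]
      exact Coprime.mem_conj_smul_iff
    · rw [map_mul, show (QuotientGroup.mk' N) n⁻¹ = 1 from
        (QuotientGroup.eq_one_iff _).mpr (inv_mem hn), one_mul]
  · rintro _ ⟨g, hg, rfl⟩
    exact mem_iInf.mpr fun p => le_normalizer_map (QuotientGroup.mk' N)
      (mem_map_of_mem _ (mem_normalizer_of_system hg p))

/-- A prime-power element of `r`-power order normalising the `p`-complement, `p ≠ r`, lies in it. -/
theorem mem_complement_of_normalizes [Finite G] {K : Nat.Primes → Subgroup G}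
    (hK : Cfsg.IsComplementSystem K) {p : Nat.Primes} {x : G} (hx : x ∈ normalizer (K p : Set G))
    (hord : (orderOf x).Coprime p) : x ∈ K p := by
  set N := normalizer (K p : Set G)
  have : ((K p).subgroupOf N).Normal := normal_in_normalizer
  have h1 : orderOf (QuotientGroup.mk' ((K p).subgroupOf N) ⟨x, hx⟩) ∣ orderOf x :=
    (orderOf_map_dvd _ _).trans (by rw [Subgroup.orderOf_mk])
  have h2 : orderOf (QuotientGroup.mk' ((K p).subgroupOf N) ⟨x, hx⟩) ∣
      (p : ℕ) ^ (Nat.card G).factorization (p : ℕ) := by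
    refine (_root_.orderOf_dvd_natCard _).trans ?_
    rw [← hK p]
    exact dvd_of_mul_right_eq _ (relIndex_mul_index (le_normalizer (H := K p)))
  have h3 := Nat.eq_one_of_dvd_coprimes (hord.pow_right _) h1 h2
  rw [orderOf_eq_one_iff] at h3
  exact mem_subgroupOf.mp ((QuotientGroup.eq_one_iff (N := (K p).subgroupOf N) (⟨x, hx⟩ : N)).mp h3)

/-- System normalizers are nilpotent. -/
theorem isNilpotent_systemNormalizer [Finite G] {K : Nat.Primes → Subgroup G}
    (hK : Cfsg.IsComplementSystem K) : Group.IsNilpotent (Cfsg.systemNormalizer K) := by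
  classical
  set S := Cfsg.systemNormalizer K
  refine ((Group.isNilpotent_of_finite_tfae (G := S)).out 0 3 :
    Group.IsNilpotent S ↔ ∀ (r : ℕ) (_ : Fact r.Prime) (R : Sylow r S), (R : Subgroup S).Normal).mpr ?_
  intro r hr R
  let X : Subgroup G := ⨅ p : {p : Nat.Primes // (p : ℕ) ≠ r}, K p.1
  have hXn : (X.subgroupOf S).Normal := by
    refine ⟨fun x hx g => ?_⟩
    rw [mem_subgroupOf] at hx ⊢
    refine mem_iInf.mpr fun p => ?_
    exact (mem_normalizer_iff.mp (mem_normalizer_of_system g.2 p.1) _).mp (mem_iInf.mp hx p)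
  have hXp : IsPGroup r X := by
    obtain ⟨i, hi⟩ : ∃ i, Nat.card X = r ^ i := by
      refine ⟨_, Nat.eq_prime_pow_of_unique_prime_dvd Nat.card_pos.ne' fun {q} hq hqd => ?_⟩
      by_contra hqr
      exact not_dvd_card_complement hK ⟨q, hq⟩ (hqd.trans (card_dvd_of_le
        (iInf_le (fun p : {p : Nat.Primes // (p : ℕ) ≠ r} => K p.1) ⟨⟨q, hq⟩, hqr⟩)))
    exact IsPGroup.of_card hi
  have hRle : (R : Subgroup S) ≤ X.subgroupOf S := by
    intro x hx
    rw [mem_subgroupOf]
    refine mem_iInf.mpr fun p => ?_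
    obtain ⟨i, hi⟩ := IsPGroup.iff_orderOf.mp R.2 ⟨x, hx⟩
    rw [← Subgroup.orderOf_coe, ← Subgroup.orderOf_coe] at hi
    refine mem_complement_of_normalizes hK (mem_normalizer_of_system x.2 p.1) ?_
    rw [hi]
    exact ((Nat.coprime_primes hr.out p.1.2).mpr (Ne.symm p.2)).pow_left i
  rw [← R.3 hXp.comap_subtype hRle]
  exact hXn

/-- A nontrivial element of a minimal normal, non-central `r`-subgroup does not normalise the
`r`-complement. -/
theorem inf_systemNormalizer_eq_bot [Finite G] [Group.IsSolvable G] {K : Nat.Primes → Subgroup G}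
    (hK : Cfsg.IsComplementSystem K) (B : Subgroup G) [hBn : B.Normal] (hB : B ≠ ⊥)
    (hmin : ∀ M : Subgroup G, M.Normal → M ≤ B → M = ⊥ ∨ M = B)
    (hnc : ¬ ⁅B, (⊤ : Subgroup G)⁆ ≤ ⊥) : B ⊓ Cfsg.systemNormalizer K = ⊥ := by
  have hBs : Group.IsSolvable B := inferInstance
  have hBc := isMulCommutative_of_minimal hBs hB hmin
  obtain ⟨r, hr, -, hBr⟩ := exists_prime_of_minimal hB hmin
  have := Fact.mk hr
  set Kr := K ⟨r, hr⟩ with hKr
  set C := centralizer (B : Set G) with hC
  have hCn : C.Normal := inferInstance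
  have hCtop : C ≠ ⊤ := fun e => hnc (by
    rw [commutator_comm, le_bot_iff, commutator_eq_bot_iff_le_centralizer]
    exact e.ge)
  have : Nontrivial (G ⧸ C) := Finite.one_lt_card_iff_nontrivial.mp
    (lt_of_le_of_ne Nat.card_pos fun e => hCtop (index_eq_one.mp e.symm))
  obtain ⟨M', s, hM'n, -, hM'ne, -, -, hs, hM's⟩ :=
    exists_abelian_minimal_normal (G := G ⧸ C) (K := ⊤) inferInstance top_ne_bot
  have := Fact.mk hs
  have hsurj := QuotientGroup.mk'_surjective C
  set M := M'.comap (QuotientGroup.mk' C) with hM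
  have hMn : M.Normal := hM'n.comap _
  have hsr : s ≠ r := by
    rintro rfl
    apply hM'ne
    obtain ⟨R⟩ := (inferInstance : Nonempty (Sylow s M))
    set R₀ := (R : Subgroup M).map M.subtype with hR₀
    have hBR : IsPGroup s ↥(R₀ ⊔ B) := (R.2.map M.subtype).to_sup_of_normal_right' hBr
      (by rw [normalizer_eq_top]; exact le_top)
    have hne : B.subgroupOf (R₀ ⊔ B) ≠ ⊥ := by
      rw [Ne, subgroupOf_eq_bot, disjoint_iff, inf_eq_left.mpr le_sup_right]
      exact hB
    have hzne := PGroup.inf_center_ne_bot hBR (B.subgroupOf (R₀ ⊔ B)) hne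
    obtain ⟨⟨z, hz⟩, ⟨hzB, hzc⟩, hz1⟩ := (bot_or_exists_ne_one _).resolve_left hzne
    have hzB' : z ∈ B := hzB
    have hMle : M ≤ R₀ ⊔ C := by
      intro m hm
      have hCM : C ≤ M := by
        intro c hc
        rw [hM, mem_comap, show QuotientGroup.mk' C c = 1 from (QuotientGroup.eq_one_iff c).mpr hc]
        exact one_mem _
      let f : M →* M' := (QuotientGroup.mk' C).subgroupComap M'
      have hf : Function.Surjective f :=
        MonoidHom.subgroupComap_surjective_of_surjective _ M' hsurj
      have htop : ((R.mapSurjective hf : Sylow s M') : Subgroup M') = ⊤ :=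
        ((R.mapSurjective hf).3 (hM's.to_subgroup ⊤) le_top).symm
      have hfm : f ⟨m, hm⟩ ∈ (R : Subgroup M).map f := by
        rw [← Sylow.coe_mapSurjective hf, htop]; trivial
      obtain ⟨w, hw, hwm⟩ := hfm
      have hwm' : QuotientGroup.mk' C (w : G) = QuotientGroup.mk' C m := congrArg Subtype.val hwm
      rw [QuotientGroup.mk'_eq_mk'] at hwm'
      obtain ⟨c, hc, rfl⟩ := hwm'
      exact mul_mem_sup (mem_map_of_mem _ hw) hc
    have hzfix : z ∈ B ⊓ centralizer (M : Set G) := by
      refine ⟨hzB', centralizer_le hMle (mem_centralizer_iff.mpr fun y hy => ?_)⟩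
      have hle : R₀ ⊔ C ≤ centralizer ({z} : Set G) := by
        refine sup_le (fun u hu => ?_) fun u hu => ?_
        · exact mem_centralizer_singleton_iff.mpr
            (congrArg Subtype.val (mem_center_iff.mp hzc ⟨u, mem_sup_left hu⟩))
        · exact mem_centralizer_singleton_iff.mpr (mem_centralizer_iff.mp hu z hzB').symm
      exact mem_centralizer_singleton_iff.mp (hle hy)
    rcases hmin (B ⊓ centralizer (M : Set G)) inferInstance inf_le_left with h | h
    · rw [h, mem_bot] at hzfix
      exact absurd (Subtype.ext hzfix) hz1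
    · rw [eq_bot_iff]
      intro y hy
      obtain ⟨g, rfl⟩ := hsurj y
      rw [mem_bot]
      refine (QuotientGroup.eq_one_iff g).mpr (mem_centralizer_iff.mpr fun b hb => ?_)
      rw [← h] at hb
      exact (mem_centralizer_iff.mp hb.2 g hy).symm
  have hMK : M' ≤ Kr.map (QuotientGroup.mk' C) := by
    rw [← relIndex_eq_one]
    obtain ⟨i, hi⟩ := IsPGroup.iff_card.mp hM's
    have h1 : (Kr.map (QuotientGroup.mk' C)).relIndex M' ∣ Nat.card M' := relIndex_dvd_card _ _
    have h2 : (Kr.map (QuotientGroup.mk' C)).relIndex M' ∣ r ^ (Nat.card (G ⧸ C)).factorization r := by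
      rw [← isComplementSystem_map hK C ⟨r, hr⟩]
      exact relIndex_dvd_index_of_normal_right _ _
    rw [hi] at h1
    exact Nat.eq_one_of_dvd_coprimes ((Nat.coprime_primes hs hr).mpr hsr |>.pow _ _) h1 h2
  have hBM : B ⊓ centralizer (M : Set G) = ⊥ := by
    rcases hmin (B ⊓ centralizer (M : Set G)) inferInstance inf_le_left with h | h
    · exact h
    · refine absurd ?_ hM'ne
      rw [eq_bot_iff]
      intro y hy
      obtain ⟨g, rfl⟩ := hsurj y
      rw [mem_bot]
      refine (QuotientGroup.eq_one_iff g).mpr (mem_centralizer_iff.mpr fun b hb => ?_)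
      rw [← h] at hb
      exact (mem_centralizer_iff.mp hb.2 g hy).symm
  rw [eq_bot_iff, ← hBM]
  intro x hx
  refine ⟨hx.1, centralizer_le (t := ((Kr ⊔ C : Subgroup G) : Set G)) ?_ (mem_centralizer_iff.mpr fun y hy => ?_)⟩
  · intro m hm
    have h1 : QuotientGroup.mk' C m ∈ Kr.map (QuotientGroup.mk' C) := hMK hm
    rwa [← mem_comap, comap_map_eq, QuotientGroup.ker_mk'] at h1
  have hle : Kr ⊔ C ≤ centralizer ({x} : Set G) := by
    refine sup_le (fun k hk => ?_) fun u hu => ?_
    · have h1 : ⁅x, k⁆ ∈ Kr := Kr.mul_mem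
        ((mem_normalizer_iff.mp (mem_normalizer_of_system hx.2 ⟨r, hr⟩) k).mp hk) (Kr.inv_mem hk)
      have h2 : ⁅x, k⁆ ∈ B := by
        rw [commutatorElement_def, mul_assoc, mul_assoc, ← mul_assoc k]
        exact B.mul_mem hx.1 (hBn.conj_mem _ (B.inv_mem hx.1) k)
      obtain ⟨i, hi⟩ := IsPGroup.iff_card.mp hBr
      have h3 : orderOf ⁅x, k⁆ = 1 := by
        refine Nat.eq_one_of_dvd_coprimes ?_ (Subgroup.orderOf_dvd_natCard _ h1)
          (Subgroup.orderOf_dvd_natCard _ h2)
        rw [hi]
        exact Nat.Coprime.pow_right i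
          ((hr.coprime_iff_not_dvd).mpr (not_dvd_card_complement hK ⟨r, hr⟩)).symm
      exact mem_centralizer_singleton_iff.mpr
        (commutatorElement_eq_one_iff_mul_comm.mp (orderOf_eq_one_iff.mp h3)).symm
    · exact mem_centralizer_singleton_iff.mpr (mem_centralizer_iff.mp hu x hx.1).symm
  exact mem_centralizer_singleton_iff.mp (hle hy)

/-- System normalizers cover central chief factors and avoid the others. -/
theorem cover_avoid [Finite G] [Group.IsSolvable G] {K : Nat.Primes → Subgroup G}
    (hK : Cfsg.IsComplementSystem K) (A B : Subgroup G) [A.Normal] [hBn : B.Normal] (hAB : A < B)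
    (hchief : ∀ N : Subgroup G, N.Normal → A ≤ N → N ≤ B → N = A ∨ N = B) :
    (⁅B, (⊤ : Subgroup G)⁆ ≤ A → B ≤ A ⊔ Cfsg.systemNormalizer K) ∧
      (¬ ⁅B, (⊤ : Subgroup G)⁆ ≤ A → B ⊓ Cfsg.systemNormalizer K ≤ A) := by
  have hsurj := QuotientGroup.mk'_surjective A
  set f := QuotientGroup.mk' A
  have hker : f.ker = A := QuotientGroup.ker_mk' A
  have hmap := systemNormalizer_map hK A
  constructor
  · intro hc x hx
    have hcen : f x ∈ Cfsg.systemNormalizer (fun p => (K p).map f) := by
      refine mem_iInf.mpr fun p => mem_normalizer_iff.mpr fun y => ?_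
      obtain ⟨g, rfl⟩ := hsurj y
      have h1 : ⁅x, g⁆ ∈ A := hc (commutator_mem_commutator hx (mem_top g))
      have h2 : f ⁅x, g⁆ = 1 := (QuotientGroup.eq_one_iff _).mpr h1
      rw [map_commutatorElement, commutatorElement_eq_one_iff_mul_comm] at h2
      rw [h2, mul_inv_cancel_right]
    rw [hmap, ← mem_comap, comap_map_eq, hker, sup_comm] at hcen
    exact hcen
  · intro hc x hx
    have hBn' : (B.map f).Normal := hBn.map f hsurj
    have hker' : f.ker ≤ B := hker.le.trans hAB.le
    have h := inf_systemNormalizer_eq_bot (isComplementSystem_map hK A) (B.map f) ?_ ?_ ?_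
    · have hfx : f x ∈ B.map f ⊓ Cfsg.systemNormalizer (fun p => (K p).map f) := by
        rw [hmap]; exact ⟨mem_map_of_mem f hx.1, mem_map_of_mem f hx.2⟩
      rw [h, mem_bot] at hfx
      exact (QuotientGroup.eq_one_iff x).mp hfx
    · rw [Ne, Subgroup.map_eq_bot_iff, hker]; exact hAB.not_ge
    · intro M hM hle
      rcases hchief (M.comap f) (hM.comap f) (hker.ge.trans (f.ker_le_comap M))
        ((comap_mono hle).trans (comap_map_eq_self hker').le) with h | h
      · left
        rw [← map_comap_eq_self_of_surjective hsurj M, h, Subgroup.map_eq_bot_iff, hker]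
      · right
        rw [← map_comap_eq_self_of_surjective hsurj M, h]
    · intro h
      refine hc ?_
      rw [← map_top_of_surjective f hsurj, ← map_commutator, le_bot_iff, Subgroup.map_eq_bot_iff,
        hker] at h
      exact h

/-- The normal closure of a system normalizer is everything. -/
theorem normalClosure_systemNormalizer [Finite G] [Group.IsSolvable G]
    {K : Nat.Primes → Subgroup G} (hK : Cfsg.IsComplementSystem K) :
    normalClosure ((Cfsg.systemNormalizer K : Subgroup G) : Set G) = ⊤ := by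
  by_contra hne
  set D := normalClosure ((Cfsg.systemNormalizer K : Subgroup G) : Set G) with hD
  obtain ⟨A, ⟨hAn, hDA, hAt⟩, hmax⟩ := (Set.toFinite {A : Subgroup G | A.Normal ∧ D ≤ A ∧ A ≠ ⊤}).exists_maximal
    ⟨D, normalClosure_normal, le_rfl, hne⟩
  have hchief : ∀ N : Subgroup G, N.Normal → A ≤ N → N ≤ ⊤ → N = A ∨ N = ⊤ := fun N hN hle _ => by
    by_cases h : N = ⊤
    · exact Or.inr h
    · exact Or.inl (le_antisymm (hmax ⟨hN, hDA.trans hle, h⟩ hle) hle)
  have := cover_avoid hK A ⊤ (lt_top_iff_ne_top.mpr hAt) hchief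
  by_cases hc : ⁅(⊤ : Subgroup G), ⊤⁆ ≤ A
  · exact hAt (top_le_iff.mp ((this.1 hc).trans (sup_le le_rfl (subset_normalClosure.trans hDA))))
  · have hlt : ⁅(⊤ : Subgroup G), ⊤⁆ ⊔ A = ⊤ := by
      rcases hchief (⁅(⊤ : Subgroup G), ⊤⁆ ⊔ A) inferInstance le_sup_right le_top with h | h
      · exact absurd ((le_sup_left : _ ≤ ⁅(⊤ : Subgroup G), ⊤⁆ ⊔ A).trans h.le) hc
      · exact h
    have hq : Nontrivial (G ⧸ A) := Finite.one_lt_card_iff_nontrivial.mp
      (lt_of_le_of_ne Nat.card_pos fun e => hAt (index_eq_one.mp e.symm))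
    refine (Group.IsSolvable.commutator_lt_top_of_nontrivial (G := G ⧸ A)).ne ?_
    rw [_root_.commutator_def, ← map_top_of_surjective _ (QuotientGroup.mk'_surjective A),
      ← map_commutator]
    conv_rhs => rw [← hlt]
    rw [Subgroup.map_sup, QuotientGroup.map_mk'_self, sup_bot_eq]

end Cfsg.Agent.Solvable
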