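import Cfsg.Agent.Lib.Solvable.Hall
import Cfsg.Agent.Lib.Solvable.System
import Cfsg.Agent.Lib.Solvable.Schmidt
import Cfsg.Agent.Lib.Coprime.Basic
import Cfsg.Agent.Lib.Components.Fitting

/-!
Auxiliary facts for products of nilpotent subgroups of coprime orders: the Sylow part of a
nilpotent subgroup, factorised subgroups, Kegel's permutability lemma.
-/

set_option autoImplicit false

namespace Cfsg.Agent.NilProd

open Subgroup
open scoped Pointwise

variable {G : Type*} [Group G]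

/-- A Sylow `p`-subgroup of `A`, as a subgroup of `G`. -/
noncomputable def part (A : Subgroup G) (p : ℕ) : Subgroup G :=
  ((Classical.arbitrary (Sylow p A) : Sylow p A) : Subgroup A).map A.subtype

theorem part_le (A : Subgroup G) (p : ℕ) : part A p ≤ A := map_subtype_le _

theorem isPGroup_part (A : Subgroup G) (p : ℕ) : IsPGroup p (part A p) :=
  (Classical.arbitrary (Sylow p A) : Sylow p A).2.map A.subtype

theorem exists_orderOf_eq_pow {A : Subgroup G} {p : ℕ} [Fact p.Prime] {x : G} (hx : x ∈ part A p) :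
    ∃ k, orderOf x = p ^ k := by
  obtain ⟨k, hk⟩ := IsPGroup.iff_orderOf.mp (isPGroup_part A p) ⟨x, hx⟩
  exact ⟨k, by rwa [← Subgroup.orderOf_coe] at hk⟩

theorem sylow_normal_of_nilpotent [Finite G] {A : Subgroup G} (hA : Group.IsNilpotent A) {p : ℕ}
    [Fact p.Prime] (P : Sylow p A) : (P : Subgroup A).Normal :=
  ((Group.isNilpotent_of_finite_tfae (G := A)).out 0 3 :
    Group.IsNilpotent A ↔ ∀ (r : ℕ) (_ : Fact r.Prime) (R : Sylow r A), (R : Subgroup A).Normal).mp
    hA p ‹_› P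

theorem mem_part [Finite G] {A : Subgroup G} (hA : Group.IsNilpotent A) {p : ℕ} [Fact p.Prime]
    {x : G} {k : ℕ} (hx : x ∈ A) (ho : orderOf x = p ^ k) : x ∈ part A p := by
  have := sylow_normal_of_nilpotent hA (Classical.arbitrary (Sylow p A))
  have hp : IsPGroup p (zpowers (⟨x, hx⟩ : A)) :=
    IsPGroup.of_card (n := k) (by rw [Nat.card_zpowers, Subgroup.orderOf_mk, ho])
  obtain ⟨R, hR⟩ := hp.exists_le_sylow
  have := Sylow.unique_of_normal (Classical.arbitrary (Sylow p A)) ‹_›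
  rw [Subsingleton.elim R (Classical.arbitrary (Sylow p A))] at hR
  exact ⟨⟨x, hx⟩, hR (mem_zpowers _), rfl⟩

theorem sylow_map_eq_part [Finite G] {A : Subgroup G} (hA : Group.IsNilpotent A) {p : ℕ}
    [Fact p.Prime] (P : Sylow p A) : (P : Subgroup A).map A.subtype = part A p := by
  have := sylow_normal_of_nilpotent hA P
  have := Sylow.unique_of_normal P ‹_›
  rw [part, Subsingleton.elim (Classical.arbitrary (Sylow p A)) P]

theorem card_part [Finite G] (A : Subgroup G) (p : ℕ) [Fact p.Prime] :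
    Nat.card (part A p) = p ^ (Nat.card A).factorization p := by
  rw [part, card_map_of_injective A.subtype_injective, Sylow.card_eq_multiplicity]

theorem part_ne_bot [Finite G] {A : Subgroup G} {p : ℕ} [hp : Fact p.Prime]
    (hd : p ∣ Nat.card A) : part A p ≠ ⊥ := by
  intro h
  have h1 := card_part A p
  rw [h, card_bot] at h1
  have h2 := hp.out.factorization_pos_of_dvd Nat.card_pos.ne' hd
  have h3 := Nat.one_lt_pow h2.ne' hp.out.one_lt
  omega

theorem conj_mem_part [Finite G] {A : Subgroup G} (hA : Group.IsNilpotent A) {p : ℕ}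
    [Fact p.Prime] {a x : G} (hax : a * x * a⁻¹ ∈ A) (hx : x ∈ part A p) :
    a * x * a⁻¹ ∈ part A p := by
  obtain ⟨k, hk⟩ := exists_orderOf_eq_pow hx
  refine mem_part hA hax (k := k) ?_
  rw [← hk, ← MulAut.conj_apply]
  exact MulEquiv.orderOf_eq (MulAut.conj a) x

theorem le_normalizer_part [Finite G] {A : Subgroup G} (hA : Group.IsNilpotent A) (p : ℕ)
    [Fact p.Prime] : A ≤ normalizer (part A p : Set G) := by
  rw [Subgroup.le_normalizer_iff]
  exact fun a ha x hx => conj_mem_part hA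
    (A.mul_mem (A.mul_mem ha (part_le A p hx)) (A.inv_mem ha)) hx

theorem normalizer_le_normalizer_part [Finite G] {A : Subgroup G} (hA : Group.IsNilpotent A)
    (p : ℕ) [Fact p.Prime] : normalizer (A : Set G) ≤ normalizer (part A p : Set G) := by
  rw [Subgroup.le_normalizer_iff]
  exact fun a ha x hx => conj_mem_part hA ((mem_normalizer_iff.mp ha x).mp (part_le A p hx)) hx

theorem commute_part [Finite G] {A : Subgroup G} (hA : Group.IsNilpotent A) {p q : ℕ}
    [Fact p.Prime] [Fact q.Prime] (hpq : p ≠ q) {x y : G} (hx : x ∈ part A p) (hy : y ∈ part A q) :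
    Commute x y := by
  obtain ⟨i, hi⟩ := exists_orderOf_eq_pow hx
  obtain ⟨j, hj⟩ := exists_orderOf_eq_pow hy
  have h := Solvable.commute_of_nilpotent hpq (x := (⟨x, part_le A p hx⟩ : A))
    (y := ⟨y, part_le A q hy⟩) (by rwa [Subgroup.orderOf_mk]) (by rwa [Subgroup.orderOf_mk])
  exact h.map A.subtype

/-- A subgroup containing every Sylow part of `A` contains `A`. -/
theorem le_of_part_le [Finite G] {A S : Subgroup G}
    (h : ∀ p : ℕ, p.Prime → p ∣ Nat.card A → part A p ≤ S) : A ≤ S := by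
  refine subgroupOf_eq_top.mp (Components.eq_top_of_forall_sylow fun p hp hd => ?_)
  exact ⟨Classical.arbitrary _, map_le_iff_le_comap.mp (h p hp hd)⟩

/-- Being centralised by the other parts: a subgroup normalised by the `p`-part and lying in it is
normalised by `A`. -/
theorem le_normalizer_of_le_part [Finite G] {A V : Subgroup G} (hA : Group.IsNilpotent A) {p : ℕ}
    [Fact p.Prime] (hV : V ≤ part A p) (hn : part A p ≤ normalizer (V : Set G)) :
    A ≤ normalizer (V : Set G) := by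
  refine le_of_part_le fun q hq _ => ?_
  by_cases hqp : q = p
  · subst hqp; exact hn
  have := Fact.mk hq
  rw [Subgroup.le_normalizer_iff]
  intro a ha x hx
  rw [(commute_part hA hqp ha (hV hx)).eq, mul_inv_cancel_right]
  exact hx

/-- The centre of the `p`-part. -/
noncomputable def partCenter (A : Subgroup G) (p : ℕ) : Subgroup G :=
  part A p ⊓ centralizer (part A p : Set G)

theorem le_normalizer_partCenter [Finite G] {A : Subgroup G} (hA : Group.IsNilpotent A) (p : ℕ)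
    [Fact p.Prime] : A ≤ normalizer (partCenter A p : Set G) := by
  refine le_normalizer_of_le_part hA inf_le_left ?_
  rw [Subgroup.le_normalizer_iff]
  intro a ha x hx
  rw [mem_centralizer_iff.mp hx.2 a ha, mul_inv_cancel_right]
  exact hx

theorem partCenter_ne_bot [Finite G] {A : Subgroup G} {p : ℕ} [Fact p.Prime]
    (hd : p ∣ Nat.card A) : partCenter A p ≠ ⊥ := by
  have : Nontrivial (part A p) := (nontrivial_iff_ne_bot _).mpr (part_ne_bot hd)
  have := (isPGroup_part A p).center_nontrivial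
  obtain ⟨⟨z, hz⟩, hz1⟩ := exists_ne (1 : center (part A p))
  intro h
  have hzm : (z : G) ∈ partCenter A p := ⟨z.2, mem_centralizer_iff.mpr fun y hy =>
    congrArg Subtype.val (mem_center_iff.mp hz ⟨y, hy⟩)⟩
  rw [h, mem_bot] at hzm
  exact hz1 (Subtype.ext (Subtype.ext hzm))

/-- An element commuting with every part of `A` centralises `A`. -/
theorem mem_centralizer_of_parts [Finite G] {A : Subgroup G} {x : G}
    (h : ∀ p : ℕ, p.Prime → p ∣ Nat.card A → ∀ y ∈ part A p, y * x = x * y) :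
    x ∈ centralizer (A : Set G) := by
  have h1 : A ≤ centralizer ({x} : Set G) := le_of_part_le fun p hp hd y hy =>
    mem_centralizer_singleton_iff.mpr (h p hp hd y hy)
  exact mem_centralizer_iff.mpr fun y hy => mem_centralizer_singleton_iff.mp (h1 hy)

/-- `H` permutes with `L`, elementwise. -/
def Perm (H L : Subgroup G) : Prop :=
  ∀ x ∈ L, ∀ h ∈ H, ∃ h' ∈ H, ∃ x' ∈ L, x * h = h' * x'

theorem perm_sup {H L₁ L₂ : Subgroup G} (h₁ : Perm H L₁) (h₂ : Perm H L₂) :
    Perm H (L₁ ⊔ L₂) := by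
  intro x hx
  rw [← closure_eq L₁, ← closure_eq L₂, ← Subgroup.closure_union] at hx
  induction hx using closure_induction'' with
  | mem x hx =>
    intro h hh
    rcases hx with hx | hx
    · obtain ⟨h', hh', x', hx', e⟩ := h₁ x hx h hh
      exact ⟨h', hh', x', mem_sup_left hx', e⟩
    · obtain ⟨h', hh', x', hx', e⟩ := h₂ x hx h hh
      exact ⟨h', hh', x', mem_sup_right hx', e⟩
  | inv_mem x hx =>
    intro h hh
    rcases hx with hx | hx
    · obtain ⟨h', hh', x', hx', e⟩ := h₁ x⁻¹ (inv_mem hx) h hh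
      exact ⟨h', hh', x', mem_sup_left hx', e⟩
    · obtain ⟨h', hh', x', hx', e⟩ := h₂ x⁻¹ (inv_mem hx) h hh
      exact ⟨h', hh', x', mem_sup_right hx', e⟩
  | one => exact fun h hh => ⟨h, hh, 1, one_mem _, by simp⟩
  | mul x y _ _ ihx ihy =>
    intro h hh
    obtain ⟨h', hh', y', hy', e⟩ := ihy h hh
    obtain ⟨h'', hh'', x', hx', e'⟩ := ihx h' hh'
    exact ⟨h'', hh'', x' * y', mul_mem hx' hy', by
      rw [mul_assoc, e, ← mul_assoc, e', mul_assoc]⟩

theorem perm_of_le_normalizer {H K : Subgroup G} (h : K ≤ normalizer (H : Set G)) : Perm H K :=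
  fun x hx a ha => ⟨x * a * x⁻¹, (mem_normalizer_iff.mp (h hx) a).mp ha, x, hx,
    (inv_mul_cancel_right _ _).symm⟩

theorem perm_of_le_normalizer' {H K : Subgroup G} (h : H ≤ normalizer (K : Set G)) : Perm H K :=
  fun x hx a ha => ⟨a, ha, a⁻¹ * x * a, (mem_normalizer_iff''.mp (h ha) x).mp hx, by
    rw [mul_assoc a⁻¹, mul_inv_cancel_left]⟩

/-- **Kegel's lemma**. -/
theorem exists_normal_of_perm [Finite G] {H K : Subgroup G}
    (hperm : ∀ g : G, Perm H (MulAut.conj g • K)) (hne : ∃ g : G, ∀ h ∈ H, ∀ k ∈ K, g ≠ h * k) :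
    ∃ N : Subgroup G, N.Normal ∧ N ≠ ⊤ ∧ (H ≤ N ∨ K ≤ N) := by
  obtain ⟨L, hKL, hL⟩ : ∃ L, K ≤ L ∧ Maximal (fun L : Subgroup G =>
      (∀ g : G, Perm H (MulAut.conj g • L)) ∧ ∃ g : G, ∀ h ∈ H, ∀ k ∈ L, g ≠ h * k) L :=
    (Set.toFinite _).exists_le_maximal (s := {L : Subgroup G | (∀ g : G,
      Perm H (MulAut.conj g • L)) ∧ ∃ g : G, ∀ h ∈ H, ∀ k ∈ L, g ≠ h * k}) ⟨hperm, hne⟩
  obtain ⟨hLp, g₀, hg₀⟩ := hL.1
  have hLt : L ≠ ⊤ := fun h => hg₀ 1 H.one_mem g₀ (h ▸ mem_top g₀) (one_mul g₀).symm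
  by_cases hall : ∀ g : G, H ≤ normalizer ((MulAut.conj g • L : Subgroup G) : Set G)
  · have hnc : normalClosure (H : Set G) ≤ normalizer (L : Set G) := by
      refine (closure_le _).mpr fun c hc => ?_
      obtain ⟨h, hh, hc⟩ := Group.mem_conjugatesOfSet_iff.mp hc
      obtain ⟨g, rfl⟩ := isConj_iff.mp hc
      rw [SetLike.mem_coe, mem_normalizer_iff]
      intro x
      have h1 := mem_normalizer_iff.mp (hall g⁻¹ hh) (g⁻¹ * x * g)
      simp only [Coprime.mem_conj_smul_iff, inv_inv] at h1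
      simpa [mul_assoc] using h1
    by_cases hn : normalizer (L : Set G) = ⊤
    · exact ⟨L, normalizer_eq_top_iff.mp hn, hLt, Or.inr hKL⟩
    · exact ⟨normalClosure (H : Set G), normalClosure_normal,
        fun e => hn (top_le_iff.mp (e ▸ hnc)), Or.inl subset_normalClosure⟩
  exfalso
  push Not at hall
  obtain ⟨g, hg⟩ := hall
  obtain ⟨h, hh, hhn⟩ := SetLike.not_le_iff_exists.mp hg
  set L₁ := MulAut.conj g • L with hL₁
  -- the join of two conjugates
  have hgen : ∀ (t : G) (h₀ : G), h₀ ∈ H → ∀ x : G, Perm H (MulAut.conj x •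
      (MulAut.conj t • L ⊔ MulAut.conj (h₀ * t) • L)) := by
    intro t h₀ _ x
    rw [Subgroup.smul_sup, Coprime.conj_smul_smul, Coprime.conj_smul_smul]
    exact perm_sup (hLp _) (hLp _)
  set L₂ := L₁ ⊔ MulAut.conj (h * g) • L with hL₂
  have hlt : L₁ < L₂ := lt_of_le_of_ne le_sup_left fun e => by
    have hle : MulAut.conj h • L₁ ≤ L₁ := by
      rw [hL₁, Coprime.conj_smul_smul]
      exact (le_sup_right : _ ≤ L₂).trans e.ge
    have heq : MulAut.conj h • L₁ = L₁ :=
      eq_of_le_of_card_ge hle (Coprime.card_conj_smul _ _).ge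
    refine hhn ?_
    rw [mem_normalizer_iff]
    intro y
    conv_rhs => rw [← heq, Coprime.mem_conj_smul_iff]
    exact iff_of_eq (congrArg (· ∈ L₁) (by group))
  set L' := MulAut.conj g⁻¹ • L₂ with hL'
  have hLL' : L < L' := by
    have h1 : MulAut.conj g⁻¹ • L₁ = L := by
      rw [hL₁, Coprime.conj_smul_smul, inv_mul_cancel, map_one, one_smul]
    rw [← h1, hL']
    exact lt_of_le_of_ne (pointwise_smul_le_pointwise_smul_iff.2 hlt.le)
      fun e => hlt.ne (MulAction.injective _ e)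
  refine hLL'.not_ge (hL.2 ⟨fun x => ?_, ?_⟩ hLL'.le)
  · rw [hL', Coprime.conj_smul_smul]
    exact hgen g h hh _
  -- `H L' ≠ G`
  by_contra hall'
  push Not at hall'
  have hS : ∀ y : G, ∃ a ∈ H, ∃ k ∈ L₂, y = a * k := by
    intro y
    obtain ⟨h₁, hh₁, k₁, hk₁, e⟩ := hall' g
    obtain ⟨h₂, hh₂, k₂, hk₂, e₂⟩ := hall' (y * h₁)
    refine ⟨h₂ * h₁⁻¹, H.mul_mem hh₂ (H.inv_mem hh₁), h₁ * k₂ * h₁⁻¹, ?_, ?_⟩
    · have hk : g * (k₁⁻¹ * k₂ * k₁) * g⁻¹ = h₁ * k₂ * h₁⁻¹ := by rw [e]; group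
      have hmem : k₁⁻¹ * k₂ * k₁ ∈ L' := mul_mem (mul_mem (inv_mem hk₁) hk₂) hk₁
      rw [hL', Coprime.mem_conj_smul_iff, inv_inv] at hmem
      rwa [hk] at hmem
    · calc y = y * h₁ * h₁⁻¹ := by group
        _ = h₂ * k₂ * h₁⁻¹ := by rw [e₂]
        _ = _ := by group
  -- but `H L₂` lies in `⟨H, L₁⟩ = H L₁`
  have hHL₁ : ∀ x ∈ H ⊔ L₁, ∃ a ∈ H, ∃ k ∈ L₁, x = a * k := by
    intro x hx
    rw [← closure_eq H, ← closure_eq L₁, ← Subgroup.closure_union] at hx
    induction hx using closure_induction'' with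
    | mem x hx =>
      rcases hx with hx | hx
      · exact ⟨x, hx, 1, one_mem _, (mul_one x).symm⟩
      · exact ⟨1, one_mem _, x, hx, (one_mul x).symm⟩
    | inv_mem x hx =>
      rcases hx with hx | hx
      · exact ⟨x⁻¹, inv_mem hx, 1, one_mem _, (mul_one _).symm⟩
      · exact ⟨1, one_mem _, x⁻¹, inv_mem hx, (one_mul _).symm⟩
    | one => exact ⟨1, one_mem _, 1, one_mem _, (one_mul 1).symm⟩
    | mul x y _ _ ihx ihy =>
      obtain ⟨a, ha, k, hk, rfl⟩ := ihx
      obtain ⟨b, hb, l, hl, rfl⟩ := ihy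
      obtain ⟨b', hb', k', hk', e⟩ := hLp g k hk b hb
      exact ⟨a * b', mul_mem ha hb', k' * l, mul_mem hk' hl, by
        rw [mul_assoc a k, ← mul_assoc k b, e]; group⟩
  have hsub : L₂ ≤ H ⊔ L₁ := sup_le le_sup_right fun x hx => by
    rw [← Coprime.conj_smul_smul, ← hL₁, Coprime.mem_conj_smul_iff] at hx
    have := mul_mem (mul_mem (mem_sup_left hh : h ∈ H ⊔ L₁) (mem_sup_right hx))
      (inv_mem (mem_sup_left hh : h ∈ H ⊔ L₁))
    simpa [mul_assoc] using this
  have hfull : ∀ y : G, ∃ a ∈ H, ∃ k ∈ L₁, y = a * k := by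
    intro y
    obtain ⟨a, ha, k, hk, rfl⟩ := hS y
    exact hHL₁ _ (mul_mem (mem_sup_left ha) (hsub hk))
  obtain ⟨a, ha, k₀, hk₀, e₀⟩ := hfull g⁻¹
  rw [hL₁, Coprime.mem_conj_smul_iff] at hk₀
  obtain ⟨b, hb, k₂, hk₂, e₂⟩ := hfull (g₀ * a)
  rw [hL₁, Coprime.mem_conj_smul_iff] at hk₂
  have hl : g⁻¹ * k₀ * g = g⁻¹ * a⁻¹ := by
    rw [show k₀ = a⁻¹ * g⁻¹ by rw [e₀]; group]; group
  rw [hl] at hk₀
  refine hg₀ (b * a⁻¹) (mul_mem hb (inv_mem ha))
    ((g⁻¹ * a⁻¹)⁻¹ * (g⁻¹ * k₂ * g) * (g⁻¹ * a⁻¹))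
    (mul_mem (mul_mem (inv_mem hk₀) hk₂) hk₀) ?_
  calc g₀ = g₀ * a * a⁻¹ := by group
    _ = b * k₂ * a⁻¹ := by rw [e₂]
    _ = _ := by group

end Cfsg.Agent.NilProd
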