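import Cfsg.Agent.Lib.Solvable.System
import Cfsg.Agent.Lib.Solvable.Carter

/-!
System normalizers and Carter subgroups: a complement system which reduces into a Carter subgroup
has its system normalizer inside it, with equality for nilpotent length at most two.
-/

set_option autoImplicit false

namespace Cfsg.Agent.Solvable

open Subgroup
open scoped Pointwise commutatorElement

variable {G : Type*} [Group G]

/-- Every element of `D` of order coprime to `q` lies in the `q`-component of `K`. -/
def Reduces (K : Nat.Primes → Subgroup G) (D : Subgroup G) : Prop :=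
  ∀ q : Nat.Primes, ∀ x ∈ D, (orderOf x).Coprime q → x ∈ K q

theorem orderOf_conj (g x : G) : orderOf (g * x * g⁻¹) = orderOf x := by
  rw [← MulAut.conj_apply]
  exact MulEquiv.orderOf_eq (MulAut.conj g) x

/-- A nilpotent group has a normal `q`-complement containing all elements of `q'`-order. -/
theorem exists_complement_of_nilpotent [Finite G] [Group.IsNilpotent G] {q : ℕ} (hq : q.Prime) :
    ∃ Q : Subgroup G, Q.index = q ^ (Nat.card G).factorization q ∧ ¬ q ∣ Nat.card Q ∧
      ∀ x : G, (orderOf x).Coprime q → x ∈ Q := by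
  obtain ⟨Q, hQi, hQq⟩ := exists_pComplement (G := G) hq
  have hQn : Q.Normal := normal_of_coprime_of_nilpotent (by
    rw [hQi]; exact Nat.Coprime.pow_right _ (hq.coprime_iff_not_dvd.2 hQq).symm)
  refine ⟨Q, hQi, hQq, fun x hx => ?_⟩
  rw [← QuotientGroup.eq_one_iff (N := Q), ← orderOf_eq_one_iff]
  have h1 : orderOf (x : G ⧸ Q) ∣ orderOf x := orderOf_map_dvd (QuotientGroup.mk' Q) x
  have h2 : orderOf (x : G ⧸ Q) ∣ q ^ (Nat.card G).factorization q := by
    rw [← hQi]; exact _root_.orderOf_dvd_natCard _
  exact Nat.eq_one_of_dvd_coprimes (hx.pow_right _) h1 h2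

theorem relIndex_eq_pow_of_reduces [Finite G] {K : Nat.Primes → Subgroup G} {D : Subgroup G}
    (hD : Group.IsNilpotent D) (hr : Reduces K D) (q : Nat.Primes) :
    ∃ j, (K q).relIndex D = (q : ℕ) ^ j := by
  obtain ⟨Q, hQi, hQq, -⟩ := exists_complement_of_nilpotent (G := D) q.2
  have hle : Q ≤ (K q).subgroupOf D := fun x hx => by
    rw [mem_subgroupOf]
    refine hr q x x.2 ?_
    rw [Subgroup.orderOf_coe]
    exact Nat.Coprime.coprime_dvd_left (Subgroup.orderOf_dvd_natCard Q hx)
      (q.2.coprime_iff_not_dvd.2 hQq).symm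
  have h1 : (K q).relIndex D ∣ (q : ℕ) ^ (Nat.card D).factorization (q : ℕ) :=
    hQi ▸ index_dvd_of_le hle
  obtain ⟨j, -, hj⟩ := (Nat.dvd_prime_pow q.2).mp h1
  exact ⟨j, hj⟩

/-- Some complement system reduces into a given nilpotent subgroup. -/
theorem exists_reduces [Finite G] [Group.IsSolvable G] {D : Subgroup G} (hD : Group.IsNilpotent D) :
    ∃ K : Nat.Primes → Subgroup G, Cfsg.IsComplementSystem K ∧ Reduces K D := by
  have h : ∀ q : Nat.Primes, ∃ X : Subgroup G,
      X.index = (q : ℕ) ^ (Nat.card G).factorization (q : ℕ) ∧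
      ∀ x ∈ D, (orderOf x).Coprime q → x ∈ X := by
    intro q
    obtain ⟨Q, -, hQq, hQ⟩ := exists_complement_of_nilpotent (G := D) q.2
    obtain ⟨B, hBi, hBq⟩ := exists_pComplement (G := G) q.2
    have hco : (Nat.card B).Coprime ((q : ℕ) ^ (Nat.card G).factorization (q : ℕ)) :=
      Nat.Coprime.pow_right _ (q.2.coprime_iff_not_dvd.2 hBq).symm
    obtain ⟨X, hX, hle⟩ := exists_hall_ge (G := G) (K := Q.map D.subtype)
      (m := Nat.card B) (n := (q : ℕ) ^ (Nat.card G).factorization (q : ℕ))
      (by rw [← hBi, card_mul_index]) hco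
      (by rw [card_map_of_injective D.subtype_injective]
          exact Nat.Coprime.pow_right _ (q.2.coprime_iff_not_dvd.2 hQq).symm)
    refine ⟨X, ?_, fun x hx ho => ?_⟩
    · refine Nat.eq_of_mul_eq_mul_left (Nat.card_pos (α := X)) ?_
      rw [card_mul_index, hX, ← hBi, card_mul_index]
    · exact hle (mem_map_of_mem D.subtype (hQ ⟨x, hx⟩ (by rwa [← Subgroup.orderOf_coe])))
  choose K hK hK' using h
  exact ⟨K, hK, hK'⟩

/-- The elements of `q'`-order of a nilpotent normal subgroup lie in every `q`-complement. -/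
theorem reduces_of_normal [Finite G] [Group.IsSolvable G] {K : Nat.Primes → Subgroup G}
    (hK : Cfsg.IsComplementSystem K) {F : Subgroup G} [hFn : F.Normal] (hF : Group.IsNilpotent F) :
    Reduces K F := by
  obtain ⟨L, hL, hLF⟩ := exists_reduces hF
  obtain ⟨g, hg⟩ := exists_conj_eq_system hL hK
  intro q x hx ho
  rw [← hg q, Coprime.mem_conj_smul_iff]
  refine hLF q _ (by simpa using hFn.conj_mem x hx g⁻¹) ?_
  have := orderOf_conj g⁻¹ x
  rw [inv_inv] at this
  rwa [this]

/-- An element of `q'`-order of an image lifts to one of `q'`-order. -/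
theorem exists_lift_coprime [Finite G] {G' : Type*} [Group G'] (f : G →* G') {D : Subgroup G}
    {y : G'} {q : ℕ} (hq : q.Prime) (hy : y ∈ D.map f) (ho : (orderOf y).Coprime q) :
    ∃ c ∈ D, (orderOf c).Coprime q ∧ f c = y := by
  obtain ⟨c, hc, rfl⟩ := hy
  set i := (orderOf c).factorization q
  obtain ⟨j, hj⟩ := exists_pow_eq_self_of_coprime (x := f c) (n := q ^ i)
    (Nat.Coprime.pow_left i ho.symm)
  refine ⟨(c ^ q ^ i) ^ j, D.pow_mem (D.pow_mem hc _) _, ?_, by rw [map_pow, map_pow, hj]⟩
  refine Nat.Coprime.coprime_dvd_left (orderOf_pow_dvd j) ?_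
  have h0 : orderOf c ≠ 0 := (orderOf_pos c).ne'
  refine Nat.Coprime.coprime_dvd_left (orderOf_dvd_of_pow_eq_one ?_)
    (Nat.coprime_ordCompl hq h0).symm
  rw [← pow_mul]
  show c ^ (q ^ (orderOf c).factorization q * (orderOf c / q ^ (orderOf c).factorization q)) = 1
  rw [Nat.ordProj_mul_ordCompl_eq_self, pow_orderOf_eq_one]

theorem reduces_map [Finite G] {G' : Type*} [Group G'] (f : G →* G')
    {K : Nat.Primes → Subgroup G} {D : Subgroup G} (hr : Reduces K D) :
    Reduces (fun q => (K q).map f) (D.map f) := by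
  intro q y hy ho
  obtain ⟨c, hc, hco, rfl⟩ := exists_lift_coprime f q.2 hy ho
  exact mem_map_of_mem f (hr q c hc hco)

theorem isCarter_map [Finite G] [Group.IsSolvable G] {C : Subgroup G} (hC : IsCarter C)
    (N : Subgroup G) [N.Normal] : IsCarter (C.map (QuotientGroup.mk' N)) := by
  have := hC.1
  have hfs := QuotientGroup.mk'_surjective N
  refine ⟨Group.nilpotent_of_surjective ((QuotientGroup.mk' N).subgroupMap C)
    ((QuotientGroup.mk' N).subgroupMap_surjective C), comap_injective hfs ?_⟩
  rw [comap_normalizer_eq_of_surjective _ hfs, comap_map_eq, QuotientGroup.ker_mk']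
  exact normalizer_eq_of_ge hC le_sup_left (exists_isCarter_and_conj (G := (C ⊔ N : Subgroup G))).2

/-- A nilpotent subgroup into which `K` reduces and which, together with a nilpotent normal
subgroup, generates the group, normalises `K`. -/
theorem le_systemNormalizer_of_reduces [Finite G] [Group.IsSolvable G]
    {K : Nat.Primes → Subgroup G} (hK : Cfsg.IsComplementSystem K) {C F : Subgroup G}
    [hFn : F.Normal] (hF : Group.IsNilpotent F) (htop : C ⊔ F = ⊤) (hr : Reduces K C) :
    C ≤ Cfsg.systemNormalizer K := by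
  refine le_iInf fun q => ?_
  rw [Subgroup.le_normalizer_iff]
  intro x hx k hk
  set f := QuotientGroup.mk' F
  have hkC : f k ∈ C.map f := by
    have hsup : C.map f = ⊤ := by
      rw [← map_top_of_surjective f (QuotientGroup.mk'_surjective F), ← htop, Subgroup.map_sup,
        QuotientGroup.map_mk'_self, sup_bot_eq]
    rw [hsup]; exact mem_top _
  have hok : ∀ z ∈ K q, (orderOf z).Coprime q := fun z hz =>
    Nat.Coprime.coprime_dvd_left (Subgroup.orderOf_dvd_natCard (K q) hz)
      (q.2.coprime_iff_not_dvd.2 (not_dvd_card_complement hK q)).symm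
  obtain ⟨c, hc, hco, hfc⟩ := exists_lift_coprime f q.2 hkC
    (Nat.Coprime.coprime_dvd_left (orderOf_map_dvd f k) (hok k hk))
  have hm : c⁻¹ * k ∈ F := QuotientGroup.eq.mp hfc
  have h1 : x * c * x⁻¹ ∈ K q :=
    hr q _ (C.mul_mem (C.mul_mem hx hc) (C.inv_mem hx)) (by rwa [orderOf_conj])
  have h2 : x * (c⁻¹ * k) * x⁻¹ ∈ K q :=
    reduces_of_normal hK hF q _ (hFn.conj_mem _ hm x)
      (by rw [orderOf_conj]; exact hok _ (mul_mem (inv_mem (hr q c hc hco)) hk))
  simpa [mul_assoc] using mul_mem h1 h2

/-- If a complement system reduces into a Carter subgroup, its system normalizer lies in it. -/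
theorem systemNormalizer_le_of_reduces.{u} : ∀ (n : ℕ) (G : Type u) [Group G] [Finite G]
    [Group.IsSolvable G], Nat.card G = n → ∀ (C : Subgroup G), IsCarter C →
    ∀ K : Nat.Primes → Subgroup G, Cfsg.IsComplementSystem K → Reduces K C →
    Cfsg.systemNormalizer K ≤ C := by
  intro n
  induction n using Nat.strong_induction_on with
  | _ n ih =>
    intro G _ _ _ hn C hC K hK hr
    by_cases hCt : C = ⊤
    · rw [hCt]; exact le_top
    rcases subsingleton_or_nontrivial G with _ | _
    · exact absurd (Subsingleton.elim _ _) hCt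
    obtain ⟨N, p, hNn, -, hN, hmin, hNc, hp, hpN⟩ :=
      exists_abelian_minimal_normal (G := G) (K := ⊤) inferInstance top_ne_bot
    have := Fact.mk hp
    set f := QuotientGroup.mk' N with hf
    have hker : f.ker = N := QuotientGroup.ker_mk' N
    have hlt : Nat.card (G ⧸ N) < n := by
      rw [← hn, ← card_quotient_mul_card N]
      exact lt_mul_of_one_lt_right Nat.card_pos ((Subgroup.one_lt_card_iff_ne_bot N).2 hN)
    have hS : Cfsg.systemNormalizer K ≤ C ⊔ N := by
      have h1 := ih _ hlt (G ⧸ N) rfl (C.map f) (isCarter_map hC N)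
        (fun q => (K q).map f) (isComplementSystem_map hK N) (reduces_map f hr)
      rw [systemNormalizer_map hK N, map_le_iff_le_comap, comap_map_eq, hker] at h1
      exact h1
    have hNnil : Group.IsNilpotent N := hpN.isNilpotent
    by_cases htop : C ⊔ N = ⊤
    swap
    · set H := C ⊔ N with hH
      have hL : Cfsg.IsComplementSystem fun q => (K q).subgroupOf H := by
        intro q
        have hj : ∃ j, (K q).relIndex H = (q : ℕ) ^ j := by
          by_cases hqp : (q : ℕ) = p
          · have h1 : (K q).relIndex H ∣ (K q ⊓ C).relIndex C * C.relIndex H := by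
              rw [relIndex_mul_relIndex _ C H inf_le_right le_sup_left]
              exact relIndex_dvd_of_le_left H inf_le_left
            rw [inf_relIndex_right] at h1
            obtain ⟨j, hj⟩ := relIndex_eq_pow_of_reduces hC.1 hr q
            have e1 := relIndex_mul_relIndex (C ⊓ N) C (C ⊔ N) inf_le_left le_sup_left
            have e2 := relIndex_mul_relIndex (C ⊓ N) N (C ⊔ N) inf_le_right le_sup_right
            have e3 : N.relIndex (C ⊔ N) = N.relIndex C := relIndex_sup_right C N
            rw [inf_relIndex_left] at e1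
            rw [inf_relIndex_right, e3, mul_comm, ← e1] at e2
            have e4 : C.relIndex N = C.relIndex H := mul_left_cancel₀ index_ne_zero_of_finite e2
            obtain ⟨i, hi⟩ := IsPGroup.iff_card.mp hpN
            have h2 : (K q).relIndex H ∣ (q : ℕ) ^ (j + i) := by
              rw [hqp] at hj ⊢
              rw [pow_add, ← hi]
              refine h1.trans (mul_dvd_mul (by rw [hj]) ?_)
              rw [← e4]
              exact relIndex_dvd_card _ _
            obtain ⟨k, -, hk⟩ := (Nat.dvd_prime_pow q.2).mp h2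
            exact ⟨k, hk⟩
          · have hNK : N ≤ K q := fun x hx => by
              refine reduces_of_normal hK hNnil q x hx ?_
              obtain ⟨i, hi⟩ := IsPGroup.iff_card.mp hpN
              exact Nat.Coprime.coprime_dvd_left (hi ▸ Subgroup.orderOf_dvd_natCard N hx)
                (((Nat.coprime_primes hp q.2).mpr (Ne.symm hqp)).pow_left i)
            obtain ⟨j, hj⟩ := relIndex_eq_pow_of_reduces (isCarter_map hC N).1 (reduces_map f hr) q
            rw [relIndex_map_map, hker, sup_eq_left.mpr hNK] at hj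
            exact ⟨j, hj⟩
        obtain ⟨j, hj⟩ := hj
        have hnd : ¬ (q : ℕ) ∣ Nat.card ((K q).subgroupOf H) := fun hd =>
          not_dvd_card_complement hK q (hd.trans (by
            rw [← inf_subgroupOf_right, Coprime.card_subgroupOf inf_le_right]
            exact card_dvd_of_le inf_le_left))
        have h3 := congrArg (fun n => n.factorization (q : ℕ)) ((K q).subgroupOf H).card_mul_index
        rw [show ((K q).subgroupOf H).index = (q : ℕ) ^ j from hj] at h3
        simp only [Nat.factorization_mul Nat.card_pos.ne' (pow_ne_zero _ q.2.ne_zero),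
          Finsupp.add_apply, Nat.factorization_eq_zero_of_not_dvd hnd, zero_add,
          q.2.factorization_pow, Finsupp.single_eq_same] at h3
        show (K q).relIndex H = _
        rw [hj, h3]
      have hlt' : Nat.card H < n :=
        hn ▸ lt_of_le_of_ne (card_le_card_group H) fun e => htop (eq_top_of_card_eq H e)
      have h1 := ih _ hlt' H rfl (C.subgroupOf H) (isCarter_subgroupOf le_sup_left hC) _ hL
        (fun q x hx ho => mem_subgroupOf.mpr
          (hr q x (mem_subgroupOf.mp hx) (by rwa [Subgroup.orderOf_coe])))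
      intro x hx
      refine mem_subgroupOf.mp (h1 (x := ⟨x, hS hx⟩) (mem_iInf.mpr fun q => ?_))
      rw [mem_normalizer_iff]
      intro y
      exact mem_normalizer_iff.mp (mem_normalizer_of_system hx q) y
    have hcc : ∀ x ∈ N, ∀ z ∈ N, x * z = z * x := fun x hx z hz =>
      congrArg Subtype.val (mul_comm' (⟨x, hx⟩ : N) ⟨z, hz⟩)
    have hd : C ⊓ N = ⊥ := by
      have hn' : (C ⊓ N).Normal := by
        rw [← normalizer_eq_top_iff, ← top_le_iff, ← htop]
        refine sup_le ?_ ?_ <;> rw [Subgroup.le_normalizer_iff]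
        · exact fun a ha b hb => ⟨C.mul_mem (C.mul_mem ha hb.1) (C.inv_mem ha),
            hNn.conj_mem b hb.2 a⟩
        · intro a ha b hb
          rw [hcc a ha b hb.2, mul_inv_cancel_right]
          exact hb
      refine (hmin (C ⊓ N) hn' inf_le_right).resolve_right fun h => hCt ?_
      rw [← htop, left_eq_sup]
      exact inf_eq_right.mp h
    have hCS : C ≤ Cfsg.systemNormalizer K := le_systemNormalizer_of_reduces hK hNnil htop hr
    have hSN : N ⊓ Cfsg.systemNormalizer K = ⊥ := by
      refine inf_systemNormalizer_eq_bot hK N hN hmin fun hcen => ?_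
      rw [le_bot_iff, commutator_eq_bot_iff_le_centralizer] at hcen
      refine hCt ?_
      rw [← htop, left_eq_sup, ← hC.2]
      intro m hm
      rw [mem_normalizer_iff]
      intro y
      rw [← mem_centralizer_iff.mp (hcen hm) y (mem_top y), mul_inv_cancel_right]
    intro x hx
    obtain ⟨c, hc, m, hm, rfl⟩ := (Coprime.mem_sup_iff_of_le_normalizer
      (by rw [normalizer_eq_top]; exact le_top)).1 (hS hx)
    have h1 : m ∈ N ⊓ Cfsg.systemNormalizer K :=
      ⟨hm, by simpa using mul_mem (inv_mem (hCS hc)) hx⟩
    rw [hSN, mem_bot] at h1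
    rwa [h1, mul_one]

/-- The system normalizer is equivariant under conjugation. -/
theorem conj_systemNormalizer_le {K L : Nat.Primes → Subgroup G} {g : G}
    (h : ∀ p, MulAut.conj g • L p = K p) {C : Subgroup G} (hC : Cfsg.systemNormalizer L ≤ C) :
    Cfsg.systemNormalizer K ≤ MulAut.conj g • C := by
  intro x hx
  rw [Coprime.mem_conj_smul_iff]
  refine hC (mem_iInf.mpr fun p => mem_normalizer_iff_conj_eq.mpr ?_)
  have h1 := Coprime.conj_smul_eq_self_of_mem (mem_normalizer_of_system hx p)
  rw [← h p, Coprime.conj_smul_smul] at h1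
  rw [mul_assoc, ← Coprime.conj_smul_smul, h1, Coprime.conj_smul_smul, inv_mul_cancel, map_one,
    one_smul]

end Cfsg.Agent.Solvable
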