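import Cfsg.Agent.Lib.Solvable.NilpotentProduct
import Cfsg.Agent.Lib.Solvable.Carter
import Cfsg.Agent.Lib.CharInt.Burnside
import Cfsg.Agent.Lib.Coprime.Generation
import Cfsg.Agent.S0541
import Cfsg.Agent.S0558

/-!
Wielandt's theorem: a product of two nilpotent subgroups of coprime orders is solvable.

In a minimal counterexample `G = AB` (simple, every proper factorised subgroup solvable) we show
successively: `⟨A_p, K⟩ = G` for `1 ≠ K ≤ Z(B_r)` normalised by `B`; `C(A_p) ≤ A`; all maximal
factorised overgroups of `A` normalise `A`; centralisers of the elements of `A ∩ N(B)` lie in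
`N(A)`; finally `|A| > |B|` makes `A ∩ A^z` nontrivial for `z ∈ Z(B)`, which is impossible.
-/

set_option autoImplicit false

namespace Cfsg.Agent.NilProd

open Subgroup
open scoped Pointwise

variable {G : Type*} [Group G]

/-- `G = AB` with `A`, `B` nilpotent of coprime orders. -/
structure Data (A B : Subgroup G) : Prop where
  hA : Group.IsNilpotent A
  hB : Group.IsNilpotent B
  cop : (Nat.card A).Coprime (Nat.card B)
  prod : ∀ g : G, ∃ a ∈ A, ∃ b ∈ B, g = a * b

/-- `U = (A ∩ U)(B ∩ U)`. -/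
def Factors (A B U : Subgroup G) : Prop :=
  ∀ u ∈ U, ∃ a ∈ A, ∃ b ∈ B, a ∈ U ∧ u = a * b

theorem le_normalizer_map_subtype (U : Subgroup G) (N : Subgroup U) [N.Normal] :
    U ≤ normalizer ((N.map U.subtype : Subgroup G) : Set G) := by
  refine (normal_subgroupOf_iff_le_normalizer (map_subtype_le N)).mp ?_
  rw [subgroupOf, comap_map_eq_self_of_injective U.subtype_injective]
  infer_instance

theorem orderOf_conj' (g x : G) : orderOf (g * x * g⁻¹) = orderOf x := by
  rw [← MulAut.conj_apply]
  exact MulEquiv.orderOf_eq (MulAut.conj g) x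

/-- The subgroup generated by the conjugates of `K` inside `S`. -/
noncomputable def closureConj (S K : Subgroup G) : Subgroup G :=
  ⨆ g ∈ {g : G | MulAut.conj g • K ≤ S}, MulAut.conj g • K

theorem conj_closureConj_le (S K : Subgroup G) (a : G) :
    MulAut.conj a • closureConj S K ≤ closureConj (MulAut.conj a • S) K := by
  rw [closureConj, Subgroup.pointwise_smul_subset_iff]
  refine iSup₂_le fun g hg => ?_
  rw [← Subgroup.pointwise_smul_subset_iff, Coprime.conj_smul_smul]
  exact le_iSup₂_of_le (a * g)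
    (by
      show MulAut.conj (a * g) • K ≤ MulAut.conj a • S
      rw [← Coprime.conj_smul_smul]
      exact pointwise_smul_le_pointwise_smul_iff.2 hg) le_rfl

theorem closureConj_conj (S K : Subgroup G) (a : G) :
    closureConj (MulAut.conj a • S) K = MulAut.conj a • closureConj S K := by
  refine le_antisymm ?_ (conj_closureConj_le S K a)
  have h := conj_closureConj_le (MulAut.conj a • S) K a⁻¹
  rw [Coprime.conj_smul_smul, inv_mul_cancel, map_one, one_smul] at h
  have h2 := (pointwise_smul_le_pointwise_smul_iff (a := MulAut.conj a)).2 h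
  rwa [Coprime.conj_smul_smul, mul_inv_cancel, map_one, one_smul] at h2

namespace Data

variable {A B : Subgroup G} (D : Data A B)
include D

theorem symm : Data B A := by
  refine ⟨D.hB, D.hA, D.cop.symm, fun g => ?_⟩
  obtain ⟨a, ha, b, hb, h⟩ := D.prod g⁻¹
  exact ⟨b⁻¹, inv_mem hb, a⁻¹, inv_mem ha, by rw [← mul_inv_rev, ← h, inv_inv]⟩

variable [Finite G]

theorem inf_eq_bot : A ⊓ B = ⊥ := Coprime.disjoint_of_coprime_card D.cop

theorem eq_one {x : G} (ha : x ∈ A) (hb : x ∈ B) : x = 1 := by
  have : x ∈ A ⊓ B := ⟨ha, hb⟩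
  rwa [D.inf_eq_bot, mem_bot] at this

theorem isComplement' : Subgroup.IsComplement' A B := by
  refine isComplement'_of_disjoint_and_mul_eq_univ (disjoint_iff.mpr D.inf_eq_bot) ?_
  refine Set.eq_univ_of_forall fun g => ?_
  obtain ⟨a, ha, b, hb, rfl⟩ := D.prod g
  exact Set.mul_mem_mul ha hb

theorem card_eq : Nat.card A * Nat.card B = Nat.card G := D.isComplement'.card_mul_card

theorem index_eq : B.index = Nat.card A := D.isComplement'.index_eq_card

theorem dvd_or_dvd {r : ℕ} (hr : r.Prime) (h : r ∣ Nat.card G) :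
    r ∣ Nat.card A ∨ r ∣ Nat.card B := hr.dvd_mul.mp (D.card_eq.symm ▸ h)

theorem not_dvd {r : ℕ} (hr : r.Prime) (h : r ∣ Nat.card A) : ¬ r ∣ Nat.card B :=
  fun h' => hr.ne_one (Nat.eq_one_of_dvd_coprimes D.cop h h')

theorem factors_symm {U : Subgroup G} (h : Factors A B U) : Factors B A U := by
  intro u hu
  obtain ⟨a, ha, b, hb, haU, e⟩ := h u⁻¹ (inv_mem hu)
  have hbU : b ∈ U := by
    have := U.mul_mem (U.inv_mem haU) (U.inv_mem hu)
    rwa [e, inv_mul_cancel_left] at this
  exact ⟨b⁻¹, inv_mem hb, a⁻¹, inv_mem ha, inv_mem hbU, by rw [← mul_inv_rev, ← e, inv_inv]⟩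

theorem factors_of_le {U : Subgroup G} (h : A ≤ U) : Factors A B U := fun u _ => by
  obtain ⟨a, ha, b, hb, e⟩ := D.prod u
  exact ⟨a, ha, b, hb, h ha, e⟩

theorem restrict {U : Subgroup G} (hU : Factors A B U) :
    Data (A.subgroupOf U) (B.subgroupOf U) := by
  have := D.hA
  have := D.hB
  refine ⟨?_, ?_, ?_, fun u => ?_⟩
  · rw [← inf_subgroupOf_right]
    have := Solvable.isNilpotent_of_le (inf_le_left : A ⊓ U ≤ A)
    exact Group.nilpotent_of_mulEquiv (subgroupOfEquivOfLe inf_le_right).symm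
  · rw [← inf_subgroupOf_right]
    have := Solvable.isNilpotent_of_le (inf_le_left : B ⊓ U ≤ B)
    exact Group.nilpotent_of_mulEquiv (subgroupOfEquivOfLe inf_le_right).symm
  · rw [← inf_subgroupOf_right A U, ← inf_subgroupOf_right B U,
      Coprime.card_subgroupOf inf_le_right, Coprime.card_subgroupOf inf_le_right]
    exact (D.cop.coprime_dvd_left (card_dvd_of_le inf_le_left)).coprime_dvd_right
      (card_dvd_of_le inf_le_left)
  · obtain ⟨a, ha, b, hb, haU, e⟩ := hU u u.2
    have hbU : b ∈ U := by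
      have := U.mul_mem (U.inv_mem haU) u.2
      rwa [e, inv_mul_cancel_left] at this
    exact ⟨⟨a, haU⟩, ha, ⟨b, hbU⟩, hb, Subtype.ext e⟩

theorem card_factors {U : Subgroup G} (hU : Factors A B U) :
    Nat.card U = Nat.card (A ⊓ U : Subgroup G) * Nat.card (B ⊓ U : Subgroup G) := by
  rw [← (D.restrict hU).card_eq, ← inf_subgroupOf_right A U, ← inf_subgroupOf_right B U,
    Coprime.card_subgroupOf inf_le_right, Coprime.card_subgroupOf inf_le_right]

/-- The `B`-part of a Sylow subgroup of a factorised subgroup. -/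
theorem card_part_inf {U : Subgroup G} (hU : Factors A B U) {r : ℕ} [hr : Fact r.Prime]
    (hrA : ¬ r ∣ Nat.card A) :
    Nat.card (part (B ⊓ U) r) = r ^ (Nat.card U).factorization r := by
  rw [card_part, D.card_factors hU, Nat.factorization_mul Nat.card_pos.ne' Nat.card_pos.ne',
    Finsupp.add_apply, Nat.factorization_eq_zero_of_not_dvd (n := Nat.card (A ⊓ U : Subgroup G))
      (fun h => hrA (h.trans (card_dvd_of_le inf_le_left))), zero_add]

omit D in
theorem le_of_card_full {U Q R : Subgroup G} {r : ℕ} [hr : Fact r.Prime] (hQ : IsPGroup r Q)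
    (hQU : Q ≤ U) (hRQ : R ≤ Q) (hR : Nat.card R = r ^ (Nat.card U).factorization r) : Q ≤ R := by
  refine (eq_of_le_of_card_ge hRQ ?_).ge
  obtain ⟨i, hi⟩ := IsPGroup.iff_card.mp hQ
  rw [hR, hi]
  exact Nat.pow_le_pow_right hr.out.pos
    ((hr.out.pow_dvd_iff_le_factorization Nat.card_pos.ne').mp (hi ▸ card_dvd_of_le hQU))

theorem part_inf_le {U : Subgroup G} (r : ℕ) [Fact r.Prime] : part (B ⊓ U) r ≤ part B r := by
  intro x hx
  obtain ⟨k, hk⟩ := exists_orderOf_eq_pow hx
  exact mem_part D.hB (part_le _ _ hx).1 hk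

/-- `O_r` of a factorised subgroup lies in the `r`-part of `B`. -/
theorem pCore_le_part {U : Subgroup G} (hU : Factors A B U) {r : ℕ} [Fact r.Prime]
    (hrA : ¬ r ∣ Nat.card A) : (Cfsg.pCore r U).map U.subtype ≤ part B r := by
  set R := part (B ⊓ U) r
  have hRU : R ≤ U := (part_le _ _).trans inf_le_right
  set C := (Cfsg.pCore r U).map U.subtype
  have := Components.pCore_normal' (G := U) r
  have hp : IsPGroup r ↥(R ⊔ C) := (isPGroup_part _ r).to_sup_of_normal_right'
    ((Components.isPGroup_pCore' r).map U.subtype)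
    (hRU.trans (le_normalizer_map_subtype U _))
  exact le_sup_right.trans ((le_of_card_full hp (sup_le hRU (map_subtype_le _)) le_sup_left
    (D.card_part_inf hU hrA)).trans (D.part_inf_le r))

/-- A `p`-subgroup normalised by the full `p`-part lies in it. -/
theorem le_part_of_normalized {p : ℕ} [hp : Fact p.Prime] (hpB : ¬ p ∣ Nat.card B) {W : Subgroup G}
    (hW : IsPGroup p W) (hn : part A p ≤ normalizer (W : Set G)) : W ≤ part A p := by
  refine le_sup_right.trans (le_of_card_full (U := ⊤)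
    ((isPGroup_part A p).to_sup_of_normal_right' hW hn) le_top le_sup_left ?_)
  rw [card_part, card_top, ← D.card_eq, Nat.factorization_mul Nat.card_pos.ne' Nat.card_pos.ne',
    Finsupp.add_apply, Nat.factorization_eq_zero_of_not_dvd hpB, add_zero]

theorem card_part_full {p : ℕ} [hp : Fact p.Prime] (hpA : p ∣ Nat.card A) :
    Nat.card (part A p) = p ^ (Nat.card G).factorization p := by
  rw [card_part, ← D.card_eq, Nat.factorization_mul Nat.card_pos.ne' Nat.card_pos.ne',
    Finsupp.add_apply, Nat.factorization_eq_zero_of_not_dvd (D.not_dvd hp.out hpA), add_zero]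

theorem mem_centralizer_of_mem_partCenter {r : ℕ} [Fact r.Prime] {x : G}
    (hx : x ∈ partCenter B r) : x ∈ centralizer (B : Set G) :=
  mem_centralizer_of_parts fun q hq _ y hy => by
    by_cases hqr : q = r
    · subst hqr; exact mem_centralizer_iff.mp hx.2 y hy
    · have := Fact.mk hq
      exact (commute_part D.hB hqr hy hx.1).eq

end Data

/-- A minimal counterexample to Wielandt's theorem. -/
structure Min (A B : Subgroup G) : Prop extends Data A B where
  simple : IsSimpleGroup G
  notPrime : ¬ (Nat.card G).Prime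
  ih : ∀ U : Subgroup G, U ≠ ⊤ → Factors A B U → Group.IsSolvable U

namespace Min

variable {A B : Subgroup G} (M : Min A B) [Finite G]
include M

theorem symm : Min B A where
  toData := M.toData.symm
  simple := M.simple
  notPrime := M.notPrime
  ih U hU h := M.ih U hU (M.toData.symm.factors_symm h)

theorem not_solvable : ¬ Group.IsSolvable G := fun h =>
  M.notPrime (have := M.simple
    CharInt.card_prime_of_simple_comm (IsSimpleGroup.comm_iff_isSolvable.mpr h))

theorem center_eq_bot : center G = ⊥ := by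
  have := M.simple
  rcases (inferInstance : (center G).Normal).eq_bot_or_eq_top with h | h
  · exact h
  · exact absurd (CharInt.card_prime_of_simple_comm fun a b =>
      mem_center_iff.1 (h ▸ mem_top b) a) M.notPrime

theorem centralizer_ne_top {x : G} (hx : x ≠ 1) : centralizer ({x} : Set G) ≠ ⊤ := fun h => by
  have h1 : x ∈ center G := mem_center_iff.mpr fun g =>
    mem_centralizer_singleton_iff.mp (h ▸ mem_top g)
  rw [M.center_eq_bot, mem_bot] at h1
  exact hx h1

theorem A_ne_top : A ≠ ⊤ := fun h => by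
  have h1 := M.hA
  rw [h] at h1
  have := Group.isNilpotent_top.mp h1
  exact M.not_solvable inferInstance

theorem normalizer_ne_top {V : Subgroup G} (h : V ≠ ⊥) (hV : V ≠ ⊤) :
    normalizer (V : Set G) ≠ ⊤ := fun e => by
  have := M.simple
  rcases (normalizer_eq_top_iff.mp e).eq_bot_or_eq_top with h' | h' <;> contradiction

theorem normalizer_ne_top_of_le {V : Subgroup G} (h : V ≠ ⊥) (hVA : V ≤ A) :
    normalizer (V : Set G) ≠ ⊤ :=
  M.normalizer_ne_top h fun e => M.A_ne_top (top_le_iff.mp (e ▸ hVA))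

theorem A_ne_bot : A ≠ ⊥ := fun h => M.symm.A_ne_top (eq_top_iff.mpr fun g _ => by
  obtain ⟨a, ha, b, hb, rfl⟩ := M.prod g
  rw [h, mem_bot] at ha
  simpa [ha] using hb)

theorem exists_other_prime (p : ℕ) (hp : p.Prime) : ∃ q, q.Prime ∧ q ∣ Nat.card A ∧ q ≠ p := by
  by_contra hcon
  push Not at hcon
  have hcard : Nat.card A = p ^ (Nat.card A).primeFactorsList.length :=
    Nat.eq_prime_pow_of_unique_prime_dvd Nat.card_pos.ne' fun {q} hq hqd => hcon q hq hqd
  have hB1 : Nat.card B ≠ 1 := fun h => M.symm.A_ne_bot (eq_bot_of_card_eq B h)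
  obtain ⟨r, hr, hrd⟩ := Nat.exists_prime_and_dvd hB1
  have := Fact.mk hr
  obtain ⟨b, hb, hb1⟩ := (bot_or_exists_ne_one _).resolve_left (partCenter_ne_bot hrd)
  have hle : B ≤ centralizer ({b} : Set G) := fun y hy => mem_centralizer_singleton_iff.mpr
    (mem_centralizer_iff.mp (M.toData.mem_centralizer_of_mem_partCenter hb) y hy)
  obtain ⟨j, -, hj⟩ := (Nat.dvd_prime_pow hp).mp (hcard ▸ M.toData.index_eq ▸ index_dvd_of_le hle)
  have := M.simple
  exact M.notPrime (CharInt.card_prime_of_class_prime_pow hp hb1 hj)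

theorem part_ne {p : ℕ} [hp : Fact p.Prime] : part A p ≠ A := by
  intro h
  obtain ⟨q, hq, hqd, hqp⟩ := M.exists_other_prime p hp.out
  rw [← h, card_part] at hqd
  exact hqp ((Nat.prime_dvd_prime_iff_eq hq hp.out).mp (hq.dvd_of_dvd_pow hqd))

theorem no_perm {H K : Subgroup G} (hHA : H ≤ A) (hHne : H ≠ A) (hH : H ≠ ⊥)
    (hnH : A ≤ normalizer (H : Set G)) (hKB : K ≤ B) (hK : K ≠ ⊥)
    (hnK : B ≤ normalizer (K : Set G)) (h : Perm H K) : False := by
  have hperm : ∀ g : G, Perm H (MulAut.conj g • K) := by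
    intro g x hx y hy
    obtain ⟨a, ha, b, hb, rfl⟩ := M.prod g
    rw [← Coprime.conj_smul_smul, Coprime.conj_smul_eq_self_of_mem (hnK hb),
      Coprime.mem_conj_smul_iff] at hx
    obtain ⟨y', hy', x', hx', e⟩ := h _ hx (a⁻¹ * y * a) ((mem_normalizer_iff''.mp (hnH ha) y).mp hy)
    refine ⟨a * y' * a⁻¹, (mem_normalizer_iff.mp (hnH ha) y').mp hy', a * x' * a⁻¹, ?_, ?_⟩
    · rw [← Coprime.conj_smul_smul, Coprime.conj_smul_eq_self_of_mem (hnK hb),
        Coprime.mem_conj_smul_iff]
      simpa [mul_assoc] using hx'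
    · calc x * y = a * (a⁻¹ * x * a * (a⁻¹ * y * a)) * a⁻¹ := by group
        _ = a * (y' * x') * a⁻¹ := by rw [e]
        _ = _ := by group
  obtain ⟨a, haA, haH⟩ := SetLike.exists_of_lt (lt_of_le_of_ne hHA hHne)
  have hne : ∃ g : G, ∀ y ∈ H, ∀ k ∈ K, g ≠ y * k := ⟨a, fun y hy k hk e => by
    have hk1 : k = 1 := M.toData.eq_one
      (by
        have := A.mul_mem (A.inv_mem (hHA hy)) haA
        rwa [e, inv_mul_cancel_left] at this) (hKB hk)
    rw [hk1, mul_one] at e
    exact haH (e ▸ hy)⟩
  obtain ⟨N, hN, hNt, hle⟩ := exists_normal_of_perm hperm hne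
  have := M.simple
  have hN0 : N = ⊥ := hN.eq_bot_or_eq_top.resolve_right hNt
  subst hN0
  rcases hle with h' | h'
  · exact hH (le_bot_iff.mp h')
  · exact hK (le_bot_iff.mp h')

/-- `⟨A_p, K⟩ = G` for nontrivial `K ≤ Z(B_r)` normalised by `B`. -/
theorem part_sup_eq_top {p r : ℕ} [hp : Fact p.Prime] [hr : Fact r.Prime] (hpA : p ∣ Nat.card A)
    {K : Subgroup G} (hK : K ≤ partCenter B r) (hK0 : K ≠ ⊥)
    (hnK : B ≤ normalizer (K : Set G)) : part A p ⊔ K = ⊤ := by
  by_contra hne
  have hKB : K ≤ B := hK.trans (inf_le_left.trans (part_le _ _))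
  have hrB : r ∣ Nat.card B := by
    by_contra hd
    refine hK0 (le_bot_iff.mp ((hK.trans inf_le_left).trans (le_bot_iff.mpr ?_)))
    refine eq_bot_of_card_eq _ ?_
    rw [card_part, Nat.factorization_eq_zero_of_not_dvd hd, pow_zero]
  have hrA : ¬ r ∣ Nat.card A := fun h => M.toData.not_dvd hr.out h hrB
  have hpB : ¬ p ∣ Nat.card B := M.toData.not_dvd hp.out hpA
  have hpr : p ≠ r := fun h => hrA (h ▸ hpA)
  set D₀ := part A p ⊔ K with hD₀
  have hD₀0 : D₀ ≠ ⊥ := fun h => part_ne_bot hpA (le_bot_iff.mp (h ▸ le_sup_left))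
  set L := normalizer (D₀ : Set G)
  have hLt : L ≠ ⊤ := M.normalizer_ne_top hD₀0 hne
  have hLf : Factors A B L := by
    intro u hu
    obtain ⟨a, ha, b, hb, rfl⟩ := M.prod u
    refine ⟨a, ha, b, hb, ?_, rfl⟩
    have h1 := Coprime.conj_smul_eq_self_of_mem hu
    rw [← Coprime.conj_smul_smul] at h1
    have h2 : MulAut.conj b • D₀ = MulAut.conj a⁻¹ • D₀ := by
      conv_rhs => rw [← h1, Coprime.conj_smul_smul, inv_mul_cancel, map_one, one_smul]
    have hge : D₀ ≤ MulAut.conj b • D₀ := by
      refine sup_le ?_ ?_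
      · rw [h2, ← Coprime.conj_smul_eq_self_of_mem (le_normalizer_part M.hA p (inv_mem ha))]
        exact pointwise_smul_le_pointwise_smul_iff.2 le_sup_left
      · rw [← Coprime.conj_smul_eq_self_of_mem (hnK hb)]
        exact pointwise_smul_le_pointwise_smul_iff.2 le_sup_right
    have hbL : b ∈ L := Solvable.mem_normalizer_iff_conj_eq.mpr
      (eq_of_le_of_card_ge hge (Coprime.card_conj_smul _ _).le).symm
    simpa using L.mul_mem hu (L.inv_mem hbL)
  have hLs : Group.IsSolvable L := M.ih L hLt hLf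
  have hDL := M.toData.restrict hLf
  have hPL : part A p ≤ L := (le_sup_left : _ ≤ D₀).trans le_normalizer
  set R := part (B ⊓ L) r
  have hRL : R ≤ L := (part_le _ _).trans inf_le_right
  have hKR : K ≤ R := fun x hx => by
    obtain ⟨k, hk⟩ := exists_orderOf_eq_pow (hK hx).1
    have := M.hB
    exact mem_part (Solvable.isNilpotent_of_le inf_le_left)
      ⟨hKB hx, le_normalizer ((le_sup_right : K ≤ D₀) hx)⟩ hk
  set m := p ^ (Nat.card L).factorization p * r ^ (Nat.card L).factorization r with hm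
  obtain ⟨n, hn⟩ : m ∣ Nat.card L :=
    Nat.Coprime.mul_dvd_of_dvd_of_dvd (Nat.Coprime.pow _ _ ((Nat.coprime_primes hp.out hr.out).mpr hpr))
      (Nat.ordProj_dvd _ _) (Nat.ordProj_dvd _ _)
  have hco : m.Coprime n := Nat.coprime_of_dvd fun s hs h1 h2 => by
    have hd : s ^ ((Nat.card L).factorization s + 1) ∣ Nat.card L := by
      rw [pow_succ]
      conv_rhs => rw [hn]
      refine mul_dvd_mul ?_ h2
      rcases hs.dvd_mul.mp h1 with h | h
      · rw [(Nat.prime_dvd_prime_iff_eq hs hp.out).mp (hs.dvd_of_dvd_pow h)]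
        exact dvd_mul_right _ _
      · rw [(Nat.prime_dvd_prime_iff_eq hs hr.out).mp (hs.dvd_of_dvd_pow h)]
        exact dvd_mul_left _ _
    exact Nat.pow_succ_factorization_not_dvd Nat.card_pos.ne' hs hd
  have hPc : Nat.card ((part A p).subgroupOf L) = p ^ (Nat.card L).factorization p := by
    rw [Coprime.card_subgroupOf hPL]
    refine Nat.dvd_antisymm ?_ ?_
    · obtain ⟨k, hk⟩ := IsPGroup.iff_card.mp (isPGroup_part A p)
      rw [hk]
      exact Nat.pow_dvd_pow p ((hp.out.pow_dvd_iff_le_factorization Nat.card_pos.ne').mp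
        (hk ▸ card_dvd_of_le hPL))
    · rw [M.toData.card_part_full hpA]
      exact Nat.pow_dvd_pow p ((hp.out.pow_dvd_iff_le_factorization Nat.card_pos.ne').mp
        ((Nat.ordProj_dvd _ _).trans L.card_subgroup_dvd_card))
  obtain ⟨X, hXc, hPX⟩ := Solvable.exists_hall_ge hn hco (K := (part A p).subgroupOf L)
    (hco.coprime_dvd_left (hPc ▸ dvd_mul_right _ _))
  obtain ⟨l, hl⟩ := Solvable.exists_le_conj_hall hn hco hXc (K := R.subgroupOf L)
    (hco.coprime_dvd_left (by
      rw [Coprime.card_subgroupOf hRL, M.toData.card_part_inf hLf hrA]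
      exact dvd_mul_left _ _))
  obtain ⟨b, hb, a, ha, rfl⟩ := hDL.symm.prod l
  set X' := MulAut.conj a • X
  have hRX : R.subgroupOf L ≤ X' := by
    intro x hx
    have hbn : b⁻¹ ∈ normalizer (R.subgroupOf L : Set L) := by
      refine inv_mem ?_
      rw [mem_normalizer_iff]
      intro y
      have := M.hB
      have hbR : (b : G) ∈ normalizer (R : Set G) :=
        le_normalizer_part (Solvable.isNilpotent_of_le inf_le_left) r ⟨hb, b.2⟩
      exact mem_normalizer_iff.mp hbR y
    have h1 := hl ((mem_normalizer_iff''.mp hbn x).mp hx)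
    rw [← Coprime.conj_smul_smul, Coprime.mem_conj_smul_iff] at h1
    simpa [X', mul_assoc] using h1
  have hPX' : (part A p).subgroupOf L ≤ X' := by
    intro x hx
    rw [Coprime.mem_conj_smul_iff]
    refine hPX ?_
    have hapn : (a : G) ∈ normalizer (part A p : Set G) := le_normalizer_part M.hA p ha
    exact mem_subgroupOf.mpr ((mem_normalizer_iff''.mp hapn _).mp hx)
  set L₂ := X'.map L.subtype with hL₂
  have hL₂L : L₂ ≤ L := map_subtype_le _
  have hL₂c : Nat.card L₂ = m := by
    rw [hL₂, card_map_of_injective L.subtype_injective, Coprime.card_conj_smul, hXc]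
  have hPL₂ : part A p ≤ L₂ := fun x hx => ⟨⟨x, hPL hx⟩, hPX' hx, rfl⟩
  have hRL₂ : R ≤ L₂ := fun x hx => ⟨⟨x, hRL hx⟩, hRX hx, rfl⟩
  have hL₂s : Group.IsSolvable L₂ := Coprime.isSolvable_of_le hL₂L hLs
  have := Components.pCore_normal' (G := L₂) p
  have := Components.pCore_normal' (G := L₂) r
  set V := (Cfsg.pCore p L₂).map L₂.subtype with hV
  have hVn : L₂ ≤ normalizer (V : Set G) := le_normalizer_map_subtype _ _
  have hVP : V ≤ part A p := M.toData.le_part_of_normalized hpB
    ((Components.isPGroup_pCore' p).map L₂.subtype) (hPL₂.trans hVn)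
  have hV0 : V = ⊥ := by
    by_contra h0
    refine M.no_perm (hVP.trans (part_le A p)) (fun e => M.part_ne (p := p) ?_) h0
      (le_normalizer_of_le_part M.hA hVP (hPL₂.trans hVn)) hKB hK0 hnK
      (perm_of_le_normalizer ((hKR.trans hRL₂).trans hVn))
    exact le_antisymm (part_le A p) (e ▸ hVP)
  set Q := (Cfsg.pCore r L₂).map L₂.subtype with hQ
  have hQn : L₂ ≤ normalizer (Q : Set G) := le_normalizer_map_subtype _ _
  have hRc : Nat.card R = r ^ (Nat.card L₂).factorization r := by
    rw [M.toData.card_part_inf hLf hrA, hL₂c, hm,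
      Nat.factorization_mul (pow_ne_zero _ hp.out.ne_zero) (pow_ne_zero _ hr.out.ne_zero),
      Finsupp.add_apply, hp.out.factorization_pow, hr.out.factorization_pow,
      Finsupp.single_eq_of_ne (Ne.symm hpr), Finsupp.single_eq_same, zero_add]
  have hQR : Q ≤ R := le_sup_right.trans (Data.le_of_card_full
    ((isPGroup_part _ r).to_sup_of_normal_right'
      ((Components.isPGroup_pCore' r).map L₂.subtype) (hRL₂.trans hQn))
    (sup_le hRL₂ (map_subtype_le _)) le_sup_left hRc)
  -- `K ≤ O_r(L₂)`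
  have hKQ : K ≤ Q := by
    intro k hk
    have hF : Cfsg.fittingSubgroup L₂ ≤ Cfsg.pCore r L₂ := by
      rw [Components.fittingSubgroup_eq_iSup_pCore]
      refine iSup_le fun s => ?_
      obtain ⟨hs, hsd, -⟩ := Nat.mem_primeFactors.mp s.2
      have hsd' : (s : ℕ) ∣ p ^ (Nat.card L).factorization p * r ^ (Nat.card L).factorization r :=
        hm ▸ hL₂c ▸ hsd
      rcases hs.dvd_mul.mp hsd' with h | h
      · rw [(Nat.prime_dvd_prime_iff_eq hs hp.out).mp (hs.dvd_of_dvd_pow h),
          (map_eq_bot_iff_of_injective _ L₂.subtype_injective).mp hV0]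
        exact bot_le
      · rw [(Nat.prime_dvd_prime_iff_eq hs hr.out).mp (hs.dvd_of_dvd_pow h)]
    have hkL : k ∈ L₂ := hRL₂ (hKR hk)
    have h1 : (⟨k, hkL⟩ : L₂) ∈ centralizer (Cfsg.fittingSubgroup L₂ : Set L₂) := by
      refine mem_centralizer_iff.mpr fun y hy => Subtype.ext ?_
      exact mem_centralizer_iff.mp (hK hk).2 _
        (M.toData.part_inf_le r (hQR (mem_map_of_mem _ (hF hy))))
    exact ⟨⟨k, hkL⟩, hF (Components.centralizer_fittingSubgroup_le h1), rfl⟩
  set Y := part A p
  have hYQ : ∀ y ∈ Y, MulAut.conj y • K ≤ Q := fun y hy =>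
    (pointwise_smul_le_pointwise_smul_iff.2 hKQ).trans
      (Coprime.conj_smul_eq_self_of_mem (hQn (hPL₂ hy))).le
  obtain ⟨P, hP⟩ := S0541.result r K Y fun g => by
    obtain ⟨a, ha, b, hb, rfl⟩ := M.prod g
    have hQp : IsPGroup r (MulAut.conj a • Q : Subgroup G) :=
      ((Components.isPGroup_pCore' r).map L₂.subtype).map (MulAut.conj a).toMonoidHom
    refine hQp.to_le (iSup₂_le fun y hy => ?_)
    rw [show y * (a * b) = a * (a⁻¹ * y * a) * b by group, ← Coprime.conj_smul_smul,
      Coprime.conj_smul_eq_self_of_mem (hnK hb), ← Coprime.conj_smul_smul]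
    exact pointwise_smul_le_pointwise_smul_iff.2
      (hYQ _ ((mem_normalizer_iff''.mp (le_normalizer_part M.hA p ha) y).mp hy))
  change Y ≤ normalizer (closureConj (P : Subgroup G) K : Set G) at hP
  set S := part B r
  have hSc : Nat.card S = r ^ (Nat.card G).factorization r := M.toData.symm.card_part_full hrB
  let S' : Sylow r G := Sylow.ofCard S (by rw [hSc])
  obtain ⟨g, hg⟩ := MulAction.exists_smul_eq G S' P
  obtain ⟨a, ha, b, hb, rfl⟩ := M.prod g
  have hPS : (P : Subgroup G) = MulAut.conj a • S := by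
    rw [← hg, Sylow.smul_def, Sylow.pointwise_smul_def, ← Coprime.conj_smul_smul]
    show MulAut.conj a • MulAut.conj b • S = _
    rw [Coprime.conj_smul_eq_self_of_mem (le_normalizer_part M.hB r hb)]
  rw [hPS, closureConj_conj] at hP
  set T := closureConj S K with hT
  have hYT : Y ≤ normalizer (T : Set G) := by
    intro y hy
    have h1 := Coprime.conj_smul_eq_self_of_mem
      (hP ((mem_normalizer_iff.mp (le_normalizer_part M.hA p ha) y).mp hy))
    rw [Coprime.conj_smul_smul, show a * y * a⁻¹ * a = a * y by group,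
      ← Coprime.conj_smul_smul] at h1
    exact Solvable.mem_normalizer_iff_conj_eq.mpr (MulAction.injective _ h1)
  have hBT : B ≤ normalizer (T : Set G) := fun b hb => by
    have hle : MulAut.conj b • T ≤ T := by
      refine (conj_closureConj_le S K b).trans ?_
      rw [Coprime.conj_smul_eq_self_of_mem (le_normalizer_part M.hB r hb)]
    exact Solvable.mem_normalizer_iff_conj_eq.mpr
      (eq_of_le_of_card_ge hle (Coprime.card_conj_smul _ _).ge)
  have hTS : T ≤ S := iSup₂_le fun g hg => hg
  have hKT : K ≤ T := le_iSup₂_of_le (1 : G)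
    (show MulAut.conj (1 : G) • K ≤ S by rw [map_one, one_smul]; exact hK.trans inf_le_left)
    (by rw [map_one, one_smul])
  exact M.no_perm (part_le A p) M.part_ne (part_ne_bot hpA) (le_normalizer_part M.hA p)
    (hTS.trans (part_le _ _)) (fun e => hK0 (le_bot_iff.mp (e ▸ hKT))) hBT
    (perm_of_le_normalizer' hYT)

end Min

end Cfsg.Agent.NilProd
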