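import Cfsg.Agent.Lib.Subnormal.Zipper
import Cfsg.Agent.Lib.Coprime.Basic

/-!
# Wielandt's subnormality criterion

`A` is subnormal as soon as it is subnormal in each `A ⊔ A^g`.
-/

namespace Cfsg.Agent.Solvable

open scoped Pointwise
open Subgroup

private theorem isSubnormal_criterion_aux.{u} : ∀ (n : ℕ) (G : Type u) [Group G] [Finite G],
    Nat.card G = n → ∀ A : Subgroup G,
    (∀ g : G, Subnormal.SN A (A ⊔ MulAut.conj g • A)) → A.IsSubnormal := by
  intro n
  induction n using Nat.strong_induction_on with
  | _ n ih =>
    intro G _ _ hn A h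
    by_cases hA : A = ⊤
    · rw [hA]; exact IsSubnormal.top
    -- `A` is subnormal in every proper subgroup containing it
    have hprop : ∀ P : Subgroup G, A ≤ P → P ≠ ⊤ → Subnormal.SN A P := by
      intro P hAP hP
      refine ⟨hAP, ih (Nat.card P) ?_ P rfl _ fun x => ?_⟩
      · rw [← hn]
        refine lt_of_le_of_ne (card_le_card_group P) fun e => hP ?_
        exact eq_top_of_card_eq P e
      · have hle : A ⊔ MulAut.conj (x : G) • A ≤ P := by
          refine sup_le hAP fun y hy => ?_
          rw [Coprime.mem_conj_smul_iff] at hy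
          have := mul_mem (mul_mem x.2 (hAP hy)) (inv_mem x.2)
          simpa [mul_assoc] using this
        have heq : MulAut.conj x • A.subgroupOf P = (MulAut.conj (x : G) • A).subgroupOf P := by
          ext y
          simp [Coprime.mem_conj_smul_iff, mem_subgroupOf]
        rw [heq, ← subgroupOf_sup hAP (le_sup_right.trans hle)]
        refine ⟨fun y hy => mem_sup_left (mem_subgroupOf.1 hy), ?_⟩
        exact (h x).2.comap ((subgroupOfEquivOfLe hle).toMonoidHom)
    by_cases hgen : normalClosure (A : Set G) = ⊤
    · by_cases htop : ∃ g : G, A ⊔ MulAut.conj g • A = ⊤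
      · obtain ⟨g, hg⟩ := htop
        have := h g
        rw [hg, Subnormal.sn_top_iff] at this
        exact this
      exfalso
      push_neg at htop
      obtain ⟨M, hM, hAM⟩ := (eq_top_or_exists_le_coatom A).resolve_left hA
      have huniq := Subnormal.coatom_unique hgen
        (fun P _ hP _ hAP _ hPe _ => absurd (hprop P hAP hP.1) hPe)
      apply hM.1
      refine top_le_iff.1 (hgen.ge.trans ((closure_le _).2 ?_))
      intro c hc
      obtain ⟨a, ha, hca⟩ := Group.mem_conjugatesOfSet_iff.1 hc
      obtain ⟨g, rfl⟩ := isConj_iff.1 hca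
      obtain ⟨P, hP, hgP⟩ := (eq_top_or_exists_le_coatom _).resolve_left (htop g)
      rw [huniq M P hM hP hAM (le_sup_left.trans hgP)]
      refine hgP (mem_sup_right (Coprime.mem_conj_smul_iff.2 ?_))
      simpa [mul_assoc] using ha
    · have hle : A ≤ normalClosure (A : Set G) := subset_normalClosure
      exact IsSubnormal.trans hle (hprop _ hle hgen).2
        (Normal.isSubnormal inferInstance)

/-- **Wielandt's subnormality criterion**. -/
theorem isSubnormal_of_forall_sup_conj {G : Type*} [Group G] [Finite G] (A : Subgroup G)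
    (h : ∀ g : G, (A.subgroupOf (A ⊔ MulAut.conj g • A)).IsSubnormal) : A.IsSubnormal :=
  isSubnormal_criterion_aux _ G rfl A fun g => ⟨le_sup_left, h g⟩

end Cfsg.Agent.Solvable
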