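import Cfsg.Agent.Lib.Solvable.WielandtCoprime
import Cfsg.Agent.Lib.Subnormal.Nilpotent

/-!
Endgame of Wielandt's theorem and the theorem itself: `G = AB` with nilpotent subgroups of coprime
orders is solvable.
-/

set_option autoImplicit false

namespace Cfsg.Agent.NilProd

open Subgroup
open scoped Pointwise

universe u

variable {G : Type u} [Group G]

theorem exists_pow_prime_order [Finite G] {x : G} (hx : x ≠ 1) :
    ∃ q k : ℕ, q.Prime ∧ q ∣ orderOf x ∧ orderOf (x ^ k) = q := by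
  obtain ⟨q, hq, hqd⟩ := Nat.exists_prime_and_dvd (fun h => hx (orderOf_eq_one_iff.mp h))
  exact ⟨q, orderOf x / q, hq, hqd, orderOf_pow_orderOf_div (orderOf_pos x).ne' hqd⟩

theorem mul_pow_mem {A : Subgroup G} {a b : G} (ha : a ∈ A) (hb : b ∈ normalizer (A : Set G))
    (n : ℕ) : ∃ a' ∈ A, (a * b) ^ n = a' * b ^ n := by
  induction n with
  | zero => exact ⟨1, one_mem A, by simp⟩
  | succ n ih =>
    obtain ⟨a', ha', e⟩ := ih
    refine ⟨a * (b * a' * b⁻¹), mul_mem ha ((mem_normalizer_iff.mp hb a').mp ha'), ?_⟩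
    rw [pow_succ', e, pow_succ' b]
    group

theorem mem_normalizer_inf {H K : Subgroup G} {g : G} (h1 : g ∈ normalizer (H : Set G))
    (h2 : g ∈ normalizer (K : Set G)) : g ∈ normalizer ((H ⊓ K : Subgroup G) : Set G) :=
  inf_normalizer_le_normalizer_inf ⟨h1, h2⟩

theorem le_normalizer_centralizer_of_le {H X : Subgroup G} (h : H ≤ normalizer (X : Set G)) :
    H ≤ normalizer ((centralizer (X : Set G) : Subgroup G) : Set G) := by
  rw [Subgroup.le_normalizer_iff]
  intro w hw c hc
  refine mem_centralizer_iff.mpr fun x hx => ?_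
  have h1 := mem_centralizer_iff.mp hc _ ((mem_normalizer_iff''.mp (h hw) x).mp hx)
  calc x * (w * c * w⁻¹) = w * ((w⁻¹ * x * w) * c) * w⁻¹ := by group
    _ = w * (c * (w⁻¹ * x * w)) * w⁻¹ := by rw [h1]
    _ = _ := by group

namespace Min

variable {A B : Subgroup G} (M : Min A B) [Finite G]
include M

theorem exists_prime_dvd : ∃ p, p.Prime ∧ p ∣ Nat.card A :=
  Nat.exists_prime_and_dvd fun h => M.A_ne_bot (eq_bot_of_card_eq A h)

/-- No nontrivial `r`-subgroup of `B` is normalised by a full part of `A`. -/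
theorem no_normalized {p r : ℕ} [Fact p.Prime] [hr : Fact r.Prime] (hpA : p ∣ Nat.card A)
    {R : Subgroup G} (hR : R ≤ part B r) (hR0 : R ≠ ⊥)
    (hn : part A p ≤ normalizer (R : Set G)) : False := by
  have hrB : r ∣ Nat.card B := by
    by_contra hd
    refine hR0 (le_bot_iff.mp (hR.trans (le_bot_iff.mpr (eq_bot_of_card_eq _ ?_))))
    rw [card_part, Nat.factorization_eq_zero_of_not_dvd hd, pow_zero]
  have hK : partCenter B r ≤ normalizer (R : Set G) := by
    rw [Subgroup.le_normalizer_iff]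
    intro k hk x hx
    rw [← mem_centralizer_iff.mp hk.2 x (hR hx), mul_inv_cancel_right]
    exact hx
  refine M.symm.normalizer_ne_top_of_le hR0 (hR.trans (part_le _ _)) (top_le_iff.mp ?_)
  rw [← M.part_sup_eq_top hpA le_rfl (partCenter_ne_bot hrB) (le_normalizer_partCenter M.hB r)]
  exact sup_le hn hK

/-- `C(A_p) ∩ B = 1`. -/
theorem eq_one_of_centralizes {p : ℕ} [Fact p.Prime] (hpA : p ∣ Nat.card A) {x : G} (hx : x ∈ B)
    (hc : x ∈ centralizer (part A p : Set G)) : x = 1 := by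
  by_contra hx1
  obtain ⟨r, k, hr, hrd, hk⟩ := exists_pow_prime_order hx1
  have := Fact.mk hr
  set w := x ^ k with hw
  have hwB : w ∈ part B r := mem_part M.hB (pow_mem hx k) (k := 1) (by rw [hk, pow_one])
  have hw1 : w ≠ 1 := fun h => hr.ne_one (by rw [← hk, h, orderOf_one])
  have hrB : r ∣ Nat.card B := hk ▸ Subgroup.orderOf_dvd_natCard B (pow_mem hx k)
  refine M.centralizer_ne_top hw1 (top_le_iff.mp ?_)
  rw [← M.part_sup_eq_top hpA le_rfl (partCenter_ne_bot hrB) (le_normalizer_partCenter M.hB r)]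
  exact sup_le (fun y hy => mem_centralizer_singleton_iff.mpr
      (mem_centralizer_iff.mp (pow_mem hc k) y hy))
    (fun y hy => mem_centralizer_singleton_iff.mpr (mem_centralizer_iff.mp hy.2 w hwB).symm)

theorem mem_of_centralizes {p : ℕ} [Fact p.Prime] (hpA : p ∣ Nat.card A) {g : G}
    (hg : g ∈ centralizer (part A p : Set G)) : g ∈ A := by
  obtain ⟨a, ha, b, hb, rfl⟩ := M.prod g
  have hP := le_normalizer_part M.hA p
  have hconj : ∀ x ∈ part A p, b * x * b⁻¹ = a⁻¹ * x * a := fun x hx => by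
    have h := mem_centralizer_iff.mp hg x hx
    calc b * x * b⁻¹ = a⁻¹ * (a * b * x) * b⁻¹ := by group
      _ = a⁻¹ * (x * (a * b)) * b⁻¹ := by rw [h]
      _ = _ := by group
  have hk : ∀ k : ℕ, ∀ x ∈ part A p, b ^ k * x * (b ^ k)⁻¹ = (a ^ k)⁻¹ * x * a ^ k := by
    intro k
    induction k with
    | zero => simp
    | succ k ih =>
      intro x hx
      have hmem : (a ^ k)⁻¹ * x * a ^ k ∈ part A p :=
        (mem_normalizer_iff''.mp (hP (pow_mem ha k)) x).mp hx
      calc b ^ (k + 1) * x * (b ^ (k + 1))⁻¹ = b * (b ^ k * x * (b ^ k)⁻¹) * b⁻¹ := by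
            rw [pow_succ']; group
        _ = b * ((a ^ k)⁻¹ * x * a ^ k) * b⁻¹ := by rw [ih x hx]
        _ = a⁻¹ * ((a ^ k)⁻¹ * x * a ^ k) * a := hconj _ hmem
        _ = _ := by rw [pow_succ a k]; group
  have hA1 : a ^ Nat.card A = 1 :=
    orderOf_dvd_iff_pow_eq_one.mp (Subgroup.orderOf_dvd_natCard A ha)
  have hb1 : b ^ Nat.card A = 1 := M.eq_one_of_centralizes hpA (pow_mem hb _)
    (mem_centralizer_iff.mpr fun x hx => by
      have h := hk (Nat.card A) x hx
      rw [hA1, inv_one, one_mul, mul_one, mul_inv_eq_iff_eq_mul] at h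
      exact h.symm)
  have hb2 : b = 1 := orderOf_eq_one_iff.mp (Nat.eq_one_of_dvd_coprimes M.cop
    (orderOf_dvd_of_pow_eq_one hb1) (Subgroup.orderOf_dvd_natCard B hb))
  rwa [hb2, mul_one]

/-- All parts of `A` have the same normalizer as `A`. -/
theorem normalizer_part_eq {p : ℕ} [Fact p.Prime] (hpA : p ∣ Nat.card A) :
    normalizer (part A p : Set G) = normalizer (A : Set G) := by
  refine le_antisymm ?_ (normalizer_le_normalizer_part M.hA p)
  intro g hg
  refine Transfer.mem_normalizer_of_conj_mem fun w hw => ?_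
  suffices h : A ≤ (MulAut.conj g⁻¹ • A : Subgroup G) by
    have := h hw
    rw [Coprime.mem_conj_smul_iff, inv_inv] at this
    exact this
  refine le_of_part_le fun q hq _ y hy => ?_
  rw [Coprime.mem_conj_smul_iff, inv_inv]
  by_cases hqp : q = p
  · subst hqp
    exact part_le A q ((mem_normalizer_iff.mp hg y).mp hy)
  have := Fact.mk hq
  refine M.mem_of_centralizes hpA (mem_centralizer_iff.mpr fun x hx => ?_)
  have h1 : g⁻¹ * x * g ∈ part A p := (mem_normalizer_iff''.mp hg x).mp hx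
  have h2 := (commute_part M.hA (Ne.symm hqp) h1 hy).eq
  calc x * (g * y * g⁻¹) = g * ((g⁻¹ * x * g) * y) * g⁻¹ := by group
    _ = g * (y * (g⁻¹ * x * g)) * g⁻¹ := by rw [h2]
    _ = _ := by group

theorem mem_of_coprime {x : G} (hx : x ∈ normalizer (A : Set G))
    (hc : (orderOf x).Coprime (Nat.card B)) : x ∈ A := by
  obtain ⟨a, ha, b, hb, rfl⟩ := M.prod x
  have hbN : b ∈ normalizer (A : Set G) := by
    simpa using mul_mem (inv_mem (le_normalizer ha : a ∈ normalizer (A : Set G))) hx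
  obtain ⟨a', ha', e⟩ := mul_pow_mem ha hbN (orderOf (a * b))
  rw [pow_orderOf_eq_one] at e
  have hbe : b ^ orderOf (a * b) = a'⁻¹ := (inv_eq_of_mul_eq_one_right e.symm).symm
  have h1 : b ^ orderOf (a * b) = 1 := M.toData.eq_one (hbe ▸ inv_mem ha') (pow_mem hb _)
  have hb1 : b = 1 := orderOf_eq_one_iff.mp (Nat.eq_one_of_dvd_coprimes hc
    (orderOf_dvd_of_pow_eq_one h1) (Subgroup.orderOf_dvd_natCard B hb))
  rwa [hb1, mul_one]

theorem mem_part_of_mem_normalizer {p k : ℕ} [hp : Fact p.Prime] (hpA : p ∣ Nat.card A) {x : G}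
    (hx : x ∈ normalizer (A : Set G)) (ho : orderOf x = p ^ k) : x ∈ part A p :=
  mem_part M.hA (M.mem_of_coprime hx (ho ▸ Nat.Coprime.pow_left k
    ((hp.out.coprime_iff_not_dvd).mpr (M.toData.not_dvd hp.out hpA)))) ho

/-- A factorised subgroup containing a part of `A` has its Fitting subgroup inside `A`. -/
theorem fitting_le {U : Subgroup G} (hU : Factors A B U) {p : ℕ} [Fact p.Prime]
    (hpA : p ∣ Nat.card A) (hPU : part A p ≤ U) :
    (Cfsg.fittingSubgroup U).map U.subtype ≤ A := by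
  rw [Components.fittingSubgroup_eq_iSup_pCore, Subgroup.map_iSup]
  refine iSup_le fun s => ?_
  obtain ⟨hs, -, -⟩ := Nat.mem_primeFactors.mp s.2
  have := Fact.mk hs
  by_cases hsA : (s : ℕ) ∣ Nat.card A
  · exact (M.toData.symm.pCore_le_part (M.toData.factors_symm hU)
      (M.toData.not_dvd hs hsA)).trans (part_le _ _)
  · have hle := M.toData.pCore_le_part hU hsA
    by_contra h
    have := Components.pCore_normal' (G := U) (s : ℕ)
    exact M.no_normalized hpA hle (fun e => h (e ▸ bot_le))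
      (hPU.trans (le_normalizer_map_subtype U _))

/-- Every proper subgroup containing `A` normalises `A`. -/
theorem le_normalizer_of_ge {U : Subgroup G} (hU : U ≠ ⊤) (hAU : A ≤ U) :
    U ≤ normalizer (A : Set G) := by
  have hUf := M.toData.factors_of_le hAU
  have hUs := M.ih U hU hUf
  obtain ⟨q, hq, hqA⟩ := M.exists_prime_dvd
  have := Fact.mk hq
  set F := (Cfsg.fittingSubgroup U).map U.subtype with hF
  have hFA : F ≤ A := M.fitting_le hUf hqA ((part_le A q).trans hAU)
  have := Components.fittingSubgroup_isNilpotent U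
  have hFn : (Cfsg.fittingSubgroup U).Normal := sSup_normal _ fun _ h => h.1
  have hUF : U ≤ normalizer (F : Set G) := le_normalizer_map_subtype U _
  set S₁ := {x : G | x ∈ F ∧ (orderOf x).Coprime q}
  set S₂ := {x : G | x ∈ F ∧ ∃ k, orderOf x = q ^ k}
  set C := U ⊓ centralizer S₁
  set E := U ⊓ centralizer S₂
  have hCn : ∀ S : Set G, (∀ u ∈ U, ∀ x ∈ S, u * x * u⁻¹ ∈ S) → ∀ u ∈ U,
      ∀ c ∈ U ⊓ centralizer S, u * c * u⁻¹ ∈ U ⊓ centralizer S := by
    intro S hS u hu c hc
    refine ⟨U.mul_mem (U.mul_mem hu hc.1) (U.inv_mem hu), mem_centralizer_iff.mpr fun x hx => ?_⟩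
    have h1 := hS u⁻¹ (U.inv_mem hu) x hx
    rw [inv_inv] at h1
    calc x * (u * c * u⁻¹) = u * ((u⁻¹ * x * u) * c) * u⁻¹ := by group
      _ = u * (c * (u⁻¹ * x * u)) * u⁻¹ := by rw [mem_centralizer_iff.mp hc.2 _ h1]
      _ = _ := by group
  have hC : ∀ u ∈ U, ∀ c ∈ C, u * c * u⁻¹ ∈ C := hCn S₁ fun u hu x hx =>
    ⟨(mem_normalizer_iff.mp (hUF hu) x).mp hx.1, by rw [orderOf_conj']; exact hx.2⟩
  have hE : ∀ u ∈ U, ∀ c ∈ E, u * c * u⁻¹ ∈ E := hCn S₂ fun u hu x hx =>
    ⟨(mem_normalizer_iff.mp (hUF hu) x).mp hx.1, by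
      obtain ⟨k, hk⟩ := hx.2; exact ⟨k, by rw [orderOf_conj', hk]⟩⟩
  obtain ⟨p, hp, hpA, hpq⟩ := M.exists_other_prime q hq
  have := Fact.mk hp
  have hCN : C ≤ normalizer (A : Set G) := by
    intro c hc
    rw [← M.normalizer_part_eq hpA]
    refine Transfer.mem_normalizer_of_conj_mem fun a ha => ?_
    have haU : a ∈ U := hAU (part_le A p ha)
    have haE : a ∈ E := ⟨haU, mem_centralizer_iff.mpr fun x hx => by
      obtain ⟨k, hk⟩ := hx.2
      exact (commute_part M.hA hpq ha (mem_part M.hA (hFA hx.1) hk)).eq.symm⟩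
    have hf1 : c * a * c⁻¹ * a⁻¹ ∈ C := by
      have h1 := hC a haU c⁻¹ (inv_mem hc)
      have h2 := C.mul_mem hc h1
      simpa [mul_assoc] using h2
    have hf2 : c * a * c⁻¹ * a⁻¹ ∈ E := E.mul_mem (hE c hc.1 a haE) (inv_mem haE)
    set f := c * a * c⁻¹ * a⁻¹
    have hfF : f ∈ centralizer (F : Set G) := mem_centralizer_of_parts fun s hs _ y hy => by
      have := Fact.mk hs
      obtain ⟨k, hk⟩ := exists_orderOf_eq_pow hy
      by_cases hsq : s = q
      · exact mem_centralizer_iff.mp hf2.2 y ⟨part_le F s hy, k, hsq ▸ hk⟩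
      · exact mem_centralizer_iff.mp hf1.2 y ⟨part_le F s hy,
          hk ▸ ((Nat.coprime_primes hs hq).mpr hsq).pow_left k⟩
    have hfA : f ∈ A := by
      refine hFA ⟨⟨f, hf1.1⟩, Components.centralizer_fittingSubgroup_le
        (mem_centralizer_iff.mpr fun y hy => Subtype.ext ?_), rfl⟩
      exact mem_centralizer_iff.mp hfF _ (mem_map_of_mem U.subtype hy)
    have hca : c * a * c⁻¹ ∈ A := by
      have := A.mul_mem hfA (part_le A p ha)
      simpa [f, mul_assoc] using this
    exact conj_mem_part M.hA hca ha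
  intro u hu
  rw [← M.normalizer_part_eq hqA]
  refine Transfer.mem_normalizer_of_conj_mem fun y hy => ?_
  obtain ⟨k, hk⟩ := exists_orderOf_eq_pow hy
  have hyC : y ∈ C := ⟨hAU (part_le A q hy), mem_centralizer_iff.mpr fun x hx => by
    obtain ⟨hxF, hxo⟩ := hx
    have hxy : Commute (⟨x, hFA hxF⟩ : A) ⟨y, part_le A q hy⟩ := by
      have := M.hA
      refine Subnormal.commute_of_coprime (k := k) (Subtype.ext ?_) (by rwa [Subgroup.orderOf_mk])
      show y ^ q ^ k = 1
      rw [← hk, pow_orderOf_eq_one]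
    exact congrArg Subtype.val hxy.eq⟩
  exact M.mem_part_of_mem_normalizer hqA (hCN (hC u hu y hyC)) (k := k) (by rw [orderOf_conj', hk])

theorem centralizer_le_normalizer {u : G} (huA : u ∈ A) (huB : u ∈ normalizer (B : Set G))
    (hu : u ≠ 1) : centralizer ({u} : Set G) ≤ normalizer (A : Set G) := by
  obtain ⟨q, k, hq, -, hk⟩ := exists_pow_prime_order hu
  have := Fact.mk hq
  set v := u ^ k with hv
  have hle : centralizer ({u} : Set G) ≤ centralizer ({v} : Set G) := fun y hy =>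
    mem_centralizer_singleton_iff.mpr ((Commute.pow_right (mem_centralizer_singleton_iff.mp hy) k).eq)
  refine hle.trans ?_
  have hv1 : v ≠ 1 := fun h => hq.ne_one (by rw [← hk, h, orderOf_one])
  have hvA : v ∈ A := pow_mem huA k
  have hvB : v ∈ normalizer (B : Set G) := pow_mem huB k
  have hvq : v ∈ part A q := mem_part M.hA hvA (k := 1) (by rw [hk, pow_one])
  have hqA : q ∣ Nat.card A := hk ▸ Subgroup.orderOf_dvd_natCard A hvA
  set U := centralizer ({v} : Set G) with hUdef
  have hUt : U ≠ ⊤ := M.centralizer_ne_top hv1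
  have hUf : Factors A B U := by
    intro g hg
    obtain ⟨a, ha, b, hb, rfl⟩ := M.prod g
    refine ⟨a, ha, b, hb, ?_, rfl⟩
    have h1 : a * b * v = v * (a * b) := mem_centralizer_singleton_iff.mp hg
    have h2 : a⁻¹ * v * a = b * v * b⁻¹ := by
      calc a⁻¹ * v * a = a⁻¹ * (v * (a * b)) * b⁻¹ := by group
        _ = a⁻¹ * (a * b * v) * b⁻¹ := by rw [h1]
        _ = _ := by group
    have h3 : b * v * b⁻¹ * v⁻¹ = 1 := M.toData.eq_one
      (by rw [← h2]; exact A.mul_mem (A.mul_mem (A.mul_mem (A.inv_mem ha) hvA) ha) (A.inv_mem hvA))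
      (by
        have := B.mul_mem hb ((mem_normalizer_iff.mp hvB _).mp (B.inv_mem hb))
        simpa [mul_assoc] using this)
    rw [mul_inv_eq_one] at h3
    rw [h3] at h2
    exact mem_centralizer_singleton_iff.mpr (by
      calc a * v = a * (a⁻¹ * v * a) := by rw [h2]
        _ = _ := by group)
  have hUs := M.ih U hUt hUf
  obtain ⟨p, hp, hpA, hpq⟩ := M.exists_other_prime q hq
  have := Fact.mk hp
  have hPU : part A p ≤ U := fun y hy =>
    mem_centralizer_singleton_iff.mpr (commute_part M.hA hpq hy hvq).eq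
  set F := (Cfsg.fittingSubgroup U).map U.subtype with hF
  have hFA : F ≤ A := M.fitting_le hUf hpA hPU
  have hFn : (Cfsg.fittingSubgroup U).Normal := sSup_normal _ fun _ h => h.1
  have hUF : U ≤ normalizer (F : Set G) := le_normalizer_map_subtype U _
  set V := F ⊓ part A p with hV
  obtain ⟨z, hz, hz1⟩ := (bot_or_exists_ne_one _).resolve_left (partCenter_ne_bot (A := A) hpA)
  have hzF : z ∈ F := by
    refine ⟨⟨z, hPU hz.1⟩, Components.centralizer_fittingSubgroup_le
      (mem_centralizer_iff.mpr fun y hy => Subtype.ext ?_), rfl⟩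
    exact mem_centralizer_iff.mp
      ((show Data B A from M.toData.symm).mem_centralizer_of_mem_partCenter hz) _
      (hFA (mem_map_of_mem U.subtype hy))
  have hV0 : V ≠ ⊥ := fun h => hz1 (by
    have : z ∈ V := ⟨hzF, hz.1⟩
    rwa [h, mem_bot] at this)
  have hUV : U ≤ normalizer (V : Set G) := by
    rw [Subgroup.le_normalizer_iff]
    intro g hg x hx
    exact ⟨(mem_normalizer_iff.mp (hUF hg) x).mp hx.1,
      conj_mem_part M.hA (hFA ((mem_normalizer_iff.mp (hUF hg) x).mp hx.1)) hx.2⟩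
  have hAV : A ≤ normalizer (V : Set G) :=
    le_normalizer_of_le_part M.hA inf_le_right (hPU.trans hUV)
  exact hUV.trans (M.le_normalizer_of_ge
    (M.normalizer_ne_top_of_le hV0 (inf_le_right.trans (part_le _ _))) hAV)

theorem centralizer_le_normalizer_conj {x a : G} (ha : a ∈ A) (hxA : x ∈ A)
    (hxB : a⁻¹ * x * a ∈ normalizer (B : Set G)) (hx : x ≠ 1) :
    centralizer ({x} : Set G) ≤ normalizer (A : Set G) := by
  intro y hy
  have haN : a ∈ normalizer (A : Set G) := le_normalizer ha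
  have h1 : a⁻¹ * y * a ∈ normalizer (A : Set G) := by
    refine M.centralizer_le_normalizer (A.mul_mem (A.mul_mem (A.inv_mem ha) hxA) ha) hxB
      (fun e => hx ?_) (mem_centralizer_singleton_iff.mpr ?_)
    · calc x = a * (a⁻¹ * x * a) * a⁻¹ := by group
        _ = 1 := by rw [e]; group
    · calc a⁻¹ * y * a * (a⁻¹ * x * a) = a⁻¹ * (y * x) * a := by group
        _ = a⁻¹ * (x * y) * a := by rw [mem_centralizer_singleton_iff.mp hy]
        _ = _ := by group
  simpa [mul_assoc] using mul_mem (mul_mem haN h1) (inv_mem haN)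

theorem inf_normalizer_ne_bot : B ⊓ normalizer (A : Set G) ≠ ⊥ := by
  intro h
  have hNA : normalizer (A : Set G) = A := le_antisymm (fun g hg => by
    obtain ⟨a, ha, b, hb, rfl⟩ := M.prod g
    have hb' : b ∈ B ⊓ normalizer (A : Set G) :=
      ⟨hb, by simpa using mul_mem (inv_mem (le_normalizer ha : a ∈ normalizer (A : Set G))) hg⟩
    rw [h, mem_bot] at hb'
    rwa [hb', mul_one]) le_normalizer
  obtain ⟨N, hN, hNA'⟩ := S0558.result A
    (fun p hp P hP => by
      obtain ⟨q, hq, hqd, hqp⟩ := M.exists_other_prime p hp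
      have := Fact.mk hp
      rw [← hP, P.card_eq_multiplicity] at hqd
      exact hqp ((Nat.prime_dvd_prime_iff_eq hq hp).mp (hq.dvd_of_dvd_pow hqd)))
    (fun p hp hpd P => by
      have := Fact.mk hp
      rw [sylow_map_eq_part M.hA P, M.normalizer_part_eq hpd, hNA])
  have := M.simple
  rcases hN.eq_bot_or_eq_top with h' | h'
  · subst h'; exact M.A_ne_top (isComplement'_bot_left.mp hNA')
  · subst h'; exact M.A_ne_bot (isComplement'_top_left.mp hNA')

theorem commute_inter {a b : G} (haA : a ∈ A) (haB : a ∈ normalizer (B : Set G)) (hb : b ∈ B)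
    (hbA : b ∈ normalizer (A : Set G)) : Commute a b := by
  have h : a * b * a⁻¹ * b⁻¹ = 1 := M.toData.eq_one
    (by
      have := A.mul_mem haA ((mem_normalizer_iff.mp hbA _).mp (A.inv_mem haA))
      simpa [mul_assoc] using this)
    (B.mul_mem ((mem_normalizer_iff.mp haB b).mp hb) (B.inv_mem hb))
  rw [mul_inv_eq_one, mul_inv_eq_iff_eq_mul] at h
  exact h

theorem prime_power_center {z : G} (hz : z ∈ B) (hzc : z ∈ centralizer (B : Set G)) (hz1 : z ≠ 1) :
    ∃ r k : ℕ, r.Prime ∧ zpowers (z ^ k) ≤ partCenter B r ∧ zpowers (z ^ k) ≠ ⊥ ∧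
      B ≤ normalizer (zpowers (z ^ k) : Set G) := by
  obtain ⟨r, k, hr, -, hk⟩ := exists_pow_prime_order hz1
  have := Fact.mk hr
  refine ⟨r, k, hr, zpowers_le.mpr ⟨mem_part M.hB (pow_mem hz k) (k := 1) (by rw [hk, pow_one]),
    mem_centralizer_iff.mpr fun y hy => mem_centralizer_iff.mp (pow_mem hzc k) y (part_le _ _ hy)⟩,
    fun h => hr.ne_one (by rw [← hk, orderOf_eq_one_iff]; simpa using h), ?_⟩
  rw [Subgroup.le_normalizer_iff]
  intro b hb x hx
  obtain ⟨n, rfl⟩ := mem_zpowers_iff.mp hx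
  rw [mem_centralizer_iff.mp (zpow_mem (pow_mem hzc k) n) b hb, mul_inv_cancel_right]
  exact zpow_mem (mem_zpowers _) n

/-- Central elements of `B` do not normalise nontrivial subgroups of a part of `A`. -/
theorem eq_one_of_mem_normalizer {p : ℕ} [hp : Fact p.Prime] {X : Subgroup G} (hX : X ≤ part A p)
    (hX0 : X ≠ ⊥) {z : G} (hz : z ∈ B) (hzc : z ∈ centralizer (B : Set G))
    (hzN : z ∈ normalizer (X : Set G)) : z = 1 := by
  by_contra hz1
  obtain ⟨r, k, hr, hle, hne, hnB⟩ := M.prime_power_center hz hzc hz1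
  have := Fact.mk hr
  obtain ⟨q, hq, hqA, hqp⟩ := M.exists_other_prime p hp.out
  have := Fact.mk hq
  refine M.normalizer_ne_top_of_le hX0 (hX.trans (part_le _ _)) (top_le_iff.mp ?_)
  rw [← M.part_sup_eq_top hqA hle hne hnB]
  refine sup_le ?_ (zpowers_le.mpr (pow_mem hzN k))
  rw [Subgroup.le_normalizer_iff]
  intro a ha x hx
  rw [(commute_part M.hA hqp ha (hX hx)).eq, mul_inv_cancel_right]
  exact hx

theorem eq_one_of_mem_normalizer_self {z : G} (hz : z ∈ B) (hzc : z ∈ centralizer (B : Set G))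
    (hzN : z ∈ normalizer (A : Set G)) : z = 1 := by
  obtain ⟨p, hp, hpA⟩ := M.exists_prime_dvd
  have := Fact.mk hp
  exact M.eq_one_of_mem_normalizer le_rfl (part_ne_bot hpA) hz hzc
    (normalizer_le_normalizer_part M.hA p hzN)

theorem mem_normalizer_of_commute {z x : G} (hz : z ∈ B) (hzc : z ∈ centralizer (B : Set G))
    (hz1 : z ≠ 1) (h : x * z = z * x) : x ∈ normalizer (B : Set G) :=
  M.symm.le_normalizer_of_ge (M.centralizer_ne_top hz1)
    (fun b hb => mem_centralizer_singleton_iff.mpr (mem_centralizer_iff.mp hzc b hb))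
    (mem_centralizer_singleton_iff.mpr h)

theorem conj_mem_center {v z : G} (hv : v ∈ normalizer (B : Set G)) (hz : z ∈ B)
    (hzc : z ∈ centralizer (B : Set G)) :
    v * z * v⁻¹ ∈ B ∧ v * z * v⁻¹ ∈ centralizer (B : Set G) := by
  refine ⟨(mem_normalizer_iff.mp hv z).mp hz, mem_centralizer_iff.mpr fun b hb => ?_⟩
  have h := mem_centralizer_iff.mp hzc _ ((mem_normalizer_iff''.mp hv b).mp hb)
  calc b * (v * z * v⁻¹) = v * ((v⁻¹ * b * v) * z) * v⁻¹ := by group
    _ = v * (z * (v⁻¹ * b * v)) * v⁻¹ := by rw [h]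
    _ = _ := by group

/-- The configuration excluded by the endgame. -/
def Config (A B : Subgroup G) (p : ℕ) (z : G) (X : Subgroup G) : Prop :=
  z ∈ B ∧ z ∈ centralizer (B : Set G) ∧ z ≠ 1 ∧ p ∣ Nat.card A ∧ X ≤ part A p ∧ X ≠ ⊥ ∧
    (∀ x ∈ X, z⁻¹ * x * z ∈ A) ∧ B ⊓ normalizer (A : Set G) ≤ normalizer (X : Set G)

theorem not_conj {p : ℕ} [hp : Fact p.Prime] {z : G} {X : Subgroup G} (hc : Config A B p z X)
    {x a : G} (hx : x ∈ X) (hx1 : x ≠ 1) (ha : a ∈ A)
    (hxB : a⁻¹ * x * a ∈ normalizer (B : Set G)) : False := by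
  obtain ⟨hz, hzc, hz1, -, hX, -, hzX, -⟩ := hc
  have hCle := M.centralizer_le_normalizer_conj ha (part_le A p (hX hx)) hxB hx1
  obtain ⟨q, hq, hqA, hqp⟩ := M.exists_other_prime p hp.out
  have := Fact.mk hq
  have hx' : z⁻¹ * x * z ∈ part A p := by
    obtain ⟨k, hk⟩ := exists_orderOf_eq_pow (hX hx)
    have h1 := orderOf_conj' z⁻¹ x
    rw [inv_inv] at h1
    exact mem_part M.hA (hzX x hx) (by rw [h1, hk])
  refine hz1 (M.eq_one_of_mem_normalizer_self hz hzc ?_)
  rw [← M.normalizer_part_eq hqA]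
  refine Transfer.mem_normalizer_of_conj_mem fun y hy => ?_
  obtain ⟨k, hk⟩ := exists_orderOf_eq_pow hy
  refine M.mem_part_of_mem_normalizer hqA (hCle (mem_centralizer_singleton_iff.mpr ?_)) (k := k)
    (by rw [orderOf_conj', hk])
  calc z * y * z⁻¹ * x = z * (y * (z⁻¹ * x * z)) * z⁻¹ := by group
    _ = z * (z⁻¹ * x * z * y) * z⁻¹ := by rw [(commute_part M.hA hqp hy hx').eq]
    _ = _ := by group

theorem order_eq {p s : ℕ} [hp : Fact p.Prime] {z : G} {X : Subgroup G} (hc : Config A B p z X)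
    {v : G} (hv : v ∈ A) (hvB : v ∈ normalizer (B : Set G)) (hs : s.Prime) (ho : orderOf v = s) :
    s = p := by
  by_contra hsp
  obtain ⟨hz, hzc, hz1, hpA, hX, hX0, hzX, hB₀⟩ := hc
  have := Fact.mk hs
  have hv1 : v ≠ 1 := fun h => hs.ne_one (by rw [← ho, h, orderOf_one])
  have hvs : v ∈ part A s := mem_part M.hA hv (k := 1) (by rw [ho, pow_one])
  obtain ⟨x, hx, hx1⟩ := (bot_or_exists_ne_one _).resolve_left hX0
  have hxA := part_le A p (hX hx)
  obtain ⟨h1, h2⟩ := M.conj_mem_center hvB hz hzc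
  set z' := v * z * v⁻¹ * z⁻¹
  have hz'1 : z' ≠ 1 := fun h => hz1 (M.eq_one_of_mem_normalizer_self hz hzc
    (M.centralizer_le_normalizer hv hvB hv1 (mem_centralizer_singleton_iff.mpr (by
      rw [mul_inv_eq_one, mul_inv_eq_iff_eq_mul] at h; exact h.symm))))
  have hxv : Commute x v := commute_part M.hA (Ne.symm hsp) (hX hx) hvs
  have hx' : z⁻¹ * x * z ∈ part A p := by
    obtain ⟨k, hk⟩ := exists_orderOf_eq_pow (hX hx)
    have h1 := orderOf_conj' z⁻¹ x
    rw [inv_inv] at h1
    exact mem_part M.hA (hzX x hx) (by rw [h1, hk])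
  have hxz : Commute x (z * v⁻¹ * z⁻¹) := by
    have h3 := ((commute_part M.hA (Ne.symm hsp) hx' hvs).inv_right).map
      (MulAut.conj z).toMonoidHom
    simpa [mul_assoc] using h3
  have hxz' : Commute x z' := by
    have h4 := hxv.mul_right hxz
    simpa [z', mul_assoc] using h4
  exact M.not_conj ⟨hz, hzc, hz1, hpA, hX, hX0, hzX, hB₀⟩ hx hx1 A.one_mem (by
    rw [inv_one, one_mul, mul_one]
    exact M.mem_normalizer_of_commute (B.mul_mem h1 (B.inv_mem hz))
      (mul_mem h2 (inv_mem hzc)) hz'1 hxz'.eq)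

/-- In a configuration, `X` is centralised by a `Z(B)`-conjugate of an element of order `p` of
`A ∩ N(B)`. -/
theorem exists_step {p : ℕ} [hp : Fact p.Prime] {z : G} {X : Subgroup G}
    (hc : Config A B p z X) : ∃ v ζ : G, v ∈ A ∧ v ∈ normalizer (B : Set G) ∧ orderOf v = p ∧
      ζ ∈ B ∧ ζ ∈ centralizer (B : Set G) ∧ ζ ≠ 1 ∧
        ζ * v * ζ⁻¹ ∈ centralizer (X : Set G) := by
  have hc' := hc
  obtain ⟨hz, hzc, hz1, hpA, hX, hX0, hzX, hB₀⟩ := hc
  obtain ⟨q, hq, hqA, hqp⟩ := M.exists_other_prime p hp.out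
  have := Fact.mk hq
  set L := centralizer (X : Set G)
  set Q := part A q
  have hQc : Nat.card Q = q ^ (Nat.card G).factorization q := M.toData.card_part_full hqA
  let S : Sylow q G := Sylow.ofCard Q (by rw [hQc])
  have h1 : (S : Subgroup G) ≤ L := fun w hw => mem_centralizer_iff.mpr fun x hx =>
    (commute_part M.hA (Ne.symm hqp) (hX hx) hw).eq
  have h2 : ((z • S : Sylow q G) : Subgroup G) ≤ L := by
    intro w hw
    rw [Sylow.smul_def, Sylow.pointwise_smul_def, Coprime.mem_conj_smul_iff] at hw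
    refine mem_centralizer_iff.mpr fun x hx => ?_
    obtain ⟨k, hk⟩ := exists_orderOf_eq_pow (hX hx)
    have e1 := orderOf_conj' z⁻¹ x
    rw [inv_inv] at e1
    have hx' : z⁻¹ * x * z ∈ part A p := mem_part M.hA (hzX x hx) (by rw [e1, hk])
    have h := (commute_part M.hA (Ne.symm hqp) hx' hw).eq
    calc x * w = z * ((z⁻¹ * x * z) * (z⁻¹ * w * z)) * z⁻¹ := by group
      _ = z * ((z⁻¹ * w * z) * (z⁻¹ * x * z)) * z⁻¹ := by rw [h]
      _ = _ := by group
  obtain ⟨c, hcc⟩ := MulAction.exists_smul_eq L (S.subtype h1) ((z • S).subtype h2)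
  have h3 := congrArg (fun P : Sylow q L => ((P : Subgroup L).map L.subtype)) hcc
  simp only [Sylow.smul_def, Sylow.pointwise_smul_def, Sylow.coe_subtype, Coprime.map_conj_smul,
    map_subgroupOf_eq_of_le h1] at h3
  rw [show ((MulAut.conj z • (S : Subgroup G)).subgroupOf L).map L.subtype =
    MulAut.conj z • (S : Subgroup G) from map_subgroupOf_eq_of_le h2, Subgroup.coe_subtype] at h3
  have hm : (c : G)⁻¹ * z ∈ normalizer (A : Set G) := by
    rw [← M.normalizer_part_eq hqA]
    refine Solvable.mem_normalizer_iff_conj_eq.mpr ?_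
    show MulAut.conj ((c : G)⁻¹ * z) • (S : Subgroup G) = (S : Subgroup G)
    rw [← Coprime.conj_smul_smul, ← h3, Coprime.conj_smul_smul, inv_mul_cancel, map_one, one_smul]
  obtain ⟨b, hb, a, ha, e⟩ := M.toData.symm.prod ((c : G)⁻¹ * z)⁻¹
  have hbA : b ∈ normalizer (A : Set G) := by
    have h := mul_mem (inv_mem hm) (inv_mem (le_normalizer ha : a ∈ normalizer (A : Set G)))
    rwa [e, mul_inv_cancel_right] at h
  have hzba : z * b * a ∈ L := by
    rw [mul_assoc, ← e]
    simp
  -- elements of `N(A)` centralising `X` lie in `A`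
  have hinA : ∀ y ∈ L, y ∈ normalizer (A : Set G) → y ∈ A := by
    intro y hyL hyN
    set y' := y ^ Nat.card A
    have hy'o : orderOf y' ∣ Nat.card B := by
      refine orderOf_dvd_of_pow_eq_one ?_
      rw [← pow_mul, M.toData.card_eq]
      exact pow_card_eq_one'
    by_cases hy'1 : y' = 1
    · exact M.mem_of_coprime hyN (M.cop.coprime_dvd_left (orderOf_dvd_of_pow_eq_one hy'1))
    exfalso
    have hle : zpowers y' ≤ (B ⊓ normalizer (A : Set G)) ⊔ A := by
      refine zpowers_le.mpr (pow_mem ?_ _)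
      obtain ⟨b', hb', a', ha', e'⟩ := M.toData.symm.prod y
      rw [e']
      refine mul_mem_sup ⟨hb', ?_⟩ ha'
      have h := mul_mem hyN (inv_mem (le_normalizer ha' : a' ∈ normalizer (A : Set G)))
      rwa [e', mul_inv_cancel_right] at h
    have hBn : Group.IsNilpotent B := M.hB
    obtain ⟨n, hn, hw⟩ := Coprime.exists_le_conj_of_le_sup inf_le_right hle
      (M.cop.symm.coprime_dvd_left (card_dvd_of_le inf_le_left))
      (by rw [Nat.card_zpowers]; exact M.cop.symm.coprime_dvd_left hy'o)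
      (Or.inl (Coprime.isSolvable_of_le inf_le_left inferInstance))
    have hw' := hw (mem_zpowers y')
    rw [Coprime.mem_conj_smul_iff] at hw'
    obtain ⟨x, hx, hx1⟩ := (bot_or_exists_ne_one _).resolve_left hX0
    refine M.not_conj hc' hx hx1 hn (M.symm.centralizer_le_normalizer hw'.1 hw'.2
      (fun e1 => hy'1 ?_) (mem_centralizer_singleton_iff.mpr ?_))
    · calc y' = n * (n⁻¹ * y' * n) * n⁻¹ := by group
        _ = 1 := by rw [e1]; group
    · have hxy : x * y' = y' * x := mem_centralizer_iff.mp (pow_mem hyL _) x hx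
      calc n⁻¹ * x * n * (n⁻¹ * y' * n) = n⁻¹ * (x * y') * n := by group
        _ = n⁻¹ * (y' * x) * n := by rw [hxy]
        _ = _ := by group
  have hLn := le_normalizer_centralizer_of_le hB₀
  have hzw : ∀ w ∈ B, w * z * w⁻¹ = z := fun w hw => by
    rw [mem_centralizer_iff.mp hzc w hw, mul_inv_cancel_right]
  set N := A ⊓ L
  have hwN : ∀ w ∈ B ⊓ normalizer (A : Set G), a⁻¹ * w * a * w⁻¹ ∈ N ∧ w * b = b * w := by
    intro w hw
    have hd1 : (z * b * a)⁻¹ * (w * (z * b * a) * w⁻¹) ∈ L :=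
      mul_mem (inv_mem hzba) ((mem_normalizer_iff.mp (hLn hw) _).mp hzba)
    have hd : (z * b * a)⁻¹ * (w * (z * b * a) * w⁻¹) =
        a⁻¹ * (b⁻¹ * (w * b * w⁻¹)) * (w * a * w⁻¹) := by
      calc _ = a⁻¹ * b⁻¹ * z⁻¹ * (w * z * w⁻¹) * (w * b * w⁻¹) * (w * a * w⁻¹) := by group
        _ = a⁻¹ * b⁻¹ * z⁻¹ * z * (w * b * w⁻¹) * (w * a * w⁻¹) := by rw [hzw w hw.1]
        _ = _ := by group
    rw [hd] at hd1
    have haN : a ∈ normalizer (A : Set G) := le_normalizer ha
    have hdA : a⁻¹ * (b⁻¹ * (w * b * w⁻¹)) * (w * a * w⁻¹) ∈ A := hinA _ hd1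
      (mul_mem (mul_mem (inv_mem haN) (mul_mem (inv_mem hbA) (mul_mem (mul_mem hw.2 hbA)
        (inv_mem hw.2)))) (mul_mem (mul_mem hw.2 haN) (inv_mem hw.2)))
    have hwa : w * a * w⁻¹ ∈ A := (mem_normalizer_iff.mp hw.2 a).mp ha
    have hb1 : b⁻¹ * (w * b * w⁻¹) = 1 := M.toData.eq_one
      (by
        have h := A.mul_mem (A.mul_mem ha hdA) (A.inv_mem hwa)
        simpa [mul_assoc] using h)
      (B.mul_mem (B.inv_mem hb) (B.mul_mem (B.mul_mem hw.1 hb) (B.inv_mem hw.1)))
    rw [hb1, mul_one] at hd1 hdA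
    refine ⟨by simpa [N, mul_assoc] using And.intro hdA hd1, ?_⟩
    rw [inv_mul_eq_one, eq_mul_inv_iff_mul_eq] at hb1
    exact hb1.symm
  have hBn : Group.IsNilpotent B := M.hB
  obtain ⟨n, hn, hv⟩ := Coprime.exists_mul_mem_centralizer (A := B ⊓ normalizer (A : Set G))
    (N := N) (fun w hw => mem_normalizer_inf hw.2 (hLn hw))
    ((M.cop.symm.coprime_dvd_left (card_dvd_of_le inf_le_left)).coprime_dvd_right
      (card_dvd_of_le inf_le_left))
    (Or.inl (Coprime.isSolvable_of_le inf_le_left inferInstance)) (k := a)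
    (fun w hw => (hwN w hw).1)
  set v := a * n with hvdef
  have hvA : v ∈ A := A.mul_mem ha hn.1
  have hvB : v ∈ normalizer (B : Set G) := by
    obtain ⟨w, hw, hw1⟩ := (bot_or_exists_ne_one _).resolve_left M.inf_normalizer_ne_bot
    exact M.symm.centralizer_le_normalizer hw.1 hw.2 hw1
      (mem_centralizer_singleton_iff.mpr (mem_centralizer_iff.mp hv w hw).symm)
  have hg : z * b * v ∈ L := by rw [hvdef, ← mul_assoc]; exact mul_mem hzba hn.2
  have hbv : b * v = v * b := mem_centralizer_iff.mp hv b ⟨hb, hbA⟩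
  have hbz : z * b = b * z := (mem_centralizer_iff.mp hzc b hb).symm
  have hv1 : v ≠ 1 := by
    intro h
    rw [h, mul_one] at hg
    refine hz1 (M.eq_one_of_mem_normalizer hX hX0 hz hzc ?_)
    have hgn : z * b ∈ normalizer (X : Set G) := by
      rw [mem_normalizer_iff]
      intro x
      constructor
      · intro hx
        rw [← mem_centralizer_iff.mp hg x hx, mul_inv_cancel_right]
        exact hx
      · intro hx
        have h4 := mem_centralizer_iff.mp hg _ hx
        rw [inv_mul_cancel_right] at h4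
        rwa [← mul_left_cancel h4] at hx
    simpa using mul_mem hgn (inv_mem (hB₀ ⟨hb, hbA⟩))
  have hpow : ∀ k : ℕ, ∃ Q ∈ B ⊓ centralizer (B : Set G), (z * v) ^ k = Q * v ^ k := by
    intro k
    induction k with
    | zero => exact ⟨1, one_mem _, by simp⟩
    | succ k ih =>
      obtain ⟨Q, hQ, e'⟩ := ih
      refine ⟨z * (v * Q * v⁻¹), mul_mem ⟨hz, hzc⟩
        ⟨(M.conj_mem_center hvB hQ.1 hQ.2).1, (M.conj_mem_center hvB hQ.1 hQ.2).2⟩, ?_⟩
      rw [pow_succ', e', pow_succ' v]
      group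
  have hzv : (z * v) ^ orderOf v = 1 := by
    obtain ⟨P, hP, e'⟩ := hpow (orderOf v)
    rw [pow_orderOf_eq_one, mul_one] at e'
    have h1 : Commute P (z * v) := by rw [← e']; exact Commute.pow_self _ _
    have h2 : Commute P z := (mem_centralizer_iff.mp hzc P hP.1)
    have h4 : Commute P v := by
      have := h2.inv_right.mul_right h1
      rwa [inv_mul_cancel_left] at this
    rw [e']
    exact M.eq_one_of_mem_normalizer_self hP.1 hP.2
      (M.centralizer_le_normalizer hvA hvB hv1 (mem_centralizer_singleton_iff.mpr h4.eq))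
  have hb1 : b = 1 := by
    have hcomm : Commute (z * v) b := (show Commute z b from hbz).mul_left (show Commute v b from hbv.symm)
    have e1 : z * b * v = z * v * b := by rw [mul_assoc, hbv, ← mul_assoc]
    have h1 : (z * b * v) ^ orderOf v = b ^ orderOf v := by
      rw [e1, hcomm.mul_pow, hzv, one_mul]
    have h2 : b ^ orderOf v ∈ A := hinA _ (h1 ▸ pow_mem hg _) (pow_mem hbA _)
    exact orderOf_eq_one_iff.mp (Nat.eq_one_of_dvd_coprimes M.cop
      ((orderOf_dvd_of_pow_eq_one (M.toData.eq_one h2 (pow_mem hb _))).trans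
        (Subgroup.orderOf_dvd_natCard A hvA)) (Subgroup.orderOf_dvd_natCard B hb))
  rw [hb1, mul_one] at hg
  -- `z v` is a `Z(B)`-conjugate of `v`
  let φ : (B ⊓ centralizer (B : Set G) : Subgroup G) → (B ⊓ centralizer (B : Set G) : Subgroup G) :=
    fun ζ => ζ * ⟨v * (ζ : G)⁻¹ * v⁻¹,
      M.conj_mem_center hvB (inv_mem ζ.2.1) (inv_mem ζ.2.2)⟩
  have hφ : Function.Injective φ := by
    intro s t hst
    have h : (s : G) * (v * (s : G)⁻¹ * v⁻¹) = (t : G) * (v * (t : G)⁻¹ * v⁻¹) :=
      congrArg Subtype.val hst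
    have h5 : (t : G)⁻¹ * s * v = v * ((t : G)⁻¹ * s) := by
      calc (t : G)⁻¹ * s * v = (t : G)⁻¹ * ((s : G) * (v * (s : G)⁻¹ * v⁻¹)) * v * s := by group
        _ = (t : G)⁻¹ * ((t : G) * (v * (t : G)⁻¹ * v⁻¹)) * v * s := by rw [h]
        _ = _ := by group
    have := M.eq_one_of_mem_normalizer_self (mul_mem (inv_mem t.2.1) s.2.1)
      (mul_mem (inv_mem t.2.2) s.2.2)
      (M.centralizer_le_normalizer hvA hvB hv1 (mem_centralizer_singleton_iff.mpr h5))
    exact Subtype.ext (inv_mul_eq_one.mp this).symm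
  obtain ⟨⟨ζ, hζ⟩, hζe⟩ := Finite.surjective_of_injective hφ ⟨z, hz, hzc⟩
  have hζz : ζ * (v * ζ⁻¹ * v⁻¹) = z := congrArg Subtype.val hζe
  have hconj : ζ * v * ζ⁻¹ ∈ L := by
    have e2 : ζ * v * ζ⁻¹ = z * v := by rw [← hζz]; group
    rwa [e2]
  obtain ⟨s, k, hs, -, hk⟩ := exists_pow_prime_order hv1
  refine ⟨v ^ k, ζ, pow_mem hvA k, pow_mem hvB k, ?_, hζ.1, hζ.2, fun h => hz1 ?_, ?_⟩
  · rw [hk]
    exact M.order_eq hc' (pow_mem hvA k) (pow_mem hvB k) hs hk
  · rw [← hζz, h]; group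
  · rw [← conj_pow]
    exact pow_mem hconj k

/-- The elements of order `p` of `A ∩ N(B)` generate the same subgroup. -/
theorem mem_zpowers_of_order {p : ℕ} [hp : Fact p.Prime] {u w : G} (hu : u ∈ A)
    (huB : u ∈ normalizer (B : Set G)) (hw : w ∈ A) (hwB : w ∈ normalizer (B : Set G))
    (hou : orderOf u = p) (how : orderOf w = p) : u ∈ zpowers w := by
  set A₀ := A ⊓ normalizer (B : Set G)
  have hA₀ : Group.IsNilpotent A₀ := by
    have := M.hA
    exact Solvable.isNilpotent_of_le inf_le_left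
  have hd : p ∣ Nat.card A₀ := hou ▸ Subgroup.orderOf_dvd_natCard A₀ ⟨hu, huB⟩
  obtain ⟨c₀, hc₀, hc₀1⟩ := (bot_or_exists_ne_one _).resolve_left (partCenter_ne_bot hd)
  obtain ⟨q, k, hq, hqd, hk⟩ := exists_pow_prime_order hc₀1
  have hqp : q = p := by
    obtain ⟨j, hj⟩ := exists_orderOf_eq_pow hc₀.1
    exact (Nat.prime_dvd_prime_iff_eq hq hp.out).mp (hq.dvd_of_dvd_pow (hj ▸ hqd))
  subst hqp
  set c := c₀ ^ k
  have hc : c ∈ partCenter A₀ q := pow_mem hc₀ k
  have key : ∀ f ∈ A₀, orderOf f = q → f ∈ zpowers c := by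
    intro f hf hof
    by_contra hfc
    set S := closure ({c, f} : Set G) with hS
    have hfp : f ∈ part A₀ q := mem_part hA₀ hf (k := 1) (by rw [hof, pow_one])
    have hcf : f * c = c * f := mem_centralizer_iff.mp hc.2 f hfp
    have hSc : ∀ x ∈ S, ∀ y ∈ S, x * y = y * x := by
      have h1 : S ≤ centralizer ({c, f} : Set G) := by
        rw [hS, closure_le]
        intro x hx
        rw [SetLike.mem_coe, mem_centralizer_iff]
        intro y hy
        rcases hx with rfl | rfl <;> rcases hy with rfl | rfl <;> first | rfl | exact hcf | exact hcf.symm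
      intro x hx y hy
      have h2 : S ≤ centralizer ({x} : Set G) := by
        rw [hS, closure_le]
        intro y hy
        exact mem_centralizer_singleton_iff.mpr (mem_centralizer_iff.mp (h1 hx) y hy)
      exact (mem_centralizer_singleton_iff.mp (h2 hy)).symm
    have : IsMulCommutative S := ⟨⟨fun x y => Subtype.ext (hSc x x.2 y y.2)⟩⟩
    have hSA : S ≤ A₀ := by
      rw [hS, closure_le]
      rintro x (rfl | rfl)
      · exact part_le _ _ hc.1
      · exact hf
    have hexp : ∀ x ∈ S, x ^ q = 1 := fun x hx => by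
      rw [hS] at hx
      induction hx using closure_induction with
      | mem x hx =>
        rcases hx with rfl | rfl
        · rw [← hk]; exact pow_orderOf_eq_one _
        · rw [← hof]; exact pow_orderOf_eq_one _
      | one => exact one_pow q
      | mul x y hx hy ihx ihy =>
        rw [(show Commute x y from hSc x hx y hy).mul_pow, ihx, ihy, one_mul]
      | inv x _ ih => rw [inv_pow, ih, inv_one]
    set V := B ⊓ centralizer (B : Set G) with hV
    have : IsMulCommutative V :=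
      ⟨⟨fun x y => Subtype.ext (mem_centralizer_iff.mp y.2.2 x x.2.1)⟩⟩
    have hnc : ∀ x ∈ S, (⊥ : Subgroup G) ⊔ zpowers x ≠ S := by
      intro x hx e
      rw [bot_sup_eq] at e
      refine hfc ?_
      have hle : zpowers c ≤ S := zpowers_le.mpr (subset_closure (Or.inl rfl))
      have hcard : Nat.card S ≤ Nat.card (zpowers c) := by
        rw [← e, Nat.card_zpowers, Nat.card_zpowers, hk]
        exact Nat.le_of_dvd hp.out.pos (orderOf_dvd_of_pow_eq_one (hexp x hx))
      rw [eq_of_le_of_card_ge hle hcard]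
      exact subset_closure (Or.inr rfl)
    have hV0 : V ≠ ⊥ := by
      obtain ⟨r, hr, hrd⟩ := M.symm.exists_prime_dvd
      have := Fact.mk hr
      obtain ⟨z, hz, hz1⟩ := (bot_or_exists_ne_one _).resolve_left (partCenter_ne_bot hrd)
      intro h
      have : z ∈ V := ⟨part_le _ _ hz.1, M.toData.mem_centralizer_of_mem_partCenter hz⟩
      rw [h, mem_bot] at this
      exact hz1 this
    have hSV : S ≤ normalizer (V : Set G) := by
      rw [Subgroup.le_normalizer_iff]
      exact fun s hs z hz => M.conj_mem_center (hSA hs).2 hz.1 hz.2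
    obtain ⟨s, hs, hs1, hne⟩ := Coprime.exists_inf_centralizer_ne_bot (B₀ := ⊥) bot_le bot_le hnc
      hSV ((M.cop.coprime_dvd_left (card_dvd_of_le (hSA.trans inf_le_left))).coprime_dvd_right
        (card_dvd_of_le inf_le_left)) hV0
    obtain ⟨z, hz, hz1⟩ := (bot_or_exists_ne_one _).resolve_left hne
    exact hz1 (M.eq_one_of_mem_normalizer_self hz.1.1 hz.1.2
      (M.centralizer_le_normalizer (hSA hs).1 (hSA hs).2 (fun h => hs1 (mem_bot.mpr h)) hz.2))
  have hwc := key w ⟨hw, hwB⟩ how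
  have h1 : zpowers w = zpowers c := eq_of_le_of_card_ge (zpowers_le.mpr hwc)
    (by rw [Nat.card_zpowers, Nat.card_zpowers, how, hk])
  rw [h1]
  exact key u ⟨hu, huB⟩ hou

theorem no_config {p : ℕ} [hp : Fact p.Prime] {z : G} {X : Subgroup G}
    (hc : Config A B p z X) : False := by
  obtain ⟨v, ζ, hvA, hvB, hvo, hζB, hζc, hζ1, hζX⟩ := M.exists_step hc
  obtain ⟨-, -, -, hpA, hX, hX0, hzX, hB₀⟩ := hc
  set X' := MulAut.conj ζ⁻¹ • X with hX'
  have hv1 : v ≠ 1 := fun h => hp.out.ne_one (by rw [← hvo, h, orderOf_one])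
  have hmem : ∀ y ∈ X', ζ * y * ζ⁻¹ ∈ X := fun y hy => by
    rw [hX', Coprime.mem_conj_smul_iff, inv_inv] at hy
    exact hy
  have hX'p : X' ≤ part A p := by
    intro y hy
    obtain ⟨k, hk⟩ := exists_orderOf_eq_pow (hX (hmem y hy))
    rw [orderOf_conj'] at hk
    refine M.mem_part_of_mem_normalizer hpA (M.centralizer_le_normalizer hvA hvB hv1
      (mem_centralizer_singleton_iff.mpr ?_)) hk
    have h := mem_centralizer_iff.mp hζX _ (hmem y hy)
    calc y * v = ζ⁻¹ * (ζ * y * ζ⁻¹ * (ζ * v * ζ⁻¹)) * ζ := by group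
      _ = ζ⁻¹ * (ζ * v * ζ⁻¹ * (ζ * y * ζ⁻¹)) * ζ := by rw [h]
      _ = _ := by group
  have hc' : Config A B p ζ⁻¹ X' := by
    refine ⟨inv_mem hζB, inv_mem hζc, inv_ne_one.mpr hζ1, hpA, hX'p, ?_, fun y hy => ?_, ?_⟩
    · rw [hX', Ne, ← Subgroup.card_eq_one, Coprime.card_conj_smul, Subgroup.card_eq_one]
      exact hX0
    · rw [inv_inv]; exact part_le A p (hX (hmem y hy))
    · intro w hw
      rw [Solvable.mem_normalizer_iff_conj_eq, hX', Coprime.conj_smul_smul,
        mem_centralizer_iff.mp (inv_mem hζc) w hw.1, ← Coprime.conj_smul_smul,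
        Coprime.conj_smul_eq_self_of_mem (hB₀ hw)]
  obtain ⟨w, η, hwA, hwB, hwo, hηB, hηc, hη1, hηX⟩ := M.exists_step hc'
  obtain ⟨n, hn⟩ := mem_zpowers_iff.mp (M.mem_zpowers_of_order hvA hvB hwA hwB hvo hwo)
  have hηv : η * v⁻¹ * η⁻¹ ∈ centralizer (X' : Set G) := by
    rw [← hn, ← zpow_neg, ← conj_zpow]
    exact zpow_mem hηX _
  have hvX : v ∈ centralizer (X' : Set G) := mem_centralizer_iff.mpr fun y hy => by
    have h := mem_centralizer_iff.mp hζX _ (hmem y hy)
    calc y * v = ζ⁻¹ * (ζ * y * ζ⁻¹ * (ζ * v * ζ⁻¹)) * ζ := by group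
      _ = ζ⁻¹ * (ζ * v * ζ⁻¹ * (ζ * y * ζ⁻¹)) * ζ := by rw [h]
      _ = _ := by group
  obtain ⟨h1, h2⟩ := M.conj_mem_center hvB hηB hηc
  set z' := v * η * v⁻¹ * η⁻¹
  have hz'1 : z' ≠ 1 := fun h => hη1 (M.eq_one_of_mem_normalizer_self hηB hηc
    (M.centralizer_le_normalizer hvA hvB hv1 (mem_centralizer_singleton_iff.mpr (by
      rw [mul_inv_eq_one, mul_inv_eq_iff_eq_mul] at h; exact h.symm))))
  obtain ⟨x, hx, hx1⟩ := (bot_or_exists_ne_one _).resolve_left hc'.2.2.2.2.2.1
  have hxz : x * z' = z' * x := by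
    have h3 := mem_centralizer_iff.mp (mul_mem hvX hηv) x hx
    simpa [z', mul_assoc] using h3
  exact M.not_conj hc' hx hx1 A.one_mem (by
    rw [inv_one, one_mul, mul_one]
    exact M.mem_normalizer_of_commute (B.mul_mem h1 (B.inv_mem hηB))
      (mul_mem h2 (inv_mem hηc)) hz'1 hxz)

theorem card_le : Nat.card A ≤ Nat.card B := by
  by_contra hlt
  push Not at hlt
  obtain ⟨r, hr, hrd⟩ := M.symm.exists_prime_dvd
  have := Fact.mk hr
  obtain ⟨z, hz, hz1⟩ := (bot_or_exists_ne_one _).resolve_left (partCenter_ne_bot hrd)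
  have hzB : z ∈ B := part_le _ _ hz.1
  have hzc := M.toData.mem_centralizer_of_mem_partCenter hz
  obtain ⟨x, hxA, hxz, hx1⟩ : ∃ x ∈ A, z⁻¹ * x * z ∈ A ∧ x ≠ 1 := by
    by_contra hcon
    push Not at hcon
    have hinj : Function.Injective (fun ab : A × A => (ab.1 : G) * z * (ab.2 : G)) := by
      rintro ⟨a, a'⟩ ⟨b, b'⟩ h
      simp only at h
      have e : z⁻¹ * ((b : G)⁻¹ * a) * z = (b' : G) * (a' : G)⁻¹ := by
        calc z⁻¹ * ((b : G)⁻¹ * a) * z = z⁻¹ * (b : G)⁻¹ * ((a : G) * z * a') * (a' : G)⁻¹ := by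
              group
          _ = z⁻¹ * (b : G)⁻¹ * ((b : G) * z * b') * (a' : G)⁻¹ := by rw [h]
          _ = _ := by group
      have h1 := hcon ((b : G)⁻¹ * a) (mul_mem (inv_mem b.2) a.2)
        (e ▸ mul_mem b'.2 (inv_mem a'.2))
      rw [h1, mul_one, inv_mul_cancel, eq_comm, mul_inv_eq_one] at e
      exact Prod.ext (Subtype.ext (inv_mul_eq_one.mp h1).symm) (Subtype.ext e.symm)
    have hle := Nat.card_le_card_of_injective _ hinj
    rw [Nat.card_prod, ← M.toData.card_eq] at hle
    exact absurd (Nat.le_of_mul_le_mul_left hle Nat.card_pos) (not_le.mpr hlt)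
  obtain ⟨p, k, hp, -, hk⟩ := exists_pow_prime_order hx1
  have := Fact.mk hp
  set T := part A p ⊓ MulAut.conj z • A with hT
  refine M.no_config (z := z) (X := T) ⟨hzB, hzc, hz1, hk ▸ Subgroup.orderOf_dvd_natCard A
    (pow_mem hxA k), inf_le_left, fun h => hp.ne_one ?_, fun y hy => ?_, fun w hw => ?_⟩
  · have hmem : x ^ k ∈ T := by
      refine ⟨mem_part M.hA (pow_mem hxA k) (k := 1) (by rw [hk, pow_one]), ?_⟩
      show x ^ k ∈ MulAut.conj z • A
      rw [Coprime.mem_conj_smul_iff]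
      have := conj_pow (i := k) (a := z⁻¹) (b := x)
      rw [inv_inv] at this
      rw [← this]
      exact pow_mem hxz k
    rw [h, mem_bot] at hmem
    rw [← hk, hmem, orderOf_one]
  · exact Coprime.mem_conj_smul_iff.mp hy.2
  · refine mem_normalizer_inf (normalizer_le_normalizer_part M.hA p hw.2)
      (Solvable.mem_normalizer_iff_conj_eq.mpr ?_)
    rw [Coprime.conj_smul_smul, mem_centralizer_iff.mp hzc w hw.1, ← Coprime.conj_smul_smul,
      Coprime.conj_smul_eq_self_of_mem hw.2]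

theorem contradiction' : False := by
  have h : Nat.card A = Nat.card B := le_antisymm M.card_le M.symm.card_le
  have h1 := M.cop
  rw [← h, Nat.coprime_self] at h1
  exact M.A_ne_bot (eq_bot_of_card_eq A h1)

end Min

/-- **Wielandt's theorem**: the product of two nilpotent subgroups of coprime orders is solvable. -/
theorem isSolvable : ∀ {G : Type u} [Group G] [Finite G] {A B : Subgroup G},
    Data A B → Group.IsSolvable G := by
  intro G _ _ A B D
  induction hn : Nat.card G using Nat.strong_induction_on generalizing G with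
  | _ n ih =>
    subst hn
    by_contra hns
    have hnt : Nontrivial G := not_subsingleton_iff_nontrivial.mp fun h => hns inferInstance
    have ihsub : ∀ U : Subgroup G, U ≠ ⊤ → Factors A B U → Group.IsSolvable U := fun U hU hf =>
      ih _ (lt_of_le_of_ne (card_le_card_group U) fun e => hU (eq_top_of_card_eq U e))
        (D.restrict hf) rfl
    by_cases hsimple : IsSimpleGroup G
    · refine Min.contradiction' (A := A) (B := B)
        { toData := D, simple := hsimple, notPrime := fun hp => hns ?_, ih := ihsub }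
      have := Fact.mk hp
      have := isCyclic_of_prime_card (α := G) rfl
      exact Group.isSolvable_of_comm fun a b => (IsCyclic.commGroup (α := G)).mul_comm a b
    obtain ⟨N, hN, hN0, hNt⟩ : ∃ N : Subgroup G, N.Normal ∧ N ≠ ⊥ ∧ N ≠ ⊤ := by
      by_contra hcon
      push Not at hcon
      exact hsimple ⟨fun N hN => or_iff_not_imp_left.mpr (hcon N hN)⟩
    have hf : Factors A B N := by
      intro g hg
      have hco : (A.subgroupOf N).index.Coprime (B.subgroupOf N).index :=
        ((D.symm.index_eq ▸ D.cop.symm).coprime_dvd_left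
          (Solvable.relIndex_dvd_index_of_normal_right A N)).coprime_dvd_right
          ((Solvable.relIndex_dvd_index_of_normal_right B N).trans D.index_eq.dvd)
      obtain ⟨a, ha, b, hb, e⟩ := Solvable.exists_mul_of_coprime_index hco ⟨g, hg⟩
      exact ⟨a, ha, b, hb, a.2, congrArg Subtype.val e⟩
    have hNs := ihsub N hNt hf
    have hQ : Group.IsSolvable (G ⧸ N) := by
      have hlt : Nat.card (G ⧸ N) < Nat.card G := by
        rw [← Solvable.card_quotient_mul_card N]
        exact lt_mul_of_one_lt_right Nat.card_pos ((Subgroup.one_lt_card_iff_ne_bot N).2 hN0)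
      have := D.hA
      have := D.hB
      set f := QuotientGroup.mk' N
      refine ih _ hlt (A := A.map f) (B := B.map f) ⟨Group.nilpotent_of_surjective _ (f.subgroupMap_surjective A),
        Group.nilpotent_of_surjective _ (f.subgroupMap_surjective B),
        (D.cop.coprime_dvd_left (card_map_dvd _ _)).coprime_dvd_right (card_map_dvd _ _),
        fun y => ?_⟩ rfl
      obtain ⟨g, rfl⟩ := QuotientGroup.mk'_surjective N y
      obtain ⟨a, ha, b, hb, rfl⟩ := D.prod g
      exact ⟨f a, mem_map_of_mem f ha, f b, mem_map_of_mem f hb, map_mul f a b⟩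
    exact hns (Group.isSolvable_of_ker_le_range N.subtype (QuotientGroup.mk' N) (by simp))

end Cfsg.Agent.NilProd
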